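import Cfsg.Agent.Lib.Lie.ChevParabolic
import Cfsg.Agent.Lib.Lie.GoodS

/-! A proper parabolic subgroup of a Chevalley group contains the centraliser of its unipotent radical in it. -/

set_option autoImplicit false

namespace Cfsg.Agent.ChevAut

open Cfsg.Lie Cfsg.Agent.Chev Cfsg.Agent.Chev.Tab

variable {T : Tab} {K : List (List ℕ)} {F : Type*} [Field F]

theorem conn_transfer (g : T.Good) {T' : Tab} (g' : T'.Good) (h : T'.D = T.D) (hc : T'.checkConn = true) :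
    ∀ S : Set ℕ, (∃ i < T.l, i ∈ S) → (∃ i < T.l, i ∉ S) →
      ∃ a < T.l, ∃ b < T.l, a ∈ S ∧ b ∉ S ∧ T.A a (T.smp b) ≠ 0 := by
  classical
  have hl : T'.l = T.l := by rw [← g'.rank_eq, h, g.rank_eq]
  intro S hne hne'
  let s₀ : Finset ℕ := (Finset.range T.l).filter (· ∈ S)
  let m : ℕ := ∑ i ∈ s₀, 2 ^ i
  have hbit : ∀ i < T.l, (Nat.testBit m i = true ↔ i ∈ S) := by
    intro i hi
    rw [← Nat.mem_bitIndices, ← List.mem_toFinset, Finset.toFinset_bitIndices_sum_two_pow]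
    simp [s₀, hi]
  have hm : m < 2 ^ T'.l := by
    rw [hl]
    exact Nat.geomSum_lt le_rfl fun i hi => by
      simp only [s₀, Finset.mem_filter, Finset.mem_range] at hi; exact hi.1
  obtain ⟨i, hi, hiS⟩ := hne
  obtain ⟨j, hj, hjS⟩ := hne'
  have h' := allBelow_eq_true.1 hc m hm
  simp only [Bool.or_eq_true, Bool.not_eq_true', Bool.and_eq_true, anyBelow_eq_true,
    beq_eq_false_iff_ne] at h'
  rcases h' with (h' | h') | ⟨a, ha, b, hb, ⟨hta, htb⟩, hA⟩
  · rw [← Bool.not_eq_true, anyBelow_eq_true] at h'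
    exact absurd ⟨i, hl.symm ▸ hi, (hbit i hi).2 hiS⟩ h'
  · rw [← Bool.not_eq_true, anyBelow_eq_true] at h'
    refine absurd ⟨j, hl.symm ▸ hj, ?_⟩ h'
    rw [Bool.not_eq_true', ← Bool.not_eq_true, hbit j hj]
    exact hjS
  · rw [hl] at ha hb
    refine ⟨a, ha, b, hb, (hbit a ha).1 hta, fun hbS => ?_, ?_⟩
    · rw [(hbit b hb).2 hbS] at htb; exact Bool.noConfusion htb
    · rw [← g'.cartan_eq (hl.symm ▸ ha) (g'.smp_lt (hl.symm ▸ hb)), ← g'.simple_eq (hl.symm ▸ hb), h,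
        g.simple_eq hb, g.cartan_eq ha (g.smp_lt hb)] at hA
      exact hA

theorem exists_ne_orth (g : T.Good)
    (hconn : ∀ S : Set ℕ, (∃ i < T.l, i ∈ S) → (∃ i < T.l, i ∉ S) →
      ∃ a < T.l, ∃ b < T.l, a ∈ S ∧ b ∉ S ∧ T.A a (T.smp b) ≠ 0)
    {J : Set ℕ} {k₀ : ℕ} (hk₀ : k₀ < T.l) (hk₀J : k₀ ∉ J) {i : ℕ} (hi : i < T.l) :
    i ∉ J ∨ (∃ r ∈ T.outJ J, 0 < T.A i r) ∧ ∃ r ∈ T.outJ J, T.A i r < 0 := by
  by_cases hiJ : i ∈ J
  swap
  · exact Or.inl hiJ
  refine Or.inr ?_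
  obtain ⟨r, hr, hne⟩ : ∃ r ∈ T.outJ J, T.A i r ≠ 0 := by
    by_contra hcon
    push Not at hcon
    obtain ⟨a, ha, b, hb, haS, hbS, hA⟩ :=
      hconn {j | j ∈ J ∧ ∀ r ∈ T.outJ J, T.A j r = 0} ⟨i, hi, hiJ, hcon⟩ ⟨k₀, hk₀, fun h => hk₀J h.1⟩
    simp only [Set.mem_ofPred_eq] at haS hbS
    by_cases hbJ : b ∈ J
    · refine hbS ⟨hbJ, fun r hr => ?_⟩
      have h1 := haS.2 _ (ref_outJ g hb hbJ hr)
      rw [A_ref g hb ha hr.2.1, haS.2 r hr, zero_sub, neg_eq_zero, mul_eq_zero] at h1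
      exact h1.resolve_left hA
    · exact hA (haS.2 _ ⟨g.smp_ge hb, g.smp_lt hb, b, hb, hbJ, by rw [c_smp g hb hb, if_pos rfl]; norm_num⟩)
  have h' := A_ref_self g hi hr.2.1
  rcases lt_or_gt_of_ne hne with h | h
  · exact ⟨⟨_, ref_outJ g hi hiJ hr, by omega⟩, r, hr, h⟩
  · exact ⟨⟨r, hr, h⟩, _, ref_outJ g hi hiJ hr, by omega⟩

theorem ref_lt_of_A_pos (g : T.Good) {i r : ℕ} (hi : i < T.l) (hr : T.N ≤ r) (hn : r < T.n)
    (hp : r ≠ T.smp i) (hA : 0 < T.A i r) : T.ref i r < r := by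
  have e := (g.refl' hi hn).2.2.2.2.1
  have hneg := (neg_lt_N_iff (g.smp_lt hi)).2 (g.smp_ge hi)
  rw [refSpec] at e
  simp only [hp, if_false, show r ≠ T.neg (T.smp i) by omega, hA, if_true] at e
  rcases hk : T.chRoot (T.neg (T.smp i)) r (T.A i r).toNat with _ | k <;> rw [hk] at e
  · simp only [Option.getD_none] at e
    have := A_ref_self g hi hn
    rw [e] at this
    omega
  · simp only [Option.getD_some] at e
    subst e
    simp only [chRoot, Option.map_eq_some_iff] at hk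
    obtain ⟨q, hq, hqk⟩ := hk
    have hne : T.ch (T.neg (T.smp i)) r ≠ [] := fun he => by simp [he] at hq
    obtain ⟨-, -, -, -, -, hlow⟩ := chainOK_spec _ _ 1 _
      (g.chain' (neg_lt (g.smp_lt hi)) hn hne).2.2.1 (q, (T.A i r).toNat)
      (by rw [List.mk_mem_zipIdx_iff_le_and_getElem?_sub]; exact ⟨by omega, hq⟩)
    have := (hlow hneg).1
    dsimp only at this
    omega

theorem step_of_A_neg (g : T.GoodK K) {J : Set ℕ} {i r : ℕ} (hi : i < T.l) (hr : r ∈ T.outJ J)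
    (hA : T.A i r < 0) :
    ∃ k ∈ T.outJ J, ∀ j < T.l, T.A j k = T.A j r + T.A j (T.smp i) := by
  have hg := g.toGood
  obtain ⟨hrN, hrn, c, hc, hcJ, hne⟩ := hr
  have hp : r ≠ T.smp i := fun e => by rw [e, A_smp_self hg hi] at hA; omega
  have hneg := (neg_lt_N_iff (hg.smp_lt hi)).2 (hg.smp_ge hi)
  have e := (hg.refl' hi hrn).2.2.2.2.1
  rw [refSpec] at e
  simp only [hp, if_false, show r ≠ T.neg (T.smp i) by omega, show ¬ (0 < T.A i r) by omega, hA, if_true] at e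
  rcases hk : T.chRoot (T.smp i) r (-T.A i r).toNat with _ | k' <;> rw [hk] at e
  · simp only [Option.getD_none] at e
    have := A_ref_self hg hi hrn
    rw [e] at this
    omega
  simp only [chRoot, Option.map_eq_some_iff] at hk
  obtain ⟨q, hq, -⟩ := hk
  obtain ⟨k, hk1⟩ : ∃ k, T.chRoot (T.smp i) r 1 = some k := by
    rcases hch : T.ch (T.smp i) r with _ | ⟨e', l⟩
    · simp [hch] at hq
    · exact ⟨e'.1, by simp [chRoot, hch]⟩
  obtain ⟨hkn, hkA, hkgt⟩ := chRoot_spec hg (hg.smp_lt hi) hrn le_rfl hk1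
  have hA' : ∀ j < T.l, T.A j k = T.A j r + T.A j (T.smp i) := fun j hj => by rw [hkA j hj]; push_cast; ring
  refine ⟨k, ⟨(le_trans hrN (hkgt (hg.smp_ge hi) hrN).2.le), hkn, c, hc, hcJ, ?_⟩, hA'⟩
  have h1 : 0 < T.phi K c r := by
    rw [(phi_sign g hc hrn).1]
    have := ((hg.sign' hrn).1 c hc).1 hrN
    omega
  have h2 : 0 ≤ T.phi K c (T.smp i) := by
    by_contra h
    have := (phi_sign g hc (hg.smp_lt hi)).2.1 (not_le.1 h)
    have := ((hg.sign' (hg.smp_lt hi)).1 c hc).1 (hg.smp_ge hi)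
    omega
  have h3 := phi_linear (K := K) (r := r) (s := T.smp i) (i := 1) (j := 1) (t := k)
    (fun j hj => by rw [hA' j hj]; ring) c
  have := (phi_sign g hc hkn).1.1 (by omega)
  omega

/-- `u x_k(w) u⁻¹ ≡ x_k(w)` modulo the higher root groups. -/
theorem pos_conj_low (g : T.GoodA) {k : ℕ} (hk : T.N ≤ k) (hkn : k < T.n) {u : GL T.D.Idx F}
    (hu : u ∈ genS g.toGood F (Set.Ico T.N T.n)) :
    ∀ w : F, ∃ z ∈ genS g.toGood F (Set.Ico (k + 1) T.n), u * xg g.toGood k w * u⁻¹ = xg g.toGood k w * z := by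
  have hg := g.toGood
  refine genS_induction hg (p := fun u => ∀ w : F, ∃ z ∈ genS hg F (Set.Ico (k + 1) T.n),
    u * xg hg k w * u⁻¹ = xg hg k w * z) (fun w => ⟨1, one_mem _, by simp⟩) ?_ hu
  rintro r ⟨hrN, hrn⟩ a y hy w
  obtain ⟨z, hz, e⟩ := hy w
  have hnorm := fun b : F => Subgroup.mem_normalizer_iff.1 (xg_normalizes_Ico g (k := k + 1) (by omega) hrn hrN b)
  obtain ⟨z', hz', e'⟩ : ∃ z' ∈ genS hg F (Set.Ico (k + 1) T.n),
      xg hg r a * xg hg k w * (xg hg r a)⁻¹ = xg hg k w * z' := by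
    by_cases hrk : r = k
    · subst hrk
      exact ⟨1, one_mem _, by rw [mul_one, xg_add, xg_inv, xg_add]; ring_nf⟩
    have hne : r ≠ T.neg k := by have := (neg_lt_N_iff hkn).2 hk; omega
    set W := ((cVal T F k r w a).map fun e => xg hg e.1 e.2).prod with hW
    refine ⟨xg hg r a * W * (xg hg r a)⁻¹, (hnorm a W).1 (Subgroup.list_prod_mem _ fun v hv => ?_), ?_⟩
    rotate_left
    · rw [xg_comm g hkn hrn hrk hne w a, ← hW]
      group
    simp only [cVal, List.map_map, List.mem_map, Function.comp_apply] at hv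
    obtain ⟨c, hc, rfl⟩ := hv
    obtain ⟨q1, -, -, -, q5⟩ := cTerms_mem hg hkn hrn hc
    exact xg_mem_genS hg (show c.1 ∈ Set.Ico (k + 1) T.n from ⟨(q5 hk hrN).1, q1⟩) _
  refine ⟨z' * (xg hg r a * z * (xg hg r a)⁻¹), mul_mem hz' ((hnorm a z).1 hz), ?_⟩
  calc _ = xg hg r a * (y * xg hg k w * y⁻¹) * (xg hg r a)⁻¹ := by group
    _ = (xg hg r a * xg hg k w * (xg hg r a)⁻¹) * (xg hg r a * z * (xg hg r a)⁻¹) := by rw [e]; group
    _ = _ := by rw [e']; group

theorem borel_norm_Ico (g : T.GoodA) {k : ℕ} (hk : T.N ≤ k) {b : GL T.D.Idx F}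
    (hb : b ∈ T.D.borelSubgroup F) :
    b ∈ Subgroup.normalizer (genS g.toGood F (Set.Ico k T.n) : Set (GL T.D.Idx F)) := by
  obtain ⟨u, hu, c, rfl⟩ := (mem_borel_iff g.toGood).1 hb
  exact mul_mem (genS_le g.toGood (fun r hr t => xg_normalizes_Ico g hk hr.2 hr.1 t) hu)
    (tor_normalizes g.toGood (fun r hr => hr.2) c)

theorem exists_longest_J (g : T.GoodK K) (J : Set ℕ) :
    ∃ L, T.Wd L ∧ (∀ j ∈ L, j ∈ J) ∧ ∀ s, T.N ≤ s → s ∈ T.inJ J → T.rw' L s < T.N := by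
  have hg := g.toGood
  have key : ∀ k L, T.Wd L → (∀ j ∈ L, j ∈ J) → T.n - (T.invSet L).card ≤ k →
      ∃ L, T.Wd L ∧ (∀ j ∈ L, j ∈ J) ∧ ∀ i < T.l, i ∈ J → T.rw' L (T.smp i) < T.N := by
    intro k
    induction k with
    | zero =>
      intro L hL hLJ hk
      refine ⟨L, hL, hLJ, fun i hi _ => ?_⟩
      by_contra h
      have h1 := invSet_grow hg hL hi (not_lt.1 h)
      have h2 : (T.invSet (L ++ [i])).card ≤ T.n := by
        refine (Finset.card_filter_le _ _).trans ?_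
        simp
      omega
    | succ k ih =>
      intro L hL hLJ hk
      by_cases h : ∀ i < T.l, i ∈ J → T.rw' L (T.smp i) < T.N
      · exact ⟨L, hL, hLJ, h⟩
      push Not at h
      obtain ⟨i, hi, hiJ, h⟩ := h
      have h1 := invSet_grow hg hL hi h
      exact ih (L ++ [i]) (Wd.append_iff.2 ⟨hL, by simp [Wd, hi]⟩)
        (by simp [or_imp, forall_and, hiJ]; exact hLJ) (by omega)
  obtain ⟨L, hL, hLJ, h⟩ := key T.n [] (by simp [Wd]) (by simp) (Nat.sub_le _ _)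
  refine ⟨L, hL, hLJ, fun s => ?_⟩
  induction s using Nat.strong_induction_on with
  | _ s ih =>
    intro hN hin
    obtain ⟨hs, hcJ⟩ := hin
    rcases exists_descent hg hs hN with ⟨i, hi, rfl⟩ | ⟨i, hi, h2, h1, m, hm, hk⟩
    · refine h i hi ?_
      by_contra hiJ
      have := hcJ i hi hiJ
      rw [c_smp hg hi hi, if_pos rfl] at this
      omega
    have hu := hg.ref_lt hi hs
    obtain ⟨-, hA, -⟩ := chRoot_spec hg (hg.smp_lt hi) hu hm hk
    have hiJ : i ∈ J := by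
      by_contra hiJ
      have e := phi_linear (K := K) (r := T.ref i s) (s := T.smp i) (t := s) (i := 1) (j := (m : ℤ))
        (fun j hj => by rw [hA j hj]; ring) i
      have h0 := hcJ i hi hiJ
      have q1 := phi_sign g hi hs
      have q2 : 0 < T.phi K i (T.smp i) := by
        rw [(phi_sign g hi (hg.smp_lt hi)).1, c_smp hg hi hi, if_pos rfl]; norm_num
      have q3 : 0 ≤ T.phi K i (T.ref i s) := by
        by_contra hh
        have := (phi_sign g hi hu).2.1 (not_le.1 hh)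
        have := ((hg.sign' hu).1 i hi).1 h2
        omega
      have q4 : 0 < (m : ℤ) * T.phi K i (T.smp i) := mul_pos (by exact_mod_cast hm) q2
      have := q1.1.1 (by rw [e]; omega)
      omega
    have hb := ih _ h1 h2 (ref_inJ hg hi hiJ ⟨hs, hcJ⟩)
    have ha := h i hi hiJ
    have hk' := chRoot_rw' hg hL (hg.smp_lt hi) hu m
    rw [hk, Option.map_some] at hk'
    simp only [chRoot, Option.map_eq_some_iff] at hk'
    obtain ⟨q, hq, hqk⟩ := hk'
    have hne : T.ch (T.rw' L (T.smp i)) (T.rw' L (T.ref i s)) ≠ [] := fun he => by simp [he] at hq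
    obtain ⟨-, -, -, -, -, hlow⟩ := chainOK_spec _ _ 1 _
      (hg.chain' (rw'_lt hg hL (hg.smp_lt hi)) (rw'_lt hg hL hu) hne).2.2.1 (q, m)
      (by rw [List.mk_mem_zipIdx_iff_le_and_getElem?_sub]; exact ⟨hm, hq⟩)
    have := (hlow ha).2.1 hb
    dsimp only at this
    omega

/-- `C_{P_J}(U_J) ≤ U_J` for proper `J`. -/
theorem centralizer_radical (g : T.GoodK K)
    (hconn : ∀ S : Set ℕ, (∃ i < T.l, i ∈ S) → (∃ i < T.l, i ∉ S) →
      ∃ a < T.l, ∃ b < T.l, a ∈ S ∧ b ∉ S ∧ T.A a (T.smp b) ≠ 0)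
    {J : Set ℕ} {k₀ : ℕ} (hk₀ : k₀ < T.l) (hk₀J : k₀ ∉ J) :
    T.D.parabolicSubgroup F J ⊓ Subgroup.centralizer (genS g.toGood F (T.outJ J) : Set (GL T.D.Idx F)) ≤
      genS g.toGood F (T.outJ J) := by
  have hg := g.toGood
  set P := T.D.parabolicSubgroup F J with hP
  set V := genS hg F (T.outJ J) with hV
  set C := P ⊓ Subgroup.centralizer (V : Set (GL T.D.Idx F)) with hC
  have hPN : P ≤ Subgroup.normalizer (V : Set (GL T.D.Idx F)) := parabolic_normalizes g J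
  have hCconj : ∀ p ∈ P, ∀ x ∈ C, p * x * p⁻¹ ∈ C := by
    rintro p hp x ⟨hx1, hx2⟩
    refine Subgroup.mem_inf.2 ⟨mul_mem (mul_mem hp hx1) (inv_mem hp), Subgroup.mem_centralizer_iff.2 fun v hv => ?_⟩
    have h := Subgroup.mem_centralizer_iff.1 hx2 (p⁻¹ * v * p) (by
      have := (Subgroup.mem_normalizer_iff.1 (inv_mem (hPN hp)) v).1 hv
      rwa [inv_inv] at this)
    calc v * (p * x * p⁻¹) = p * (p⁻¹ * v * p * x) * p⁻¹ := by group
      _ = p * (x * (p⁻¹ * v * p)) * p⁻¹ := by rw [h]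
      _ = _ := by group
  have hBP : T.D.borelSubgroup F ≤ P := le_sup_left
  -- `C ≤ B`
  have hCB : ∀ x ∈ C, x ∈ T.D.borelSubgroup F := by
    intro x hx
    have hPG : P ≤ T.D.group F := by rw [hP, ← normalizer_radical g J]; exact inf_le_right
    let BN' := bnPair g.toGoodA F
    let M : Subgroup ↥(T.D.group F) := (C ⊔ T.D.borelSubgroup F).subgroupOf (T.D.group F)
    have hMB : BN'.B ≤ M := fun y hy => Subgroup.mem_sup_right (show (y : GL T.D.Idx F) ∈ _ from hy)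
    have hxM : (⟨x, hPG hx.1⟩ : ↥(T.D.group F)) ∈ M := Subgroup.mem_sup_left hx
    rw [BN.eq_parabolic BN' M hMB] at hxM
    suffices hle : BN'.parabolic {s | s ∈ BN'.S ∧ s ∈ M} ≤ BN'.B from hle hxM
    refine sup_le le_rfl ((Subgroup.closure_le _).2 ?_)
    rintro y ⟨hyS, hyM⟩
    exfalso
    obtain ⟨i, hi, e⟩ := (mem_sSet_iff hg).1 hyS
    have hyM' : nG hg F i ∈ C ⊔ T.D.borelSubgroup F := e ▸ (show (y : GL T.D.Idx F) ∈ _ from hyM)
    have hnP : nG hg F i ∈ P := sup_le inf_le_left hBP hyM'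
    have hnor : T.D.borelSubgroup F ≤ Subgroup.normalizer (C : Set (GL T.D.Idx F)) := fun b hb => by
      rw [Subgroup.mem_normalizer_iff]
      refine fun z => ⟨hCconj b (hBP hb) z, fun hz => ?_⟩
      have := hCconj b⁻¹ (inv_mem (hBP hb)) _ hz
      simpa [mul_assoc] using this
    rw [← SetLike.mem_coe, Subgroup.coe_mul_of_right_le_normalizer_left _ _ hnor] at hyM'
    obtain ⟨c, hc, b, hb, e'⟩ := hyM'
    have hiJ : i ∈ J := by
      by_contra hiJ
      have hsmp : T.smp i ∈ T.outJ J :=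
        ⟨hg.smp_ge hi, hg.smp_lt hi, i, hi, hiJ, by rw [c_smp hg hi hi, if_pos rfl]; norm_num⟩
      have h := (Subgroup.mem_normalizer_iff.1 (hPN hnP) _).1 (xg_mem_genS hg hsmp (1 : F))
      rw [nG_conj hg hi (hg.smp_lt hi), hg.ref_smp hi] at h
      have h1 := borel_inf_neg hg (genS_pos_le_borel hg (fun r hr => outJ_pos hr) h)
        (xg_mem_genS hg (S := Set.Iio T.N) ((neg_lt_N_iff (hg.smp_lt hi)).2 (hg.smp_ge hi)) _)
      rw [← xg_zero hg (T.neg (T.smp i))] at h1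
      have := xg_injective hg (neg_lt (hg.smp_lt hi)) h1
      simp [hg.eta_smp hi] at this
    rcases exists_ne_orth hg hconn hk₀ hk₀J hi with hiJ' | ⟨⟨r, hr, hA⟩, -⟩
    · exact hiJ' hiJ
    · -- lower a root of the radical
      have hp : r ≠ T.smp i := fun e => by
        obtain ⟨k, hk, hkJ, hne⟩ := hr.2.2
        rw [e, c_smp hg hi hk, if_neg (fun e'' : k = i => hkJ (e'' ▸ hiJ))] at hne
        exact hne rfl
      have hlt := ref_lt_of_A_pos hg hi hr.1 hr.2.1 hp hA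
      have hN' := hg.ref_pos hi hr.2.1 hr.1 hp
      obtain ⟨t, ht⟩ : ∃ t : Fˣ, (t : F) = (T.eta i r : F) :=
        ⟨⟨_, _, eta_sq T i r, eta_sq T i r⟩, rfl⟩
      have hx1 := (Subgroup.mem_normalizer_iff.1 (hPN (hBP hb)) _).1 (xg_mem_genS hg hr (1 : F))
      have h2 : b * xg hg r (1 : F) * b⁻¹ = xg hg (T.ref i r) (t : F) := by
        have h := Subgroup.mem_centralizer_iff.1 hc.2 _ hx1
        calc b * xg hg r (1 : F) * b⁻¹ = (b * xg hg r (1 : F) * b⁻¹ * c) * c⁻¹ := by group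
          _ = (c * b) * xg hg r 1 * (c * b)⁻¹ := by rw [h]; group
          _ = _ := by
            rw [show c * b = nG hg F i from e', nG_conj hg hi hr.2.1, mul_one, ht]
      have hr' : r ∈ Set.Ico (T.ref i r + 1) T.n := ⟨hlt, hr.2.1⟩
      have h3 := (Subgroup.mem_normalizer_iff.1 (borel_norm_Ico g.toGoodA (by omega) hb) _).1
        (xg_mem_genS hg hr' (1 : F))
      rw [h2] at h3
      exact t.ne_zero (lowest_coeff hg hN' (hg.ref_lt hi hr.2.1) h3)
  -- `C ≤ U`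
  have hCU : ∀ x ∈ C, x ∈ genS hg F (Set.Ico T.N T.n) := by
    intro x hx
    obtain ⟨u, hu, c, rfl⟩ := (mem_borel_iff hg).1 (hCB x hx)
    have hw : ∀ k ∈ T.outJ J, wt T F c k = 1 := by
      intro k hk
      have h := Subgroup.mem_centralizer_iff.1 hx.2 _ (xg_mem_genS hg hk (1 : F))
      obtain ⟨z, hz, e⟩ := pos_conj_low g.toGoodA hk.1 hk.2.1 hu ((wt T F c k : F) * 1)
      have e2 : u * xg hg k ((wt T F c k : F) * 1) * u⁻¹ = xg hg k 1 := by
        rw [← tor_xg hg c hk.2.1, show u * (tor T F c * xg hg k 1 * (tor T F c)⁻¹) * u⁻¹ =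
          (u * tor T F c) * xg hg k 1 * (u * tor T F c)⁻¹ by group, ← h, mul_inv_cancel_right]
      rw [e2] at e
      have e3 : xg hg k (-((wt T F c k : F) * 1) + 1) = z := by
        rw [← xg_add, ← xg_inv, e]; group
      have := lowest_coeff hg hk.1 hk.2.1 (e3.symm ▸ hz)
      exact Units.ext (by rw [Units.val_one]; linear_combination -this)
    have hsim : ∀ i < T.l, wt T F c (T.smp i) = 1 := by
      intro i hi
      rcases exists_ne_orth hg hconn hk₀ hk₀J hi with hiJ | ⟨-, r, hr, hA⟩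
      · exact hw _ ⟨hg.smp_ge hi, hg.smp_lt hi, i, hi, hiJ, by rw [c_smp hg hi hi, if_pos rfl]; norm_num⟩
      · obtain ⟨k, hk, hkA⟩ := step_of_A_neg g hi hr hA
        have e : wt T F c k = wt T F c r * wt T F c (T.smp i) := by
          rw [wt, wt, wt, ← Finset.prod_mul_distrib]
          refine Finset.prod_congr rfl fun j hj => ?_
          rw [hkA j (Finset.mem_range.1 hj), _root_.zpow_add]
        rw [hw k hk, hw r hr, one_mul] at e
        exact e.symm
    have hall : ∀ s < T.n, wt T F c s = 1 := by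
      refine root_induction hg hsim fun i hi s hs ih => ?_
      have e : wt T F c (T.ref i s) = wt T F c s * wt T F c (T.smp i) ^ (-T.A i s) := by
        rw [wt, wt, wt, ← Finset.prod_zpow, ← Finset.prod_mul_distrib]
        refine Finset.prod_congr rfl fun j hj => ?_
        rw [A_ref hg hi (Finset.mem_range.1 hj) hs, ← zpow_mul, ← _root_.zpow_add]
        congr 1
        ring
      rw [e, ih, hsim i hi, _root_.one_zpow, mul_one]
    have h1 : tor T F c = 1 := by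
      rw [tor_apply, ← map_one (dg T F)]
      exact dg_congr hg fun s hs => hall s hs
    rwa [h1, mul_one]
  -- `C ≤ U_J`
  intro x hx
  obtain ⟨L, hL, hLJ, hLneg⟩ := exists_longest_J g J
  obtain ⟨v, hv, l, hl, rfl⟩ : ∃ v ∈ V, ∃ l ∈ genS hg F {r | T.N ≤ r ∧ r ∈ T.inJ J}, x = v * l := by
    refine genS_induction hg (p := fun x => ∃ v ∈ V, ∃ l ∈ genS hg F {r | T.N ≤ r ∧ r ∈ T.inJ J}, x = v * l)
      ⟨1, one_mem _, 1, one_mem _, by simp⟩ ?_ (hCU x hx)
    rintro r ⟨hrN, hrn⟩ a y ⟨v, hv, l, hl, rfl⟩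
    rcases outJ_or_inJ (J := J) hrN hrn with h | h
    · exact ⟨xg hg r a * v, mul_mem (xg_mem_genS hg h a) hv, l, hl, (mul_assoc _ _ _).symm⟩
    · refine ⟨xg hg r a * v * (xg hg r a)⁻¹,
        (Subgroup.mem_normalizer_iff.1 (outJ_normalized_pos g hrN hrn a) v).1 hv, xg hg r a * l,
        mul_mem (xg_mem_genS hg (show r ∈ {r | T.N ≤ r ∧ r ∈ T.inJ J} from ⟨hrN, h⟩) a) hl, by group⟩
  have hnW : nWd hg F L ∈ P := by
    refine Subgroup.list_prod_mem _ fun y hy => ?_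
    obtain ⟨i, hi, rfl⟩ := List.mem_map.1 hy
    exact Subgroup.mem_sup_right (Subgroup.subset_closure
      ⟨i, hLJ i hi, by rw [hg.rank_eq]; exact hL i hi, by rw [nG_val hg (hL i hi), nM]⟩)
  have h1 := hCU _ (hCconj _ hnW _ hx)
  have hvV := (Subgroup.mem_normalizer_iff.1 (hPN hnW) v).1 hv
  have hl1 : nWd hg F L * l * (nWd hg F L)⁻¹ ∈ genS hg F (Set.Ico T.N T.n) := by
    have e : nWd hg F L * l * (nWd hg F L)⁻¹ =
        (nWd hg F L * v * (nWd hg F L)⁻¹)⁻¹ * (nWd hg F L * (v * l) * (nWd hg F L)⁻¹) := by group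
    rw [e]
    exact mul_mem (inv_mem (genS_mono hg outJ_pos hvV)) h1
  have hl2 : nWd hg F L * l * (nWd hg F L)⁻¹ ∈ genS hg F (Set.Iio T.N) := by
    have h := Subgroup.mem_map_of_mem (MulAut.conj (nWd hg F L)).toMonoidHom hl
    rw [genS_map_nWd hg hL fun r hr => hr.2.1] at h
    refine genS_mono hg ?_ h
    rintro _ ⟨r, hr, rfl⟩
    exact hLneg r hr.1 hr.2
  have hl0 : l = 1 := conj_eq_one_iff.1 (borel_inf_neg hg (genS_pos_le_borel hg (fun r hr => hr) hl1) hl2)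
  rw [hl0, mul_one]
  exact hv

end Cfsg.Agent.ChevAut
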