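import Cfsg.Agent.Lib.Lie.ChevBruhat
import Cfsg.Agent.Lib.Lie.ChevLong
import Mathlib.Algebra.CharP.Frobenius

/-!
Elements of a Chevalley group fixed by a field endomorphism, and the centraliser of the root elements
`x_s(1)`.
-/

set_option autoImplicit false

namespace Cfsg.Agent.ChevAut

open Cfsg.Lie Cfsg.Agent.Chev Cfsg.Agent.Chev.Tab

variable {T : Tab} {F : Type*} [Field F]

/-- `u x_k(1) u⁻¹ ≡ x_k(1)` modulo the higher root groups. -/
theorem pos_conj_one (g : T.GoodA) {k : ℕ} (hk : T.N ≤ k) (hkn : k < T.n) {u : GL T.D.Idx F}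
    (hu : u ∈ genS g.toGood F (Set.Ico T.N T.n)) :
    ∃ z ∈ genS g.toGood F (Set.Ico (k + 1) T.n), u * xg g.toGood k 1 * u⁻¹ = xg g.toGood k (1 : F) * z := by
  have hg := g.toGood
  refine genS_induction hg (p := fun u => ∃ z ∈ genS hg F (Set.Ico (k + 1) T.n),
    u * xg hg k 1 * u⁻¹ = xg hg k (1 : F) * z) ⟨1, one_mem _, by simp⟩ ?_ hu
  rintro r ⟨hrN, hrn⟩ a y ⟨z, hz, e⟩
  have hnorm := Subgroup.mem_normalizer_iff.1 (xg_normalizes_Ico (F := F) g (k := k + 1) (by omega) hrn hrN a)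
  obtain ⟨z', hz', e'⟩ : ∃ z' ∈ genS hg F (Set.Ico (k + 1) T.n),
      xg hg r a * xg hg k 1 * (xg hg r a)⁻¹ = xg hg k (1 : F) * z' := by
    by_cases hrk : r = k
    · subst hrk
      exact ⟨1, one_mem _, by rw [mul_one, xg_add, xg_inv, xg_add]; ring_nf⟩
    have hne : r ≠ T.neg k := by have := (neg_lt_N_iff hkn).2 hk; omega
    set W := ((cVal T F k r 1 a).map fun e => xg hg e.1 e.2).prod with hW
    refine ⟨xg hg r a * W * (xg hg r a)⁻¹, (hnorm W).1 (Subgroup.list_prod_mem _ fun v hv => ?_), ?_⟩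
    rotate_left
    · rw [xg_comm g hkn hrn hrk hne (1 : F) a, ← hW]
      group
    simp only [cVal, List.map_map, List.mem_map, Function.comp_apply] at hv
    obtain ⟨c, hc, rfl⟩ := hv
    obtain ⟨q1, -, -, -, q5⟩ := cTerms_mem hg hkn hrn hc
    exact xg_mem_genS hg (show c.1 ∈ Set.Ico (k + 1) T.n from ⟨(q5 hk hrN).1, q1⟩) _
  refine ⟨z' * (xg hg r a * z * (xg hg r a)⁻¹), mul_mem hz' ((hnorm z).1 hz), ?_⟩
  calc _ = xg hg r a * (y * xg hg k 1 * y⁻¹) * (xg hg r a)⁻¹ := by group
    _ = (xg hg r a * xg hg k 1 * (xg hg r a)⁻¹) * (xg hg r a * z * (xg hg r a)⁻¹) := by rw [e]; group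
    _ = _ := by rw [e']; group

/-- An element commuting with the `x_s(1)`, `s` positive, lies in `B`. -/
theorem mem_borel_of_commute (g : T.GoodA) {x : GL T.D.Idx F} (hx : x ∈ T.D.group F)
    (h : ∀ s, T.N ≤ s → s < T.n → Commute x (xg g.toGood s 1)) : x ∈ T.D.borelSubgroup F := by
  have hg := g.toGood
  obtain ⟨b, hb, _, -, L, hL, ⟨c, rfl⟩, u, hu, rfl⟩ := bruhat_exists g hx
  have hu' : u ∈ genS hg F (Set.Ico T.N T.n) := uMinus_le_pos hg L hu
  rcases Finset.eq_empty_or_nonempty (T.invSet L) with h0 | hne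
  · obtain ⟨⟨d, hd⟩, -⟩ := nWd_torus_of_pos (F := F) hg L.length le_rfl hL
      (invSet_empty hg (by rw [h0]; rfl))
    exact mul_mem (mul_mem hb (by rw [hd, ← map_mul]; exact torus_le_borel hg _))
      (genS_pos_le_borel hg (fun r hr => hr) hu')
  exfalso
  set s := (T.invSet L).max' hne with hs
  have hmem := (T.invSet L).max'_mem hne
  rw [← hs] at hmem
  simp only [invSet, Finset.mem_filter, Finset.mem_Ico] at hmem
  obtain ⟨⟨hsN, hsn⟩, hneg⟩ := hmem
  obtain ⟨z, hz, e⟩ := pos_conj_one g hsN hsn hu'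
  set n := tor T F c * nWd hg F L with hn
  have hz' : n * z * n⁻¹ ∈ T.D.borelSubgroup F := by
    have h1 := Subgroup.mem_map_of_mem (MulAut.conj (nWd hg F L)).toMonoidHom hz
    rw [genS_map_nWd hg hL fun r hr => hr.2] at h1
    have h2 : genS hg F (T.rw' L '' Set.Ico (s + 1) T.n) ≤ T.D.borelSubgroup F := by
      refine genS_pos_le_borel hg ?_
      rintro _ ⟨r, hr, rfl⟩
      refine ⟨?_, rw'_lt hg hL hr.2⟩
      by_contra hc
      have hr1 : s + 1 ≤ r := hr.1
      have hmem : r ∈ T.invSet L := by simp [invSet, show T.N ≤ r by omega, hr.2, not_le.1 hc]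
      have := (T.invSet L).le_max' r hmem
      omega
    rw [hn, show tor T F c * nWd hg F L * z * (tor T F c * nWd hg F L)⁻¹ =
      tor T F c * (nWd hg F L * z * (nWd hg F L)⁻¹) * (tor T F c)⁻¹ by group]
    exact mul_mem (mul_mem (torus_le_borel hg c) (h2 h1)) (inv_mem (torus_le_borel hg c))
  have hxc : b⁻¹ * xg hg s 1 * b ∈ T.D.borelSubgroup F :=
    mul_mem (mul_mem (inv_mem hb) (pos_le_borel hg hsN hsn _)) hb
  have key : n * xg hg s 1 * n⁻¹ = (b⁻¹ * xg hg s 1 * b) * (n * z * n⁻¹)⁻¹ := by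
    have h1 := (h s hsN hsn).eq
    calc n * xg hg s 1 * n⁻¹ = n * (u * xg hg s 1 * u⁻¹) * n⁻¹ * (n * z * n⁻¹)⁻¹ := by rw [e]; group
      _ = b⁻¹ * ((b * n * u) * xg hg s 1) * (b * n * u)⁻¹ * b * (n * z * n⁻¹)⁻¹ := by group
      _ = _ := by rw [h1]; group
  obtain ⟨v, hv⟩ := mono_conj (F := F) hg hL c hsn
  rw [← hn] at hv
  rw [hv] at key
  have h3 : xg hg (T.rw' L s) ((v : F) * 1) = 1 :=
    borel_inf_neg hg (key ▸ mul_mem hxc (inv_mem hz')) (xg_mem_genS hg (S := Set.Iio T.N) hneg _)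
  rw [← xg_zero hg (T.rw' L s), mul_one] at h3
  exact v.ne_zero (xg_injective hg (rw'_lt hg hL hsn) h3)

/-- Only the identity commutes with all the `x_s(1)`. -/
theorem eq_one_of_commute (g : T.GoodA) {x : GL T.D.Idx F} (hx : x ∈ T.D.group F)
    (h : ∀ s < T.n, Commute x (xg g.toGood s 1)) : x = 1 := by
  have hg := g.toGood
  obtain ⟨L, hL, hneg, -⟩ := exists_longest hg
  set w := nWd hg F L with hw
  have hwG : w ∈ T.D.group F := monomial_le_group hg ((mem_monomial_iff hg).2 ⟨L, hL, 1, by simp [w]⟩)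
  have h' : w⁻¹ * x * w ∈ T.D.borelSubgroup F := by
    refine mem_borel_of_commute g (mul_mem (mul_mem (inv_mem hwG) hx) hwG) fun s _ hsn => ?_
    obtain ⟨ε, hε, hc⟩ := nWd_conj (F := F) hg hL hsn
    have hcomm : Commute x (xg hg (T.rw' L s) ((ε : F) * 1)) := by
      have he : (ε : F) * ε = 1 := by rw [← Units.val_mul, hε, Units.val_one]
      rw [mul_one]
      rcases mul_self_eq_one_iff.1 he with e | e <;> rw [e]
      · exact h _ (rw'_lt hg hL hsn)
      · rw [← xg_inv]; exact (h _ (rw'_lt hg hL hsn)).inv_right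
    rw [← (hc 1).1, ← hw] at hcomm
    show _ = _
    calc w⁻¹ * x * w * xg hg s 1 = w⁻¹ * (x * (w * xg hg s 1 * w⁻¹)) * w := by group
      _ = w⁻¹ * ((w * xg hg s 1 * w⁻¹) * x) * w := by rw [hcomm.eq]
      _ = _ := by group
  obtain ⟨u', hu', c', e'⟩ := (mem_borel_iff hg).1 h'
  obtain ⟨d, hd⟩ := wSub_conj_torus hg (nWd_mem_wSub (F := F) hg hL) c'
  rw [← hw] at hd
  have e : x = w * u' * w⁻¹ * tor T F d := by
    rw [← hd]
    calc x = w * (w⁻¹ * x * w) * w⁻¹ := by group
      _ = _ := by rw [e']; group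
  have hv : w * u' * w⁻¹ ∈ genS hg F (Set.Iio T.N) := by
    have h1 := Subgroup.mem_map_of_mem (MulAut.conj w).toMonoidHom hu'
    rw [hw, genS_map_nWd hg hL fun r hr => hr.2] at h1
    refine genS_mono hg ?_ h1
    rintro _ ⟨r, hr, rfl⟩
    exact hneg r hr.1 hr.2
  have hB := mem_borel_of_commute g hx fun s _ hs => h s hs
  have hv1 : w * u' * w⁻¹ = 1 := by
    refine borel_inf_neg hg ?_ hv
    have : w * u' * w⁻¹ = x * (tor T F d)⁻¹ := by rw [e]; group
    rw [this]
    exact mul_mem hB (inv_mem (torus_le_borel hg d))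
  rw [hv1, one_mul] at e
  rw [e, tor_apply, ← map_one (dg T F)]
  refine dg_congr hg fun s hs => Units.ext ?_
  have h1 := tor_xg hg d hs (1 : F)
  rw [← e, (h s hs).eq, mul_inv_cancel_right, mul_one] at h1
  exact (xg_injective hg hs h1).symm

/-! ### Fixed points of a field endomorphism -/

variable (T) in
/-- The action on matrices of a field endomorphism. -/
noncomputable def entryHom (σ : F →+* F) : GL T.D.Idx F →* GL T.D.Idx F :=
  Units.map (RingHom.mapMatrix σ).toMonoidHom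

theorem entryHom_apply (σ : F →+* F) (x : GL T.D.Idx F) (i j : T.D.Idx) :
    (entryHom T σ x : Matrix T.D.Idx T.D.Idx F) i j = σ ((x : Matrix T.D.Idx T.D.Idx F) i j) := rfl

theorem entryHom_xg (g : T.Good) (σ : F →+* F) (r : ℕ) (t : F) :
    entryHom T σ (xg g r t) = xg g r (σ t) := by
  refine Units.ext (Matrix.ext fun a b => ?_)
  rw [entryHom_apply, xg_val, xg_val]
  by_cases hr : r < T.D.nroots
  · simp only [ChevalleyDatum.x, dif_pos hr, ChevalleyDatum.xMat, Matrix.of_apply]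
    rcases b with b | b <;> rcases a with a | a <;> dsimp only <;> split_ifs <;>
      simp [map_list_sum, List.map_map, Function.comp_def]
  · simp only [ChevalleyDatum.x, dif_neg hr, Matrix.one_apply]
    split_ifs <;> simp

theorem entryHom_genS (g : T.Good) (σ : F →+* F) {S : Set ℕ} {x : GL T.D.Idx F} (hx : x ∈ genS g F S) :
    entryHom T σ x ∈ genS g F S := by
  refine genS_induction g (p := fun x => entryHom T σ x ∈ genS g F S) (by simp [one_mem]) ?_ hx
  intro r hr t y hy
  rw [map_mul, entryHom_xg]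
  exact mul_mem (xg_mem_genS g hr _) hy

theorem entryHom_group (g : T.Good) (σ : F →+* F) {x : GL T.D.Idx F} (hx : x ∈ T.D.group F) :
    entryHom T σ x ∈ T.D.group F := by
  induction hx using Subgroup.closure_induction with
  | mem y hy =>
    obtain ⟨r, t, hr⟩ := hy
    rw [show y = xg g r t from eq_xg g (by rw [hr, ChevalleyDatum.x, dif_pos r.2]), entryHom_xg]
    exact xg_mem_group g _ _
  | one => rw [map_one]; exact one_mem _
  | mul y z _ _ hy hz => rw [map_mul]; exact mul_mem hy hz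
  | inv y _ hy => rw [map_inv]; exact inv_mem hy

theorem entryHom_tor (σ : F →+* F) (c : ℕ → Fˣ) :
    entryHom T σ (tor T F c) = tor T F fun j => Units.map σ.toMonoidHom (c j) := by
  refine Units.ext (Matrix.ext fun a b => ?_)
  rw [entryHom_apply, tor_apply, tor_apply, dg_val, dg_val, Matrix.diagonal_apply, Matrix.diagonal_apply]
  split_ifs with hab
  · rcases a with a | a
    · simp [dgv]
    · simp only [dgv, Sum.elim_inr, wt, Units.coe_prod, map_prod]
      refine Finset.prod_congr rfl fun j _ => ?_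
      rw [← map_zpow (Units.map σ.toMonoidHom)]
      rfl
  · exact map_zero σ

/-- The subgroup generated by the root elements with `σ`-fixed parameter. -/
noncomputable def fixElem (g : T.Good) (σ : F →+* F) : Subgroup (GL T.D.Idx F) :=
  Subgroup.closure {y | ∃ s : ℕ, ∃ t : F, σ t = t ∧ y = xg g s t}

theorem xg_mem_fixElem (g : T.Good) {σ : F →+* F} (s : ℕ) {t : F} (ht : σ t = t) :
    xg g s t ∈ fixElem g σ := Subgroup.subset_closure ⟨s, t, ht, rfl⟩

theorem nWd_mem_fixElem (g : T.Good) (σ : F →+* F) (L : List ℕ) : nWd g F L ∈ fixElem g σ := by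
  refine Subgroup.list_prod_mem _ fun y hy => ?_
  obtain ⟨i, -, rfl⟩ := List.mem_map.1 hy
  exact mul_mem (mul_mem (xg_mem_fixElem g _ (map_one σ)) (xg_mem_fixElem g _ (by simp)))
    (xg_mem_fixElem g _ (map_one σ))

theorem fixElem_fixed (g : T.Good) (σ : F →+* F) {x : GL T.D.Idx F} (hx : x ∈ fixElem g σ) :
    entryHom T σ x = x := by
  have hle : fixElem g σ ≤ (entryHom T σ).eqLocus (MonoidHom.id _) := by
    refine (Subgroup.closure_le _).2 ?_
    rintro _ ⟨s, t, ht, rfl⟩
    show entryHom T σ (xg g s t) = xg g s t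
    rw [entryHom_xg, ht]
  exact hle hx

theorem pos_fixed_mem (g : T.GoodA) {σ : F →+* F} {u : GL T.D.Idx F}
    (hu : u ∈ genS g.toGood F (Set.Ico T.N T.n)) (h : entryHom T σ u = u) : u ∈ fixElem g.toGood σ := by
  have hg := g.toGood
  obtain ⟨he, huniq⟩ := ordProd_spec (F := F) g T.n T.N le_rfl (by omega)
  obtain ⟨t, rfl⟩ := he u hu
  have e : entryHom T σ (ordProd hg T.N t) = ordProd hg T.N fun r => σ (t r) := by
    rw [ordProd, ordProd, map_list_prod, List.map_map]
    exact congrArg List.prod (List.map_congr_left fun r _ => entryHom_xg hg σ r _)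
  rw [e] at h
  refine Subgroup.list_prod_mem _ fun y hy => ?_
  obtain ⟨r, hr, rfl⟩ := List.mem_map.1 hy
  rw [List.mem_range'_1] at hr
  exact xg_mem_fixElem hg r (huniq _ _ h r hr.1 (by omega))

/-- Fixed elements are `E h E` with `h` a fixed torus element. -/
theorem fixed_decomp (g : T.GoodA) {σ : F →+* F} {x : GL T.D.Idx F} (hx : x ∈ T.D.group F)
    (h : entryHom T σ x = x) :
    ∃ l ∈ fixElem g.toGood σ, ∃ c, entryHom T σ (tor T F c) = tor T F c ∧ ∃ r ∈ fixElem g.toGood σ,
      x = l * tor T F c * r := by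
  have hg := g.toGood
  obtain ⟨b, hb, _, -, L, hL, ⟨c, rfl⟩, u, hu, rfl⟩ := bruhat_exists g hx
  have hn : nWd hg F L ∈ T.D.monomialSubgroup F := (mem_monomial_iff hg).2 ⟨L, hL, 1, by simp⟩
  have hb' : b * tor T F c ∈ T.D.borelSubgroup F := mul_mem hb (torus_le_borel hg c)
  obtain ⟨v, hv, d, hd⟩ := (mem_borel_iff hg).1 hb'
  have hsb : entryHom T σ (b * tor T F c) ∈ T.D.borelSubgroup F := by
    rw [hd, map_mul, entryHom_tor]
    exact mul_mem (genS_pos_le_borel hg (fun r hr => hr) (entryHom_genS hg σ hv)) (torus_le_borel hg _)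
  have hsn : entryHom T σ (nWd hg F L) = nWd hg F L := fixElem_fixed hg σ (nWd_mem_fixElem hg σ L)
  have he : b * tor T F c * nWd hg F L * u =
      entryHom T σ (b * tor T F c) * nWd hg F L * entryHom T σ u := by
    conv_lhs => rw [show b * tor T F c * nWd hg F L * u = b * (tor T F c * nWd hg F L) * u by group, ← h,
      show b * (tor T F c * nWd hg F L) * u = b * tor T F c * nWd hg F L * u by group,
      map_mul, map_mul, hsn]
  obtain ⟨hbb, huu⟩ := (bruhat_unique g hb' hsb hn hn hL (c := 1) (by simp) hu (entryHom_genS hg σ hu) he).2 rfl rfl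
  rw [hd, map_mul] at hbb
  have hvd : v⁻¹ * entryHom T σ v = tor T F d * (entryHom T σ (tor T F d))⁻¹ := by
    calc v⁻¹ * entryHom T σ v = v⁻¹ * (entryHom T σ v * entryHom T σ (tor T F d)) *
          (entryHom T σ (tor T F d))⁻¹ := by group
      _ = _ := by rw [← hbb]; group
  have h1 := pos_inf_torus hg (mul_mem (inv_mem hv) (entryHom_genS hg σ hv)) (by
    rw [hvd, diagonalSubgroup_eq hg, entryHom_tor, ← map_inv, ← map_mul]
    exact ⟨_, rfl⟩)
  have hd' : entryHom T σ (tor T F d) = tor T F d := by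
    rw [hvd, mul_inv_eq_one] at h1; exact h1.symm
  refine ⟨v, pos_fixed_mem g hv (inv_mul_eq_one.1 h1).symm, d, hd', nWd hg F L * u,
    mul_mem (nWd_mem_fixElem hg σ L) (pos_fixed_mem g (uMinus_le_pos hg L hu) huu.symm), ?_⟩
  rw [← hd]; group

/-- Any subgroup between the elementary and the full fixed group is normal in the latter. -/
theorem fixed_normalizes (g : T.GoodA) {σ : F →+* F} {K : Subgroup (GL T.D.Idx F)} (hKG : K ≤ T.D.group F)
    (hEK : fixElem g.toGood σ ≤ K) (hKfix : ∀ y ∈ K, entryHom T σ y = y) {x : GL T.D.Idx F}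
    (hx : x ∈ T.D.group F) (h : entryHom T σ x = x) : x ∈ Subgroup.normalizer (K : Set (GL T.D.Idx F)) := by
  have hg := g.toGood
  have hE : ∀ c, entryHom T σ (tor T F c) = tor T F c → ∀ l ∈ fixElem hg σ,
      tor T F c * l * (tor T F c)⁻¹ ∈ fixElem hg σ := by
    intro c hc l hl
    have hle : fixElem hg σ ≤ (fixElem hg σ).comap (MulAut.conj (tor T F c)).toMonoidHom := by
      refine (Subgroup.closure_le _).2 ?_
      rintro _ ⟨s, t, ht, rfl⟩
      simp only [SetLike.mem_coe, Subgroup.mem_comap, MulEquiv.coe_toMonoidHom, MulAut.conj_apply]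
      by_cases hs : s < T.n
      swap
      · rw [xg_out hg hs, mul_one, mul_inv_cancel]; exact one_mem _
      rw [tor_xg hg c hs]
      refine xg_mem_fixElem hg s ?_
      have e := congrArg (entryHom T σ) (tor_xg hg c hs t)
      rw [map_mul, map_mul, map_inv, entryHom_xg, entryHom_xg, hc, ht, tor_xg hg c hs] at e
      exact (xg_injective hg hs e).symm
    simpa using hle hl
  have hKnorm : ∀ c, entryHom T σ (tor T F c) = tor T F c → ∀ k ∈ K, tor T F c * k * (tor T F c)⁻¹ ∈ K := by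
    intro c hc k hk
    obtain ⟨l, hl, d, -, r, hr, rfl⟩ := fixed_decomp g (hKG hk) (hKfix k hk)
    have hd : tor T F d ∈ K := by
      have := mul_mem (mul_mem (inv_mem (hEK hl)) hk) (inv_mem (hEK hr))
      simpa [mul_assoc] using this
    have e : tor T F c * (l * tor T F d * r) * (tor T F c)⁻¹ =
        (tor T F c * l * (tor T F c)⁻¹) * tor T F d * (tor T F c * r * (tor T F c)⁻¹) := by
      rw [show tor T F c * (l * tor T F d * r) * (tor T F c)⁻¹ =
        (tor T F c * l * (tor T F c)⁻¹) * (tor T F c * tor T F d * (tor T F c)⁻¹) *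
          (tor T F c * r * (tor T F c)⁻¹) by group, ← map_mul, mul_comm c d, map_mul, mul_inv_cancel_right]
    rw [e]
    exact mul_mem (mul_mem (hEK (hE c hc l hl)) hd) (hEK (hE c hc r hr))
  obtain ⟨l, hl, c, hc, r, hr, rfl⟩ := fixed_decomp g hx h
  refine mul_mem (mul_mem (Subgroup.le_normalizer (hEK hl)) ?_) (Subgroup.le_normalizer (hEK hr))
  rw [Subgroup.mem_normalizer_iff]
  refine fun k => ⟨hKnorm c hc k, fun hk => ?_⟩
  have := hKnorm c⁻¹ (by rw [map_inv, map_inv, hc]) _ hk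
  simpa [map_inv, mul_assoc] using this

end Cfsg.Agent.ChevAut
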