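import Cfsg.Agent.Lib.ChevAut.AutChecks

/-! The checks hold for the seven types. -/

set_option autoImplicit false
set_option maxRecDepth 8000

namespace Cfsg.Agent.ChevAut

open Cfsg.Lie Cfsg.Agent.Chev

theorem autOK_G2 : AutOK G2Data.tab [[2, 3], [1, 2]]
    [false, true] :=
  ⟨⟨⟨G2Data.good, by decide +kernel⟩, by decide +kernel⟩, by decide +kernel, by decide +kernel,
    by decide +kernel, by decide +kernel, by decide +kernel, by decide +kernel⟩

theorem autOK_B2 : AutOK B2Data.tab [[2, 2], [1, 2]]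
    [false, true] :=
  ⟨⟨⟨B2Data.good, by decide +kernel⟩, by decide +kernel⟩, by decide +kernel, by decide +kernel,
    by decide +kernel, by decide +kernel, by decide +kernel, by decide +kernel⟩

theorem autOK_D4 : AutOK D4Data.tab [[4, 4, 2, 2], [4, 8, 4, 4], [2, 4, 4, 2], [2, 4, 2, 4]]
    [] :=
  ⟨⟨⟨D4Data.good, by decide +kernel⟩, by decide +kernel⟩, by decide +kernel, by decide +kernel,
    by decide +kernel, by decide +kernel, by decide +kernel, by decide +kernel⟩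

theorem autOK_F4 : AutOK F4Data.tab [[2, 3, 4, 2], [3, 6, 8, 4], [2, 4, 6, 3], [1, 2, 3, 2]]
    [false, false, true, true] :=
  ⟨⟨⟨F4Data.good, by decide +kernel⟩, by decide +kernel⟩, by decide +kernel, by decide +kernel,
    by decide +kernel, by decide +kernel, by decide +kernel, by decide +kernel⟩

theorem autOK_E6 : AutOK E6Data.tab [[4, 3, 5, 6, 4, 2], [3, 6, 6, 9, 6, 3], [5, 6, 10, 12, 8, 4], [6, 9, 12, 18, 12, 6], [4, 6, 8, 12, 10, 5], [2, 3, 4, 6, 5, 4]]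
    [] :=
  ⟨⟨⟨E6Data.good, by decide +kernel⟩, by decide +kernel⟩, by decide +kernel, by decide +kernel,
    by decide +kernel, by decide +kernel, by decide +kernel, by decide +kernel⟩

theorem autOK_E7 : AutOK E7Data.tab [[4, 4, 6, 8, 6, 4, 2], [4, 7, 8, 12, 9, 6, 3], [6, 8, 12, 16, 12, 8, 4], [8, 12, 16, 24, 18, 12, 6], [6, 9, 12, 18, 15, 10, 5], [4, 6, 8, 12, 10, 8, 4], [2, 3, 4, 6, 5, 4, 3]]
    [] :=
  ⟨⟨⟨E7Data.good, by decide +kernel⟩, by decide +kernel⟩, by decide +kernel, by decide +kernel,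
    by decide +kernel, by decide +kernel, by decide +kernel, by decide +kernel⟩

theorem autOK_E8 : AutOK E8Data.tab [[4, 5, 7, 10, 8, 6, 4, 2], [5, 8, 10, 15, 12, 9, 6, 3], [7, 10, 14, 20, 16, 12, 8, 4], [10, 15, 20, 30, 24, 18, 12, 6], [8, 12, 16, 24, 20, 15, 10, 5], [6, 9, 12, 18, 15, 12, 8, 4], [4, 6, 8, 12, 10, 8, 6, 3], [2, 3, 4, 6, 5, 4, 3, 2]]
    [] :=
  ⟨⟨⟨E8Data.good, by decide +kernel⟩, by decide +kernel⟩, by decide +kernel, by decide +kernel,
    by decide +kernel, by decide +kernel, by decide +kernel, by decide +kernel⟩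

theorem exists_autOK {D : ChevalleyDatum}
    (hD : D ∈ [chevG2, chevB2, chevD4, chevF4, chevE6, chevE7, chevE8]) :
    ∃ T : Tab, ∃ K Ls, AutOK T K Ls ∧ T.D = D := by
  simp only [List.mem_cons, List.not_mem_nil, or_false] at hD
  rcases hD with rfl | rfl | rfl | rfl | rfl | rfl | rfl
  exacts [⟨_, _, _, autOK_G2, rfl⟩, ⟨_, _, _, autOK_B2, rfl⟩, ⟨_, _, _, autOK_D4, rfl⟩, ⟨_, _, _, autOK_F4, rfl⟩,
    ⟨_, _, _, autOK_E6, rfl⟩, ⟨_, _, _, autOK_E7, rfl⟩, ⟨_, _, _, autOK_E8, rfl⟩]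

end Cfsg.Agent.ChevAut
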