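import Cfsg.Agent.Lib.ChevAut.AutOut
import Cfsg.Agent.Lib.Lie.ChevGraphAut
import Mathlib.GroupTheory.Perm.Basic

/-! The permutations of the nodes realised by automorphisms. -/

set_option autoImplicit false
set_option maxRecDepth 8000

namespace Cfsg.Agent.ChevAut

open Cfsg.Lie Cfsg.Agent.Chev Cfsg.Agent.Chev.Tab

variable {T : Tab} {K : List (List ℕ)} {Ls : List Bool} {F : Type*} [Field F]

/-- may node `k` go to `j` if the earlier nodes go to `L`? -/
def extOK (T : Tab) (L : List ℕ) (k j : ℕ) : Bool :=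
  !L.contains j && allBelow (fun i => bd T (L.getD i 0) j == bd T i k) k

/-- all symmetries of the first `k` nodes of the diagram -/
def symList (T : Tab) : ℕ → List (List ℕ)
  | 0 => [[]]
  | k + 1 => (symList T k).flatMap fun L =>
      ((List.range T.l).filter (extOK T L k)).map fun j => L ++ [j]

/-- a permutation of the nodes as a list -/
def permList (π : Equiv.Perm (Fin T.l)) (k : ℕ) : List ℕ :=
  (List.range k).map fun i => if h : i < T.l then (π ⟨i, h⟩ : ℕ) else i

theorem permList_mem (π : Equiv.Perm (Fin T.l))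
    (hbd : ∀ i j : Fin T.l, i ≠ j → bd T (π i) (π j) = bd T i j) :
    ∀ k ≤ T.l, permList π k ∈ symList T k := by
  intro k
  induction k with
  | zero => simp [permList, symList]
  | succ k ih =>
    intro hk
    have hk' : k < T.l := hk
    rw [symList, List.mem_flatMap]
    refine ⟨permList π k, ih (Nat.le_of_succ_le hk), List.mem_map.2 ⟨(π ⟨k, hk'⟩ : ℕ), ?_, ?_⟩⟩
    · rw [List.mem_filter]
      refine ⟨List.mem_range.2 (π ⟨k, hk'⟩).2, ?_⟩
      simp only [extOK, Bool.and_eq_true, Bool.not_eq_true', List.contains_eq_mem, decide_eq_false_iff_not,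
        allBelow_eq_true, beq_iff_eq]
      constructor
      · simp only [permList, List.mem_map, List.mem_range, not_exists, not_and]
        intro i hi e
        rw [dif_pos (hi.trans hk')] at e
        have := congrArg Fin.val (π.injective (Fin.ext e))
        simp only at this
        omega
      · intro i hi
        have e : (permList π k).getD i 0 = (π ⟨i, hi.trans hk'⟩ : ℕ) := by
          simp [permList, List.getD_eq_getElem?_getD, hi, hi.trans hk']
        rw [e]
        exact hbd ⟨i, hi.trans hk'⟩ ⟨k, hk'⟩ (fun h => (ne_of_lt hi) (congrArg Fin.val h))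
    · simp [permList, List.range_succ, hk']

theorem permList_injective : Function.Injective fun π : Equiv.Perm (Fin T.l) => permList π T.l := by
  intro a b h
  refine Equiv.ext fun i => Fin.ext ?_
  have := congrArg (fun L : List ℕ => L.getD i 0) h
  simpa [permList, List.getD_eq_getElem?_getD] using this

theorem card_range_le [Finite F] (h : AutOK T K Ls) :
    Nat.card ↥(piHom h F).range ≤ (symList T T.l).length := by
  classical
  have hm : ∀ x : ↥(piHom h F).range, permList x.1 T.l ∈ (symList T T.l).toFinset := by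
    rintro ⟨_, θ, rfl⟩
    obtain ⟨μ, σ, -, hb⟩ := piHom_spec h θ
    exact List.mem_toFinset.2 (permList_mem _ hb _ le_rfl)
  have h1 := Nat.card_le_card_of_injective
    (fun x : ↥(piHom h F).range => (⟨_, hm x⟩ : {L // L ∈ (symList T T.l).toFinset}))
    (fun x y e => Subtype.ext (permList_injective (congrArg Subtype.val e)))
  rw [Nat.card_eq_finsetCard] at h1
  exact h1.trans (List.toFinset_card_le _)

/-- A graph-type automorphism with the given images lies over its permutation. -/
theorem mem_range_of_aut [Finite F] (h : AutOK T K Ls) (ρ : Equiv.Perm (Fin T.l))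
    (e : Fin T.l → ℕ) (he : ∀ i, e i = exC F Ls ρ i)
    {α : ↥(T.D.group F) ≃* ↥(T.D.group F)}
    (hα : ∀ (i : Fin T.l) (t : F),
      α (xe h.good.toGood (T.smp i) t) = xe h.good.toGood (T.smp (ρ i)) (t ^ e i) ∧
      α (xe h.good.toGood (T.neg (T.smp i)) t) = xe h.good.toGood (T.neg (T.smp (ρ i))) (t ^ e i)) :
    ρ ∈ (piHom h F).range := by
  have hs : Std h.good.toGood Ls α ρ 1 (RingEquiv.refl F) := fun i t => by
    simpa [← he] using hα i t
  exact ⟨⟨α, hs.mem h.good⟩, piHom_eq h hs⟩

/-- The images demanded by `mem_range_of_aut` from their matrix form. -/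
theorem aut_images (g : T.Good) {ρ : Equiv.Perm (Fin T.l)} {e : Fin T.l → ℕ}
    {α : ↥(T.D.group F) ≃* ↥(T.D.group F)}
    (hα : ∀ (x : ↥(T.D.group F)) (i : Fin T.l) (t : F),
      (((x : GL T.D.Idx F) : Matrix T.D.Idx T.D.Idx F) = T.D.x F (T.D.simple i) t →
        ((α x : GL T.D.Idx F) : Matrix T.D.Idx T.D.Idx F) = T.D.x F (T.D.simple (ρ i)) (t ^ e i)) ∧
      (((x : GL T.D.Idx F) : Matrix T.D.Idx T.D.Idx F) = T.D.x F (T.D.neg (T.D.simple i)) t →
        ((α x : GL T.D.Idx F) : Matrix T.D.Idx T.D.Idx F) =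
          T.D.x F (T.D.neg (T.D.simple (ρ i))) (t ^ e i))) (i : Fin T.l) (t : F) :
      α (xe g (T.smp i) t) = xe g (T.smp (ρ i)) (t ^ e i) ∧
      α (xe g (T.neg (T.smp i)) t) = xe g (T.neg (T.smp (ρ i))) (t ^ e i) := by
  have h1 := g.smp_lt i.2
  have h2 := g.smp_lt (ρ i).2
  constructor
  · refine Subtype.ext (eq_xg g ?_)
    rw [(hα _ i t).1 (by rw [g.simple_eq i.2]; exact xg_val g _ _), g.simple_eq (ρ i).2]
  · refine Subtype.ext (eq_xg g ?_)
    rw [(hα _ i t).2 (by rw [g.simple_eq i.2, g.neg_eq h1]; exact xg_val g _ _),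
      g.simple_eq (ρ i).2, g.neg_eq h2]

end Cfsg.Agent.ChevAut

namespace Cfsg.Agent.Chev.D4Data

/-- the symmetry exchanging two end nodes -/
def symC : Sym :=
  ⟨[2, 1, 0, 3], [2, 1, 0, 3],
    [0, 1, 2, 6, 7, 10, 3, 4, 8, 9, 5, 11, 12, 18, 14, 15, 19, 20, 13, 16, 17, 21, 22, 23],
    [0, 1, 2, 6, 7, 10, 3, 4, 8, 9, 5, 11, 12, 18, 14, 15, 19, 20, 13, 16, 17, 21, 22, 23],
    [1, 1, 1, -1, -1, 1, -1, -1, 1, 1, 1, 1, 1, 1, 1, 1, -1, -1, 1, -1, -1, 1, 1, 1]⟩

theorem symC_ok : tab.checkSym symC = true := by decide +kernel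

end Cfsg.Agent.Chev.D4Data
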