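import Cfsg.Agent.Lib.ChevAut.AutGroup
import Mathlib.FieldTheory.Finite.Basic
import Mathlib.FieldTheory.Galois.Basic

/-! The outer automorphism group through the normalised automorphisms. -/

set_option autoImplicit false

namespace Cfsg.Agent.ChevAut

open Cfsg.Lie Cfsg.Agent.Chev Cfsg.Agent.Chev.Tab
open scoped commutatorElement

variable {T : Tab} {K : List (List ℕ)} {Ls : List Bool} {F : Type*} [Field F]

/-- The group of field automorphisms is cyclic, of order the degree over the prime field. -/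
theorem ringAut_facts [Fintype F] (p f : ℕ) [Fact p.Prime] [CharP F p] (hF : Fintype.card F = p ^ f) :
    IsCyclic (F ≃+* F) ∧ Nat.card (F ≃+* F) = f := by
  let _ : Algebra (ZMod p) F := ZMod.algebra F p
  let e : (F ≃ₐ[ZMod p] F) ≃* (F ≃+* F) :=
    { toFun := fun a => a.toRingEquiv
      invFun := fun a => AlgEquiv.ofRingEquiv (f := a) fun r =>
        RingHom.congr_fun (RingHom.ext_zmod (a.toRingHom.comp (algebraMap (ZMod p) F))
          (algebraMap (ZMod p) F)) r
      left_inv := fun a => by ext; rfl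
      right_inv := fun a => by ext; rfl
      map_mul' := fun a b => by ext; rfl }
  refine ⟨isCyclic_of_surjective e.toMonoidHom e.surjective, ?_⟩
  rw [← Nat.card_congr e.toEquiv, IsGalois.card_aut_eq_finrank]
  have h := Module.card_eq_pow_finrank (K := ZMod p) (V := F)
  rw [ZMod.card, hF] at h
  exact (Nat.pow_right_injective (Fact.out : p.Prime).two_le h).symm

theorem exists_charP_pow [Fintype F] :
    ∃ p f : ℕ, ∃ _ : Fact p.Prime, ∃ _ : CharP F p, Fintype.card F = p ^ f := by
  obtain ⟨p, hp⟩ := CharP.exists F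
  obtain ⟨n, hpr, hn⟩ := FiniteField.card F p
  exact ⟨p, n, ⟨hpr⟩, hp, hn⟩

section
variable {D : ChevalleyDatum}
  (hD : D ∈ [chevG2, chevB2, chevD4, chevF4, chevE6, chevE7, chevE8])

variable [Finite F]

/-- the diagonal automorphism with given values on the fundamental roots -/
noncomputable def diagHom (h : AutOK T K Ls) (hT : T.D ∈ [chevG2, chevB2, chevD4, chevF4, chevE6, chevE7, chevE8])
    (F : Type*) [Field F] [Finite F] : (Fin T.l → Fˣ) →* ↥(normAut h.good.toGood F) where
  toFun μ := ⟨(exists_diag_param h hT rfl μ).choose, (exists_diag_param h hT rfl μ).choose_spec.2.mem h.good⟩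
  map_one' := by
    refine Subtype.ext (std_diag_unique h.good.toGood (exists_diag_param h hT rfl 1).choose_spec.2 ?_)
    intro i t
    simp [exC_one]
  map_mul' μ ν := by
    refine Subtype.ext (std_diag_unique h.good.toGood (exists_diag_param h hT rfl (μ * ν)).choose_spec.2 ?_)
    have hμ := (exists_diag_param (F := F) h hT rfl μ).choose_spec.2
    have hν := (exists_diag_param (F := F) h hT rfl ν).choose_spec.2
    intro i t
    simp only [Std, exC_one, pow_one, Equiv.Perm.one_apply, RingEquiv.refl_apply] at hμ hν ⊢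
    simp only [Subgroup.coe_mul, MulAut.mul_apply, (hν i t).1, (hν i t).2, (hμ i _).1, (hμ i _).2,
      Pi.mul_apply, Units.val_mul, mul_inv, mul_assoc, and_self]

theorem diagHom_std (h : AutOK T K Ls) (hT : T.D ∈ [chevG2, chevB2, chevD4, chevF4, chevE6, chevE7, chevE8])
    (μ : Fin T.l → Fˣ) :
    Std h.good.toGood Ls (diagHom h hT F μ).1 1 μ (RingEquiv.refl F) ∧
      T.D.IsDiagonalAut (diagHom h hT F μ).1 :=
  ⟨(exists_diag_param h hT rfl μ).choose_spec.2, (exists_diag_param h hT rfl μ).choose_spec.1⟩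

/-- the field automorphisms inside the normalised group -/
noncomputable def fieldN (h : AutOK T K Ls) (F : Type*) [Field F] [Finite F] :
    (F ≃+* F) →* ↥(normAut h.good.toGood F) :=
  (fieldHom h.good.toGood F).codRestrict _ fun σ => (fieldAut_std h.good.toGood Ls σ).mem h.good

/-- the outer class of a normalised automorphism -/
noncomputable def qN (g : T.Good) (F : Type*) [Field F] :
    ↥(normAut g F) →* Cfsg.Out ↥(T.D.group F) :=
  (QuotientGroup.mk' (Cfsg.Inn ↥(T.D.group F))).comp (normAut g F).subtype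

theorem qN_surjective (g : T.GoodK K) : Function.Surjective (qN g.toGood F) := by
  intro z
  obtain ⟨θ, rfl⟩ := QuotientGroup.mk'_surjective _ z
  obtain ⟨x, hU, hV⟩ := exists_conj_UV g θ
  refine ⟨⟨MulAut.conj x * θ, hU, hV⟩, ?_⟩
  show QuotientGroup.mk' (Cfsg.Inn ↥(T.D.group F)) (MulAut.conj x * θ) =
    QuotientGroup.mk' (Cfsg.Inn ↥(T.D.group F)) θ
  rw [map_mul, mul_eq_right]
  exact (QuotientGroup.eq_one_iff _).2 ⟨x, rfl⟩

/-- the weights of torus elements on the fundamental roots -/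
noncomputable def cartanHom (T : Tab) (F : Type*) [Field F] : (ℕ → Fˣ) →* (Fin T.l → Fˣ) where
  toFun c k := wt T F c (T.smp k)
  map_one' := by funext k; simp [wt]
  map_mul' c d := by funext k; exact wt_mul c d _

theorem qN_ker (h : AutOK T K Ls) (hT : T.D ∈ [chevG2, chevB2, chevD4, chevF4, chevE6, chevE7, chevE8]) :
    (qN h.good.toGood F).ker = (cartanHom T F).range.map (diagHom h hT F) := by
  have hg := h.good.toGood
  ext θ
  rw [MonoidHom.mem_ker]
  show QuotientGroup.mk' (Cfsg.Inn ↥(T.D.group F)) θ.1 = 1 ↔ _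
  rw [QuotientGroup.mk'_apply, QuotientGroup.eq_one_iff]
  constructor
  · rintro ⟨x, hx⟩
    obtain ⟨c, hc⟩ := conj_mem_normAut h.good (hx ▸ θ.2 : MulAut.conj x ∈ normAut hg F)
    refine ⟨_, ⟨c, rfl⟩, Subtype.ext ?_⟩
    rw [← hx]
    exact std_diag_unique hg (diagHom_std h hT _).1 (tor_std hg Ls hc)
  · rintro ⟨_, ⟨c, rfl⟩, rfl⟩
    refine ⟨⟨tor T F c, tor_mem_group hg c⟩, ?_⟩
    exact std_diag_unique hg (tor_std hg Ls rfl) (diagHom_std h hT _).1

theorem diagHom_injective (h : AutOK T K Ls) (hT : T.D ∈ [chevG2, chevB2, chevD4, chevF4, chevE6, chevE7, chevE8]) :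
    Function.Injective (diagHom h hT F) := by
  intro μ ν e
  funext k
  have h1 := ((diagHom_std (F := F) h hT μ).1 k 1).1
  rw [e, ((diagHom_std (F := F) h hT ν).1 k 1).1] at h1
  have := xe_inj h.good.toGood (h.good.toGood.smp_lt k.2) h1
  simp only [exC_one, pow_one, RingEquiv.refl_apply, mul_one] at this
  exact Units.ext this.symm

theorem piHom_diag (h : AutOK T K Ls) (hT : T.D ∈ [chevG2, chevB2, chevD4, chevF4, chevE6, chevE7, chevE8])
    (μ : Fin T.l → Fˣ) : piHom h F (diagHom h hT F μ) = 1 :=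
  piHom_eq h (diagHom_std h hT μ).1

theorem piHom_field (h : AutOK T K Ls) (σ : F ≃+* F) : piHom h F (fieldN h F σ) = 1 :=
  piHom_eq h (fieldAut_std h.good.toGood Ls σ)

/-- parameters of the kernel of the permutation action -/
noncomputable def kerMap (h : AutOK T K Ls) (hT : T.D ∈ [chevG2, chevB2, chevD4, chevF4, chevE6, chevE7, chevE8])
    (F : Type*) [Field F] [Finite F] (q : (Fin T.l → Fˣ) × (F ≃+* F)) : ↥(piHom h F).ker :=
  ⟨diagHom h hT F q.1 * fieldN h F q.2, by
    rw [MonoidHom.mem_ker, map_mul, piHom_diag, piHom_field, one_mul]⟩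

theorem kerMap_bijective (h : AutOK T K Ls) (hT : T.D ∈ [chevG2, chevB2, chevD4, chevF4, chevE6, chevE7, chevE8]) :
    Function.Bijective (kerMap h hT F) := by
  have hg := h.good.toGood
  have hval : ∀ μ σ (i : Fin T.l) (t : F),
      (kerMap h hT F (μ, σ)).1.1 (xe hg (T.smp i) t) = xe hg (T.smp i) ((μ i : F) * σ t) ∧
      (kerMap h hT F (μ, σ)).1.1 (xe hg (T.neg (T.smp i)) t) =
        xe hg (T.neg (T.smp i)) (((μ i)⁻¹ : Fˣ) * σ t) := by
    intro μ σ i t
    have h1 := (diagHom_std (F := F) h hT μ).1 i (σ t)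
    simp only [exC_one, pow_one, Equiv.Perm.one_apply, RingEquiv.refl_apply] at h1
    show (diagHom h hT F μ).1 (fieldAut hg σ _) = _ ∧ (diagHom h hT F μ).1 (fieldAut hg σ _) = _
    rw [fieldAut_xe, fieldAut_xe]
    exact h1
  refine ⟨fun a b e => ?_, fun θ => ?_⟩
  · obtain ⟨μ, σ⟩ := a; obtain ⟨ν, τ⟩ := b
    rcases Nat.eq_zero_or_pos T.l with hl | hl
    · exfalso
      obtain ⟨i, hi, -⟩ := hg.exists_c_ne_zero (show 0 < T.n by
        have := hg.N_pos; have := n_def (T := T); omega) F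
      omega
    have key : ∀ (i : Fin T.l) (t : F), (μ i : F) * σ t = (ν i : F) * τ t := fun i t => by
      have h1 := (hval μ σ i t).1
      rw [e, (hval ν τ i t).1] at h1
      exact (xe_inj hg (hg.smp_lt i.2) h1).symm
    have hμ : μ = ν := funext fun i => Units.ext (by simpa using key i 1)
    subst hμ
    exact Prod.ext rfl (RingEquiv.ext fun t => mul_left_cancel₀ (Units.ne_zero _) (key ⟨0, hl⟩ t))
  · obtain ⟨μ, σ, hs, -⟩ := piHom_spec h θ.1
    rw [(MonoidHom.mem_ker).1 θ.2] at hs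
    refine ⟨(μ, σ), Subtype.ext (Subtype.ext (aut_ext hg fun i t => ?_))⟩
    have := hs i t
    simp only [exC_one, pow_one, Equiv.Perm.one_apply] at this
    exact ⟨(hval μ σ i t).1.trans this.1.symm, (hval μ σ i t).2.trans this.2.symm⟩

/-- The order of the outer automorphism group. -/
theorem card_out (h : AutOK T K Ls) (hT : T.D ∈ [chevG2, chevB2, chevD4, chevF4, chevE6, chevE7, chevE8]) :
    Nat.card (Cfsg.Out ↥(T.D.group F)) =
      Nat.card ↥(piHom h F).range * Nat.card (F ≃+* F) * (cartanHom T F).range.index := by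
  have hg := h.good.toGood
  have h1 : Nat.card ↥(normAut hg F) = Nat.card ↥(qN hg F).ker * Nat.card (Cfsg.Out ↥(T.D.group F)) := by
    rw [← Subgroup.card_mul_index (qN hg F).ker, Subgroup.index_ker,
      MonoidHom.range_eq_top.2 (qN_surjective h.good), Subgroup.card_top]
  have h2 : Nat.card ↥(normAut hg F) = Nat.card ↥(piHom h F).ker * Nat.card ↥(piHom h F).range := by
    rw [← Subgroup.index_ker, Subgroup.card_mul_index]
  have h3 : Nat.card ↥(piHom h F).ker = Nat.card (Fin T.l → Fˣ) * Nat.card (F ≃+* F) := by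
    rw [← Nat.card_congr (Equiv.ofBijective _ (kerMap_bijective h hT)), Nat.card_prod]
  have h4 : Nat.card ↥(qN hg F).ker = Nat.card ↥(cartanHom T F).range := by
    rw [qN_ker h hT, Subgroup.card_map_of_injective (diagHom_injective h hT)]
  rw [h1, h3, ← Subgroup.card_mul_index (cartanHom T F).range, h4] at h2
  have hpos : 0 < Nat.card ↥(cartanHom T F).range := Nat.card_pos
  refine Nat.eq_of_mul_eq_mul_left hpos (h2.trans ?_)
  ring

theorem diag_set_eq (h : AutOK T K Ls) (hT : T.D ∈ [chevG2, chevB2, chevD4, chevF4, chevE6, chevE7, chevE8]) :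
    (Subgroup.closure {φ : MulAut ↥(T.D.group F) | T.D.IsDiagonalAut φ}).map
        (QuotientGroup.mk' (Cfsg.Inn ↥(T.D.group F))) =
      (diagHom h hT F).range.map (qN h.good.toGood F) := by
  have e : {φ : MulAut ↥(T.D.group F) | T.D.IsDiagonalAut φ} =
      ((diagHom h hT F).range.map (normAut h.good.toGood F).subtype : Set _) := by
    ext φ
    constructor
    · intro hφ
      obtain ⟨μ, hμ⟩ := diag_std h.good.toGood Ls hT rfl hφ
      exact ⟨_, ⟨μ, rfl⟩, std_diag_unique h.good.toGood (diagHom_std h hT μ).1 hμ⟩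
    · rintro ⟨_, ⟨μ, rfl⟩, rfl⟩
      exact (diagHom_std h hT μ).2
  rw [e, Subgroup.closure_eq, Subgroup.map_map]
  rfl

theorem field_set_eq (h : AutOK T K Ls) :
    (Subgroup.closure {φ : MulAut ↥(T.D.group F) | T.D.IsFieldAut φ}).map
        (QuotientGroup.mk' (Cfsg.Inn ↥(T.D.group F))) =
      (fieldN h F).range.map (qN h.good.toGood F) := by
  have e : {φ : MulAut ↥(T.D.group F) | T.D.IsFieldAut φ} =
      ((fieldN h F).range.map (normAut h.good.toGood F).subtype : Set _) := by
    ext φ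
    constructor
    · intro hφ
      obtain ⟨σ, rfl⟩ := field_of_isFieldAut h.good.toGood hφ
      exact ⟨_, ⟨σ, rfl⟩, rfl⟩
    · rintro ⟨_, ⟨σ, rfl⟩, rfl⟩
      exact fieldAut_isFieldAut h.good.toGood σ
  rw [e, Subgroup.closure_eq, Subgroup.map_map]
  rfl

theorem diag_normal (h : AutOK T K Ls) (hT : T.D ∈ [chevG2, chevB2, chevD4, chevF4, chevE6, chevE7, chevE8]) :
    (diagHom h hT F).range.Normal := by
  have hg := h.good.toGood
  refine ⟨fun d hd θ => ?_⟩
  obtain ⟨ν, rfl⟩ := hd
  obtain ⟨μ, σ, hs, -⟩ := piHom_spec h θ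
  set π := piHom h F θ
  refine ⟨fun k => Units.map σ.toRingHom.toMonoidHom (ν (π.symm k) ^ exC F Ls π (π.symm k)), ?_⟩
  have hν := (diagHom_std (F := F) h hT ν).1
  simp only [Std, exC_one, pow_one, Equiv.Perm.one_apply, RingEquiv.refl_apply] at hν
  refine Subtype.ext (aut_ext hg fun i' u => ?_)
  obtain ⟨i, rfl⟩ := π.surjective i'
  obtain ⟨t, ht, hu⟩ := hs.surj i u
  obtain ⟨t', ht', hu'⟩ := hs.surj_neg i u
  have hd := (diagHom_std (F := F) h hT
    (fun k => Units.map σ.toRingHom.toMonoidHom (ν (π.symm k) ^ exC F Ls π (π.symm k)))).1 (π i) u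
  simp only [exC_one, pow_one, Equiv.Perm.one_apply, RingEquiv.refl_apply, Equiv.symm_apply_apply] at hd
  rw [hd.1, hd.2]
  simp only [Subgroup.coe_mul, Subgroup.coe_inv, MulAut.mul_apply]
  constructor
  · have e : θ.1⁻¹ (xe hg (T.smp (π i)) u) = xe hg (T.smp i) t := by
      rw [← ht, MulAut.inv_def, MulEquiv.symm_apply_apply]
    rw [e, (hν i t).1, (hs i _).1, hu]
    congr 1
    simp only [mul_pow, map_mul, Units.coe_map, RingHom.toMonoidHom_eq_coe, MonoidHom.coe_coe,
      RingEquiv.toRingHom_eq_coe, RingEquiv.coe_toRingHom, Units.val_pow_eq_pow_val]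
    ring
  · have e : θ.1⁻¹ (xe hg (T.neg (T.smp (π i))) u) = xe hg (T.neg (T.smp i)) t' := by
      rw [← ht', MulAut.inv_def, MulEquiv.symm_apply_apply]
    rw [e, (hν i t').2, (hs i _).2, hu']
    congr 1
    simp only [mul_pow, map_mul, Units.coe_map, RingHom.toMonoidHom_eq_coe, MonoidHom.coe_coe,
      RingEquiv.toRingHom_eq_coe, RingEquiv.coe_toRingHom, Units.val_pow_eq_pow_val, map_pow,
      Units.val_inv_eq_inv_val, map_inv₀, inv_pow]
    ring

theorem sup_eq_ker (h : AutOK T K Ls) (hT : T.D ∈ [chevG2, chevB2, chevD4, chevF4, chevE6, chevE7, chevE8]) :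
    (diagHom h hT F).range ⊔ (fieldN h F).range = (piHom h F).ker := by
  refine le_antisymm (sup_le ?_ ?_) fun θ hθ => ?_
  · rintro _ ⟨μ, rfl⟩; exact piHom_diag h hT μ
  · rintro _ ⟨σ, rfl⟩; exact piHom_field h σ
  · obtain ⟨⟨μ, σ⟩, e⟩ := (kerMap_bijective h hT).2 ⟨θ, hθ⟩
    have e' : diagHom h hT F μ * fieldN h F σ = θ := congrArg Subtype.val e
    rw [← e']
    exact mul_mem (Subgroup.mem_sup_left ⟨μ, rfl⟩) (Subgroup.mem_sup_right ⟨σ, rfl⟩)

/-- The structure of the outer automorphism group. -/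
theorem out_structure (h : AutOK T K Ls) (hT : T.D ∈ [chevG2, chevB2, chevD4, chevF4, chevE6, chevE7, chevE8])
    (Dbar Fbar : Subgroup (Cfsg.Out ↥(T.D.group F)))
    (hDbar : Dbar = (Subgroup.closure {φ : MulAut ↥(T.D.group F) | T.D.IsDiagonalAut φ}).map
      (QuotientGroup.mk' (Cfsg.Inn ↥(T.D.group F))))
    (hFbar : Fbar = (Subgroup.closure {φ : MulAut ↥(T.D.group F) | T.D.IsFieldAut φ}).map
      (QuotientGroup.mk' (Cfsg.Inn ↥(T.D.group F)))) :
    Dbar.Normal ∧ IsMulCommutative ↥Dbar ∧ IsCyclic ↥Fbar ∧ (Dbar ⊔ Fbar).Normal ∧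
      (Dbar ⊔ Fbar).index = Nat.card ↥(piHom h F).range ∧
      (commutator (Cfsg.Out ↥(T.D.group F)) ≤ Dbar ⊔ Fbar →
        ∀ a b : ↥(normAut h.good.toGood F), piHom h F a * piHom h F b = piHom h F b * piHom h F a) := by
  rw [diag_set_eq h hT] at hDbar
  rw [field_set_eq h] at hFbar
  subst hDbar hFbar
  set q := qN h.good.toGood F with hq
  have hsur : Function.Surjective q := qN_surjective h.good
  have hsup : (diagHom h hT F).range.map q ⊔ (fieldN h F).range.map q = (piHom h F).ker.map q := by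
    rw [← Subgroup.map_sup, sup_eq_ker h hT]
  have hle : q.ker ≤ (piHom h F).ker := by
    rw [hq, qN_ker h hT]
    rintro _ ⟨μ, -, rfl⟩
    exact piHom_diag h hT μ
  refine ⟨(diag_normal h hT).map q hsur, ?_, ?_, ?_, ?_, ?_⟩
  · refine ⟨⟨fun a b => ?_⟩⟩
    obtain ⟨_, ⟨μ, rfl⟩, ha⟩ := a.2
    obtain ⟨_, ⟨ν, rfl⟩, hb⟩ := b.2
    refine Subtype.ext ?_
    rw [Subgroup.coe_mul, Subgroup.coe_mul, ← ha, ← hb, ← map_mul, ← map_mul, ← map_mul, ← map_mul,
      mul_comm]
  · haveI := Fintype.ofFinite F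
    obtain ⟨p, f, hp, hc, hf⟩ := exists_charP_pow (F := F)
    haveI := (ringAut_facts p f hf).1
    rw [MonoidHom.map_range]
    exact isCyclic_of_surjective _ (q.comp (fieldN h F)).rangeRestrict_surjective
  · rw [hsup]; exact ((piHom h F).normal_ker).map q hsur
  · rw [hsup, Subgroup.index_map, MonoidHom.range_eq_top.2 hsur, Subgroup.index_top, mul_one,
      sup_eq_left.2 hle, Subgroup.index_ker]
  · intro hc a b
    have h1 : q ⁅a, b⁆ ∈ (piHom h F).ker.map q := by
      rw [← hsup, map_commutatorElement]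
      exact hc (Subgroup.commutator_mem_commutator (Subgroup.mem_top _) (Subgroup.mem_top _))
    obtain ⟨k, hk, e⟩ := h1
    have h2 : ⁅a, b⁆ ∈ (piHom h F).ker := by
      have : k⁻¹ * ⁅a, b⁆ ∈ q.ker := by rw [MonoidHom.mem_ker, map_mul, map_inv, e, inv_mul_cancel]
      simpa using mul_mem hk (hle this)
    rw [MonoidHom.mem_ker, map_commutatorElement, commutatorElement_eq_one_iff_mul_comm] at h2
    exact h2

end

end Cfsg.Agent.ChevAut
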