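import Cfsg.Agent.Lib.ChevAut.AutRoots
import Cfsg.Prelude.Def_ChevAutomorphisms

/-! Combinatorial checks used in the decomposition of automorphisms, and their meaning. -/

set_option autoImplicit false

namespace Cfsg.Agent.ChevAut

open Cfsg.Lie Cfsg.Agent.Chev Cfsg.Agent.Chev.Tab

variable {T : Tab} {K : List (List ℕ)} {F : Type*} [Field F]

/-- the product of the two Cartan integers -/
def bd (T : Tab) (i j : ℕ) : ℤ := T.A i (T.smp j) * T.A j (T.smp i)

/-- long root, computed in the packed tables -/
def longT (T : Tab) (r : ℕ) : Bool :=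
  anyBelow (fun s => !Nat.beq s r && !Nat.beq s (T.neg r) &&
    decide (2 ≤ (sumBelow (fun i => T.c s i * T.A i r) T.l).natAbs)) T.n

/-- the word acts trivially on the roots -/
def trivW (T : Tab) (L : List ℕ) : Bool := allBelow (fun s => Nat.beq (T.rw' L s) s) T.n

/-- bond number determined by the orders -/
def bondOf (t2 t3 t4 : Bool) : ℤ := bif t2 then 0 else bif t3 then 1 else bif t4 then 2 else 3

/-- bond numbers are determined by the orders of the products of two reflections -/
def checkBonds (T : Tab) : Bool :=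
  allBelow (fun i => allBelow (fun j => Nat.beq i j ||
    (bd T i j == bondOf (trivW T [i, j, i, j]) (trivW T [i, j, i, j, i, j])
      (trivW T [i, j, i, j, i, j, i, j]))) T.l) T.l

def checkLongs (T : Tab) (Ls : List Bool) : Bool :=
  allBelow (fun i => longT T (T.smp i) == Ls.getD i false) T.l

def expFlag (Ls : List Bool) (i i' : ℕ) : Bool := Ls.getD i' false && !Ls.getD i false

def edgeCond (A B A' B' : ℤ) (fi fj : Bool) : Bool :=
  (A == A' && B == B' && fi == fj && (A == -1 || B == -1)) ||
    (A == -1 && (A' == -2 || A' == -3) && !fi && fj) ||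
    (B == -1 && (B' == -2 || B' == -3) && fi && !fj)

def checkEdge (T : Tab) (Ls : List Bool) : Bool :=
  allBelow (fun i => allBelow (fun j => Nat.beq i j ||
    (((T.A i (T.smp j) == 0) == (T.A j (T.smp i) == 0)) &&
      (bd T i j == 0 || allBelow (fun i' => allBelow (fun j' => Nat.beq i' j' ||
        !(bd T i' j' == bd T i j) ||
        edgeCond (T.A i (T.smp j)) (T.A j (T.smp i)) (T.A i' (T.smp j')) (T.A j' (T.smp i'))
          (expFlag Ls i i') (expFlag Ls j j')) T.l) T.l))) T.l) T.l

/-- the coefficient forms are integral -/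
def checkCoef (T : Tab) (K : List (List ℕ)) : Bool :=
  allBelow (fun k => decide (0 < T.phi K k (T.smp k)) &&
    allBelow (fun i => Nat.beq i k || T.phi K k (T.smp i) == 0) T.l &&
    allBelow (fun s => T.phi K k s % T.phi K k (T.smp k) == 0) T.n) T.l

/-- all checks -/
structure AutOK (T : Tab) (K : List (List ℕ)) (Ls : List Bool) : Prop where
  good : T.GoodK K
  orth : checkOrth T = true
  conn : T.checkConn = true
  bonds : checkBonds T = true
  longs : checkLongs T Ls = true
  edge : checkEdge T Ls = true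
  coef : checkCoef T K = true

theorem isLong_eq (g : T.Good) {r : ℕ} (hr : r < T.n) : T.D.isLong r = longT T r := by
  rw [Bool.eq_iff_iff, ChevalleyDatum.isLong, longT, List.any_eq_true, anyBelow_eq_true, g.nroots_eq]
  have hp : ∀ s < T.n, T.D.pairing s r = sumBelow (fun i => T.c s i * T.A i r) T.l := by
    intro s hs
    rw [ChevalleyDatum.pairing, g.rank_eq, sumBelow_eq_sum, Finset.sum_range_induction _
      (fun k => ((List.range k).map fun i => (T.D.coroot.getD s #[]).getD i 0 * T.D.cartan i r).sum)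
      (by simp) T.l ?_]
    intro k hk
    rw [List.range_succ, List.map_append, List.sum_append, List.map_singleton, List.sum_singleton,
      g.coroot_eq hs hk, g.cartan_eq hk hr]
  constructor
  · rintro ⟨s, hs, h⟩
    have hs' := List.mem_range.1 hs
    refine ⟨s, hs', ?_⟩
    simp only [Bool.and_eq_true, bne_iff_ne, ne_eq, decide_eq_true_eq, g.neg_eq hr, hp s hs',
      Bool.not_eq_true', nat_beq_false] at h ⊢
    exact h
  · rintro ⟨s, hs', h⟩
    refine ⟨s, List.mem_range.2 hs', ?_⟩
    simp only [Bool.and_eq_true, bne_iff_ne, ne_eq, decide_eq_true_eq, g.neg_eq hr, hp s hs',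
      Bool.not_eq_true', nat_beq_false] at h ⊢
    exact h

theorem trivW_iff (g : T.Good) {L : List ℕ} (hL : T.Wd L) :
    trivW T L = true ↔ nWd g F L ∈ T.D.diagonalSubgroup F := by
  rw [trivW, allBelow_eq_true, diagonalSubgroup_eq g]
  constructor
  · intro h
    obtain ⟨⟨c, hc⟩, -⟩ := nWd_torus_of_pos (F := F) g L.length le_rfl hL
      (fun s h1 h2 => by rw [nat_beq.1 (h s h2)]; exact h1)
    exact ⟨c, hc.symm⟩
  · rintro ⟨c, hc⟩ s hs
    rw [nat_beq, rw'_of_nWd_eq (F := F) g hL (M := []) (by simp [Wd]) (c := 1) (d := c)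
      (by rw [nWd_nil, mul_one, hc, map_one, one_mul]) hs, rw'_nil]

theorem coef_spec (h : checkCoef T K = true) {k : ℕ} (hk : k < T.l) :
    0 < T.phi K k (T.smp k) ∧ (∀ i < T.l, i ≠ k → T.phi K k (T.smp i) = 0) ∧
      ∀ s < T.n, T.phi K k (T.smp k) ∣ T.phi K k s := by
  have h' := allBelow_eq_true.1 h k hk
  simp only [Bool.and_eq_true, decide_eq_true_eq, allBelow_eq_true, Bool.or_eq_true, nat_beq,
    beq_iff_eq] at h'
  exact ⟨h'.1.1, fun i hi hik => (h'.1.2 i hi).resolve_left hik,
    fun s hs => Int.dvd_of_emod_eq_zero (h'.2 s hs)⟩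

/-- The character of the root lattice with prescribed values on the fundamental roots. -/
theorem exists_character (g : T.GoodK K) (h : checkCoef T K = true) (μ : ℕ → Fˣ) :
    ∃ χ : ℕ → Fˣ, T.D.IsRootCharacter χ ∧
      (∀ k < T.l, χ (T.smp k) = μ k ∧ χ (T.neg (T.smp k)) = (μ k)⁻¹) := by
  have hg := g.toGood
  let cf : ℕ → ℕ → ℤ := fun k s => T.phi K k s / T.phi K k (T.smp k)
  have hneg : ∀ k < T.l, ∀ s < T.n, cf k (T.neg s) = -cf k s := by
    intro k hk s hs
    simp only [cf]
    rw [phi_neg g hs, Int.neg_ediv_of_dvd ((coef_spec h hk).2.2 s hs)]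
  refine ⟨fun s => ∏ k ∈ Finset.range T.l, μ k ^ cf k s, ⟨fun r hr => ?_, fun r s k hr hs hk => ?_⟩, ?_⟩
  · rw [hg.nroots_eq] at hr
    simp only [hg.neg_eq hr]
    rw [← Finset.prod_inv_distrib]
    exact Finset.prod_congr rfl fun k hk => by rw [hneg k (Finset.mem_range.1 hk) r hr, zpow_neg]
  · rw [hg.nroots_eq] at hr hs
    rw [hg.chainRoot_eq hr hs] at hk
    obtain ⟨hkn, hA, -⟩ := chRoot_spec hg hr hs le_rfl hk
    simp only
    rw [← Finset.prod_mul_distrib]
    refine Finset.prod_congr rfl fun j hj => ?_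
    have hj' := Finset.mem_range.1 hj
    rw [← _root_.zpow_add]
    congr 1
    have e := phi_linear (K := K) (r := r) (s := s) (t := k) (i := 1) (j := 1)
      (fun n hn => by rw [hA n hn]; push_cast; ring) j
    simp only [cf]
    rw [e, one_mul, one_mul, Int.add_ediv_of_dvd_left ((coef_spec h hj').2.2 r hr)]
  · intro k hk
    have h1 : (fun s => ∏ j ∈ Finset.range T.l, μ j ^ cf j s) (T.smp k) = μ k := by
      simp only
      rw [Finset.prod_eq_single k]
      · simp only [cf]
        rw [Int.ediv_self (coef_spec h hk).1.ne', zpow_one]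
      · intro j hj hjk
        simp only [cf]
        rw [(coef_spec h (Finset.mem_range.1 hj)).2.1 k hk hjk.symm, Int.zero_ediv, zpow_zero]
      · exact fun hn => absurd (Finset.mem_range.2 hk) hn
    refine ⟨h1, ?_⟩
    rw [← h1]
    simp only
    rw [← Finset.prod_inv_distrib]
    exact Finset.prod_congr rfl fun j hj => by
      rw [hneg j (Finset.mem_range.1 hj) _ (hg.smp_lt hk), zpow_neg]

end Cfsg.Agent.ChevAut
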