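import Cfsg.Agent.Lib.ChevAut.AutPerm

/-! The cokernel of the Cartan map and the condition on exceptional graph automorphisms. -/

set_option autoImplicit false

namespace Cfsg.Agent.ChevAut

open Cfsg.Lie Cfsg.Agent.Chev Cfsg.Agent.Chev.Tab

variable {T : Tab} {K : List (List ℕ)} {Ls : List Bool} {F : Type*} [Field F]

/-- `v` reads the cokernel of the Cartan matrix, of exponent `d`; `W` solves the congruences. -/
def checkCoker (T : Tab) (k₀ d : ℕ) (v : List ℤ) (W : List (List ℤ)) : Bool :=
  Nat.blt k₀ T.l && v.getD k₀ 0 == 1 &&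
    allBelow (fun j => sumBelow (fun k => v.getD k 0 * T.A j (T.smp k)) T.l % (d : ℤ) == 0) T.l &&
    allBelow (fun k => allBelow (fun i =>
      sumBelow (fun j => (W.getD k []).getD j 0 * T.A j (T.smp i)) T.l ==
        (bif Nat.beq i k then 1 else 0) - (bif Nat.beq i k₀ then v.getD k 0 else 0) +
          (bif Nat.beq k k₀ && Nat.beq i k₀ then (d : ℤ) else 0)) T.l) T.l

theorem zpow_finsetSum {G : Type*} [CommGroup G] (a : G) (s : Finset ℕ) (f : ℕ → ℤ) :
    a ^ (∑ i ∈ s, f i) = ∏ i ∈ s, a ^ f i := by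
  induction s using Finset.induction_on with
  | empty => simp
  | insert b s hb ih => rw [Finset.sum_insert hb, Finset.prod_insert hb, _root_.zpow_add, ih]

theorem coker_index [Finite F] {k₀ d : ℕ} {v : List ℤ} {W : List (List ℤ)}
    (hc : checkCoker T k₀ d v W = true) :
    (cartanHom T F).range.index = Nat.gcd (Nat.card Fˣ) d := by
  classical
  simp only [checkCoker, Bool.and_eq_true, nat_blt, beq_iff_eq, allBelow_eq_true] at hc
  obtain ⟨⟨⟨hk₀, hv₀⟩, hdiv⟩, hW⟩ := hc
  simp only [sumBelow_eq_sum] at hdiv hW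
  let ψ : (Fin T.l → Fˣ) →* Fˣ ⧸ (powMonoidHom d : Fˣ →* Fˣ).range :=
    { toFun := fun μ => QuotientGroup.mk (∏ k : Fin T.l, μ k ^ v.getD k 0)
      map_one' := by simp
      map_mul' := fun μ ν => by simp only [Pi.mul_apply, mul_zpow, Finset.prod_mul_distrib, QuotientGroup.mk_mul] }
  have hsur : Function.Surjective ψ := by
    intro z
    obtain ⟨u, rfl⟩ := QuotientGroup.mk_surjective z
    refine ⟨Pi.mulSingle ⟨k₀, hk₀⟩ u, congrArg QuotientGroup.mk ?_⟩
    rw [Finset.prod_eq_single ⟨k₀, hk₀⟩]
    · rw [Pi.mulSingle_eq_same, hv₀, zpow_one]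
    · intro k _ hk; simp [hk]
    · exact fun h => absurd (Finset.mem_univ _) h
  have hker : ψ.ker = (cartanHom T F).range := by
    refine le_antisymm (fun μ hμ => ?_) ?_
    · obtain ⟨u, hu⟩ : (∏ k : Fin T.l, μ k ^ v.getD k 0) ∈ (powMonoidHom d : Fˣ →* Fˣ).range :=
        (QuotientGroup.eq_one_iff _).1 hμ
      simp only [powMonoidHom_apply] at hu
      -- the preimage
      refine ⟨fun j => (∏ k : Fin T.l, μ k ^ (W.getD k []).getD j 0) *
        (u / μ ⟨k₀, hk₀⟩) ^ (W.getD k₀ []).getD j 0, funext fun i => ?_⟩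
      show wt T F _ (T.smp i) = μ i
      have e : ∀ k < T.l, ∀ x : Fˣ,
          ∏ j ∈ Finset.range T.l, (x ^ (W.getD k []).getD j 0) ^ T.A j (T.smp i) =
            x ^ ((bif Nat.beq (i : ℕ) k then 1 else 0) - (bif Nat.beq (i : ℕ) k₀ then v.getD k 0 else 0) +
              (bif Nat.beq k k₀ && Nat.beq (i : ℕ) k₀ then (d : ℤ) else 0)) := by
        intro k hk x
        simp only [← zpow_mul]
        rw [← zpow_finsetSum, hW k hk i i.2]
      simp only [wt, mul_zpow, Finset.prod_mul_distrib, ← Finset.prod_zpow]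
      rw [Finset.prod_comm, Finset.prod_congr rfl fun (k : Fin T.l) _ => e k k.2 (μ k), e k₀ hk₀]
      rw [show (k₀ : ℕ).beq k₀ = true from nat_beq.2 rfl, Bool.true_and, hv₀]
      by_cases hi : (i : ℕ) = k₀
      · have hi' : (⟨k₀, hk₀⟩ : Fin T.l) = i := Fin.ext hi.symm
        simp only [nat_beq.2 hi, cond_true, hi']
        have e2 : ∀ k : Fin T.l, μ k ^ ((bif Nat.beq (i : ℕ) k then (1 : ℤ) else 0) - v.getD k 0 +
              (bif Nat.beq (k : ℕ) k₀ && true then (d : ℤ) else 0)) =
            (if k = i then μ k ^ ((1 : ℤ) + d) else 1) / μ k ^ v.getD k 0 := by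
          intro k
          by_cases hk : k = i
          · subst hk
            rw [nat_beq.2 rfl, nat_beq.2 hi, if_pos rfl]
            simp only [Bool.and_true, cond_true]
            rw [div_eq_mul_inv, ← zpow_neg, ← _root_.zpow_add]
            congr 1; ring
          · have h1 : Nat.beq (i : ℕ) k = false := nat_beq_false.2 fun h => hk (Fin.ext h.symm)
            have h2 : Nat.beq (k : ℕ) k₀ = false := nat_beq_false.2 fun h => hk (Fin.ext (h.trans hi.symm))
            rw [h1, h2, if_neg hk]
            simp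
        simp only [e2, Finset.prod_div_distrib, Finset.prod_ite_eq', Finset.mem_univ, if_true, hu.symm]
        rw [sub_self, zero_add, zpow_natCast, div_pow, zpow_add, zpow_one, zpow_natCast]
        simp [div_eq_mul_inv, mul_assoc]
      · simp only [nat_beq_false.2 hi, cond_false, sub_zero, Bool.and_false, add_zero, zpow_zero, mul_one]
        rw [Finset.prod_eq_single i]
        · simp [nat_beq.2 rfl]
        · intro k _ hk
          simp [nat_beq_false.2 fun h => hk (Fin.ext h.symm)]
        · exact fun h => absurd (Finset.mem_univ _) h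
    · rintro _ ⟨c, rfl⟩
      refine (QuotientGroup.eq_one_iff _).2 ⟨∏ j ∈ Finset.range T.l, c j ^
        ((∑ k ∈ Finset.range T.l, v.getD k 0 * T.A j (T.smp k)) / (d : ℤ)), ?_⟩
      simp only [powMonoidHom_apply, ← Finset.prod_pow]
      show _ = ∏ k : Fin T.l, wt T F c (T.smp k) ^ v.getD (k : ℕ) 0
      rw [Fin.prod_univ_eq_prod_range (fun k => wt T F c (T.smp k) ^ v.getD k 0)]
      simp only [wt, ← Finset.prod_zpow]
      rw [Finset.prod_comm]
      refine Finset.prod_congr rfl fun j hj => ?_
      rw [← zpow_natCast, ← zpow_mul,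
        Int.ediv_mul_cancel (Int.dvd_of_emod_eq_zero (hdiv j (Finset.mem_range.1 hj))), zpow_finsetSum]
      exact Finset.prod_congr rfl fun k _ => by rw [← zpow_mul, mul_comm]
  rw [← hker, Subgroup.index_ker, MonoidHom.range_eq_top.2 hsur, Subgroup.card_top]
  show (powMonoidHom d : Fˣ →* Fˣ).range.index = _
  exact IsCyclic.index_powMonoidHom_range (G := Fˣ) d

/-- A reversed multiple bond forces the characteristic. -/
theorem char_of_flip [Finite F] (h : AutOK T K Ls) (θ : ↥(normAut h.good.toGood F)) (p : ℕ) [CharP F p]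
    {i j : Fin T.l} {k : ℕ} (hk : k = 2 ∨ k = 3) (h1 : T.A i (T.smp j) = -1)
    (h2 : T.A (piHom h F θ i) (T.smp (piHom h F θ j)) = -(k : ℤ)) (hq : k = 2 ∨ 3 ≤ Nat.card F) :
    p = k := by
  have hg := h.good.toGood
  haveI : Fact p.Prime :=
    ⟨(CharP.char_is_prime_or_zero F p).resolve_right (CharP.char_ne_zero_of_finite F p)⟩
  obtain ⟨π, hπ⟩ := exists_root_perm h.good h.orth θ.2.1 θ.2.2
  obtain ⟨a, φ, hlin, hA⟩ := exists_linear h.good hπ
  obtain ⟨μ, σ, hs, -⟩ := piHom_spec h θ
  have hππ : piHom h F θ = π := by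
    refine Equiv.ext fun i => ?_
    obtain ⟨t, ht, -⟩ := hs.surj i 1
    exact Fin.ext (hg.smp_inj (piHom h F θ i).2 (π i).2 (xg_root_eq hg (hg.smp_lt (piHom h F θ i).2)
      (hg.smp_lt (π i).2) one_ne_zero (congrArg Subtype.val (ht.symm.trans (hlin i t).1))))
  rw [hππ] at h2
  have hpow : ∀ x, φ j x = φ i x ^ k := by
    intro x
    rcases eq_or_ne x 0 with rfl | hx
    · rcases hk with rfl | rfl <;> simp
    have := hA i j x hx
    rw [h1, h2, zpow_neg_one, zpow_neg, zpow_natCast] at this
    exact inv_injective this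
  have hadd : ∀ x y : F, (x + y) ^ k = x ^ k + y ^ k := by
    intro x y
    obtain ⟨x', rfl⟩ := (φ i).surjective x
    obtain ⟨y', rfl⟩ := (φ i).surjective y
    rw [← map_add, ← hpow, ← hpow, ← hpow, map_add]
  have hprime : ∀ q : ℕ, q.Prime → (q : F) = 0 → p = q := fun q hq h0 =>
    (Nat.prime_dvd_prime_iff_eq Fact.out hq).1 ((CharP.cast_eq_zero_iff F p q).1 h0)
  have e1 := hadd 1 1
  rcases hk with rfl | rfl
  · exact hprime 2 Nat.prime_two (by push_cast; linear_combination e1)
  · have h6 : ((2 : ℕ) : F) * ((3 : ℕ) : F) = 0 := by push_cast; linear_combination e1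
    rcases mul_eq_zero.1 h6 with h0 | h0
    · exfalso
      have h2' : (2 : F) = 0 := by exact_mod_cast h0
      have hx : ∀ x : F, x = 0 ∨ x = 1 := fun x => by
        have e := hadd x 1
        have : x * (x - 1) = 0 := by linear_combination e - (x ^ 2 + 2 * x) * h2'
        rcases mul_eq_zero.1 this with hh | hh
        · exact Or.inl hh
        · exact Or.inr (sub_eq_zero.1 hh)
      have : Nat.card F ≤ 2 := by
        classical
        have hh := Nat.card_le_card_of_injective (fun x : F => decide (x = 0)) fun x y e => by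
          rcases hx x with rfl | rfl <;> rcases hx y with rfl | rfl <;> simp_all
        simpa using hh
      omega
    · exact hprime 3 Nat.prime_three h0

end Cfsg.Agent.ChevAut
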