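import Cfsg.Agent.Lib.Lie.ChevConj
import Cfsg.Agent.Lib.Lie.Good
import Cfsg.Prelude.Def_ChevAutomorphisms

/-! Homomorphisms of a Chevalley group are determined on the simple root elements. -/

set_option autoImplicit false

namespace Cfsg.Agent.ChevAut

open Cfsg.Lie Cfsg.Agent.Chev Cfsg.Agent.Chev.Tab Matrix

variable {T : Tab} {F : Type*} [Field F]

/-- A root element as an element of the group. -/
noncomputable def el (g : T.Good) (r : ℕ) (hr : r < T.n) (t : F) : T.D.group F :=
  ⟨⟨T.D.x F r t, T.D.x F r (-t), by rw [x_add g, add_neg_cancel, x_zero g],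
      by rw [x_add g, neg_add_cancel, x_zero g]⟩,
    Subgroup.subset_closure ⟨⟨r, g.nroots_eq ▸ hr⟩, t, by
      simp only [ChevalleyDatum.x]
      rw [dif_pos (g.nroots_eq ▸ hr)]⟩⟩

theorem coe_el (g : T.Good) {r : ℕ} (hr : r < T.n) (t : F) :
    (((el g r hr t : T.D.group F) : GL T.D.Idx F) : Matrix T.D.Idx T.D.Idx F) = T.D.x F r t := rfl

theorem eq_el (g : T.Good) {r : ℕ} (hr : r < T.n) (t : F) {y : T.D.group F}
    (h : ((y : GL T.D.Idx F) : Matrix T.D.Idx T.D.Idx F) = T.D.x F r t) : y = el g r hr t :=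
  Subtype.ext (Units.ext h)

/-- The element `n_p`. -/
noncomputable def nEl (g : T.Good) (i : ℕ) (hi : i < T.l) : T.D.group F :=
  el g _ (g.smp_lt hi) 1 * el g _ (neg_lt (g.smp_lt hi)) (-1) * el g _ (g.smp_lt hi) 1

theorem coe_nEl (g : T.Good) {i : ℕ} (hi : i < T.l) :
    (((nEl g i hi : T.D.group F) : GL T.D.Idx F) : Matrix T.D.Idx T.D.Idx F) = nM T F i := by
  simp [nEl, coe_el, nM, ChevalleyDatum.nMat, ChevalleyDatum.nWord, ChevalleyDatum.wordMat, g.simple_eq hi,
    g.neg_eq (g.smp_lt hi), mul_assoc]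

/-- The conjugation formula in the group. -/
theorem nEl_conj (g : T.Good) {i s : ℕ} (hi : i < T.l) (hs : s < T.n) (t : F) :
    nEl g i hi * el g s hs t = el g (T.ref i s) (g.ref_lt hi hs) ((T.eta i s : F) * t) * nEl g i hi := by
  apply Subtype.ext
  apply Units.ext
  simp only [Subgroup.coe_mul, Units.val_mul, coe_nEl, coe_el]
  exact n_conj g hi hs t

theorem el_ref (g : T.Good) {i s : ℕ} (hi : i < T.l) (hs : s < T.n) (t : F) :
    el g (T.ref i s) (g.ref_lt hi hs) t = nEl g i hi * el g s hs ((T.eta i s : F) * t) * (nEl g i hi)⁻¹ := by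
  rw [nEl_conj g hi hs, ← mul_assoc, eta_sq, one_mul, mul_inv_cancel_right]

/-- A homomorphism is determined by the images of the simple root elements and their negatives. -/
theorem hom_ext (g : T.Good) {M : Type*} [Group M] {f f' : T.D.group F →* M}
    (h : ∀ i (hi : i < T.l) (t : F), f (el g _ (g.smp_lt hi) t) = f' (el g _ (g.smp_lt hi) t) ∧
      f (el g _ (neg_lt (g.smp_lt hi)) t) = f' (el g _ (neg_lt (g.smp_lt hi)) t)) : f = f' := by
  have hn : ∀ i (hi : i < T.l), f (nEl g i hi) = f' (nEl g i hi) := fun i hi => by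
    simp only [nEl, map_mul, (h i hi 1).1, (h i hi (-1)).2]
  have hall : ∀ r, r < T.n → ∀ (hr : r < T.n) (t : F), f (el g r hr t) = f' (el g r hr t) := by
    refine root_induction g (fun i hi _ t => (h i hi t).1) fun i hi s hs ih _ t => ?_
    rw [el_ref g hi hs]
    simp only [map_mul, map_inv, hn i hi, ih hs]
  refine MonoidHom.ext fun y => ?_
  have key : T.D.group F ≤ (MonoidHom.eqLocus f f').map (T.D.group F).subtype := by
    refine (Subgroup.closure_le _).mpr ?_
    rintro u ⟨r, t, hu⟩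
    have hr : (r : ℕ) < T.n := g.nroots_eq ▸ r.2
    refine ⟨el g r hr t, hall r hr hr t, Units.ext ?_⟩
    show T.D.x F r t = _
    rw [hu, ChevalleyDatum.x, dif_pos r.2]
  obtain ⟨y', hy', e⟩ := key y.2
  rw [← Subtype.ext (e : (y' : GL T.D.Idx F) = y)]
  exact hy'

theorem simple_lt (g : T.Good) (i : Fin T.D.rank) : (i : ℕ) < T.l := g.rank_eq ▸ i.2

/-- Field and graph automorphisms commute. -/
theorem field_graph_comm (g : T.Good) (f φ : ↥(T.D.group F) ≃* ↥(T.D.group F))
    (hf : T.D.IsFieldAut f) (hφ : T.D.IsGraphAut φ) (y : ↥(T.D.group F)) : f (φ y) = φ (f y) := by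
  obtain ⟨σ, hσ⟩ := hf
  obtain ⟨π, -, hπ⟩ := hφ
  have hf' : ∀ r (hr : r < T.n) (t : F), f (el g r hr t) = el g r hr (σ t) := fun r hr t =>
    eq_el g hr _ (hσ _ r t (g.nroots_eq.symm ▸ hr) rfl)
  suffices (f.toMonoidHom.comp φ.toMonoidHom) = φ.toMonoidHom.comp f.toMonoidHom from DFunLike.congr_fun this y
  refine hom_ext g fun i hi t => ?_
  let i' : Fin T.D.rank := ⟨i, g.rank_eq.symm ▸ hi⟩
  set j := π i'
  have hj := simple_lt g j
  set e := T.D.graphExp (ringChar F) i j with he
  have h1 : ∀ t : F, φ (el g _ (g.smp_lt hi) t) = el g _ (g.smp_lt hj) (t ^ e) := fun t => by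
    refine eq_el g _ _ ?_
    rw [(hπ _ i' t).1 (by rw [coe_el, g.simple_eq hi]), g.simple_eq hj]
  have h2 : ∀ t : F, φ (el g _ (neg_lt (g.smp_lt hi)) t) = el g _ (neg_lt (g.smp_lt hj)) (t ^ e) := fun t => by
    refine eq_el g _ _ ?_
    rw [(hπ _ i' t).2 (by rw [coe_el, g.simple_eq hi, g.neg_eq (g.smp_lt hi)]), g.simple_eq hj,
      g.neg_eq (g.smp_lt hj)]
  constructor
  · show f (φ (el g _ (g.smp_lt hi) t)) = φ (f (el g _ (g.smp_lt hi) t))
    rw [h1, hf', hf', h1, map_pow]
  · show f (φ (el g _ (neg_lt (g.smp_lt hi)) t)) = φ (f (el g _ (neg_lt (g.smp_lt hi)) t))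
    rw [h2, hf', hf', h2, map_pow]

/-- The property of the data of types `D₄`, `E₆` used below. -/
def SimplyLaced (D : ChevalleyDatum) : Bool :=
  ((List.range D.rank).all fun i => (List.range D.rank).all fun j =>
    D.cartan i (D.simple j) == D.cartan j (D.simple i) &&
      (i == j || D.cartan i (D.simple j) == 0 || D.cartan i (D.simple j) == -1)) &&
  decide (((List.range D.nroots).map fun r => (D.coroot.getD r #[]).toList).Nodup)

theorem simplyLaced_D4 : SimplyLaced chevD4 = true := by decide +kernel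

theorem simplyLaced_E6 : SimplyLaced chevE6 = true := by decide +kernel

/-- The coroot coefficients of `r'` are those of `r` permuted by `π`. -/
def Perms (T : Tab) (π : Equiv.Perm (Fin T.D.rank)) (r r' : ℕ) : Prop :=
  r' < T.n ∧ ∀ j : Fin T.D.rank, T.c r' (π j) = T.c r j

theorem permRoot_eq (g : T.Good) (hS : SimplyLaced T.D = true) (π : Equiv.Perm (Fin T.D.rank)) {r r' : ℕ}
    (hr : r < T.n) (h : Perms T π r r') : T.D.permRoot π r = r' := by
  obtain ⟨hr', hc⟩ := h
  simp only [SimplyLaced, Bool.and_eq_true, decide_eq_true_eq] at hS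
  have hN := hS.2
  rw [List.nodup_map_iff_inj_on List.nodup_range] at hN
  set p : ℕ → Bool := fun s => (List.finRange T.D.rank).all fun i =>
      (T.D.coroot.getD s #[]).getD (π i).val 0 == (T.D.coroot.getD r #[]).getD i.val 0
  have hp : ∀ s, s < T.n → (p s = true ↔ ∀ j : Fin T.D.rank, T.c s (π j) = T.c r j) := fun s hs => by
    simp only [p, List.all_eq_true, List.mem_finRange, beq_iff_eq, true_implies]
    refine forall_congr' fun j => ?_
    rw [g.coroot_eq hs (simple_lt g (π j)), g.coroot_eq hr (simple_lt g j)]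
  have hsome : (List.range T.D.nroots).find? p = some r' := by
    rcases hfind : (List.range T.D.nroots).find? p with _ | s
    · exact absurd ((hp r' hr').mpr hc) (by
        simpa using List.find?_eq_none.mp hfind r' (List.mem_range.mpr (g.nroots_eq.symm ▸ hr')))
    · have hs : s < T.n := g.nroots_eq ▸ List.mem_range.mp (List.mem_of_find?_eq_some hfind)
      have hps := (hp s hs).mp (List.find?_some hfind)
      congr 1
      refine hN s (List.mem_range.mpr (g.nroots_eq.symm ▸ hs)) r' (List.mem_range.mpr (g.nroots_eq.symm ▸ hr')) ?_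
      rw [g.coroot_toList hs, g.coroot_toList hr', listBelow_eq, listBelow_eq]
      refine List.map_congr_left fun k hk => ?_
      obtain ⟨j, hj⟩ := π.surjective ⟨k, g.rank_eq.symm ▸ List.mem_range.mp hk⟩
      have hk' : ((π j : Fin T.D.rank) : ℕ) = k := congrArg Fin.val hj
      rw [← hk', hps j, hc j]
  simp only [ChevalleyDatum.permRoot]
  rw [hsome, Option.getD_some]

theorem graph_signs (g : T.Good) (hS : SimplyLaced T.D = true) (π : Equiv.Perm (Fin T.D.rank))
    (hπ : T.D.IsDiagramSymmetry π) (φ : ↥(T.D.group F) ≃* ↥(T.D.group F))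
    (hφ : ∀ (y : ↥(T.D.group F)) (i : Fin T.D.rank) (t : F),
      (((y : GL T.D.Idx F) : Matrix T.D.Idx T.D.Idx F) = T.D.x F (T.D.simple i) t →
        ((φ y : GL T.D.Idx F) : Matrix T.D.Idx T.D.Idx F) = T.D.x F (T.D.simple (π i)) t) ∧
      (((y : GL T.D.Idx F) : Matrix T.D.Idx T.D.Idx F) = T.D.x F (T.D.neg (T.D.simple i)) t →
        ((φ y : GL T.D.Idx F) : Matrix T.D.Idx T.D.Idx F) = T.D.x F (T.D.neg (T.D.simple (π i))) t))
    (r : ℕ) (hr : r < T.D.nroots) :
    ∃ ε : F, (ε = 1 ∨ ε = -1) ∧ ∀ (y : ↥(T.D.group F)) (t : F),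
      ((y : GL T.D.Idx F) : Matrix T.D.Idx T.D.Idx F) = T.D.x F r t →
        ((φ y : GL T.D.Idx F) : Matrix T.D.Idx T.D.Idx F) = T.D.x F (T.D.permRoot π r) (ε * t) := by
  rw [g.nroots_eq] at hr
  -- the Cartan matrix is invariant
  have hA : ∀ i j : Fin T.D.rank, T.A (π i) (T.smp (π j)) = T.A i (T.smp j) := by
    intro i j
    by_cases hij : i = j
    · subst hij
      rw [A_smp_self g (simple_lt g i), A_smp_self g (simple_lt g (π i))]
    have h := hπ i j hij
    simp only [ChevalleyDatum.bonds] at h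
    have hS' := hS
    simp only [SimplyLaced, Bool.and_eq_true, List.all_eq_true, List.mem_range, beq_iff_eq, Bool.or_eq_true] at hS'
    have hs : ∀ a b : Fin T.D.rank, a ≠ b → T.D.cartan a (T.D.simple b) = T.D.cartan b (T.D.simple a) ∧
        (T.D.cartan a (T.D.simple b) = 0 ∨ T.D.cartan a (T.D.simple b) = -1) := fun a b hab => by
      obtain ⟨h1, h2⟩ := hS'.1 a a.2 b b.2
      refine ⟨h1, ?_⟩
      rcases h2 with (h2 | h2) | h2
      · exact absurd (Fin.ext h2) hab
      · exact Or.inl h2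
      · exact Or.inr h2
    obtain ⟨e1, r1⟩ := hs _ _ (π.injective.ne hij)
    obtain ⟨e2, r2⟩ := hs i j hij
    rw [← e1, ← e2] at h
    have e : T.D.cartan (π i) (T.D.simple (π j)) = T.D.cartan i (T.D.simple j) := by
      rcases r1 with r1 | r1 <;> rcases r2 with r2 | r2 <;> rw [r1, r2] at h ⊢ <;> simp at h
    rwa [g.simple_eq (simple_lt g (π j)), g.simple_eq (simple_lt g j),
      g.cartan_eq (simple_lt g _) (g.smp_lt (simple_lt g _)), g.cartan_eq (simple_lt g _) (g.smp_lt (simple_lt g _))] at e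
  have hn : ∀ i : Fin T.D.rank, φ (nEl g i (simple_lt g i)) = nEl g (π i) (simple_lt g (π i)) := by
    intro i
    simp only [nEl, map_mul]
    have e1 : φ (el g _ (g.smp_lt (simple_lt g i)) 1) = el g _ (g.smp_lt (simple_lt g (π i))) 1 :=
      eq_el g _ _ (by rw [(hφ _ i 1).1 (by rw [coe_el, g.simple_eq]; exact simple_lt g i), g.simple_eq (simple_lt g _)])
    have e2 : φ (el g _ (neg_lt (g.smp_lt (simple_lt g i))) (-1)) = el g _ (neg_lt (g.smp_lt (simple_lt g (π i)))) (-1) :=
      eq_el g _ _ (by rw [(hφ _ i (-1)).2 (by rw [coe_el, g.simple_eq (simple_lt g i), g.neg_eq (g.smp_lt (simple_lt g i))]),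
        g.simple_eq (simple_lt g _), g.neg_eq (g.smp_lt (simple_lt g _))])
    rw [e1, e2]
  have key : ∀ s, s < T.n → ∀ hs : s < T.n, ∃ s', ∃ hs' : s' < T.n, Perms T π s s' ∧ ∃ ε : F, (ε = 1 ∨ ε = -1) ∧
      ∀ t, φ (el g s hs t) = el g s' hs' (ε * t) := by
    refine root_induction g (fun i hi _ => ?_) fun i hi s hs ih _ => ?_
    · let i' : Fin T.D.rank := ⟨i, g.rank_eq.symm ▸ hi⟩
      have hj := simple_lt g (π i')
      refine ⟨_, g.smp_lt hj, ⟨g.smp_lt hj, fun j => ?_⟩, 1, Or.inl rfl, fun t => ?_⟩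
      · rw [c_smp g hj (simple_lt g _), c_smp g hi (simple_lt g j)]
        refine if_congr ?_ rfl rfl
        rw [Fin.val_inj, π.injective.eq_iff, Fin.ext_iff]
      · exact eq_el g _ _ (by rw [(hφ _ i' t).1 (by rw [coe_el, g.simple_eq hi]), g.simple_eq hj, one_mul])
    · obtain ⟨s', hs', ⟨-, hc⟩, ε, hε, hφs⟩ := ih hs
      let i' : Fin T.D.rank := ⟨i, g.rank_eq.symm ▸ hi⟩
      have hj := simple_lt g (π i')
      refine ⟨T.ref (π i') s', g.ref_lt hj hs', ⟨g.ref_lt hj hs', fun j => ?_⟩,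
        (T.eta (π i') s' : F) * ε * (T.eta i s : F), ?_, fun t => ?_⟩
      · rw [((g.refl' hj hs').2.2.2.2.2.2.2.2 (π j) (simple_lt g _)).2,
          ((g.refl' hi hs).2.2.2.2.2.2.2.2 j (simple_lt g j)).2]
        have hsum : ∑ k ∈ Finset.range T.l, T.c s' k * T.A k (T.smp (π i')) =
            ∑ k ∈ Finset.range T.l, T.c s k * T.A k (T.smp i) := by
          rw [← g.rank_eq, ← Fin.sum_univ_eq_sum_range (fun k => T.c s' k * T.A k (T.smp (π i'))),
            ← Fin.sum_univ_eq_sum_range (fun k => T.c s k * T.A k (T.smp i)), ← Equiv.sum_comp π]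
          exact Finset.sum_congr rfl fun k _ => by rw [hc k, hA k i']
        rw [hc j, hsum]
        refine if_congr ?_ rfl rfl
        rw [Fin.val_inj, π.injective.eq_iff, Fin.ext_iff]
      · rcases hε with rfl | rfl <;> rcases eta_cases T (π i') s' with e | e <;> rcases eta_cases T i s with e' | e' <;>
          simp [e, e']
      · have hn' : φ (nEl g i hi) = nEl g _ hj := hn i'
        rw [el_ref g hi hs, map_mul, map_mul, map_inv, hφs, hn', el_ref g hj hs']
        congr 2
        congr 1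
        have := eta_sq (F := F) T (π i') s'
        linear_combination -(ε * (T.eta i s : F) * t) * this
  obtain ⟨r', hr', hp, ε, hε, h⟩ := key r hr hr
  refine ⟨ε, hε, fun y t hy => ?_⟩
  rw [eq_el g hr t hy, h, coe_el, permRoot_eq g hS π hr hp]

end Cfsg.Agent.ChevAut
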