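import Cfsg.Agent.Lib.ChevAut.AutLinear
import Cfsg.Agent.Lib.ChevAut.AutChecks
import Cfsg.Agent.Lib.ChevAut.FixedPoints
import Cfsg.Agent.Lib.ChevAut.SimpleGen
import Cfsg.Agent.Lib.Lie.ChevIsog
import Cfsg.Agent.S2157

/-! The decomposition of an automorphism of a Chevalley group: inner, diagonal, graph, field. -/

set_option autoImplicit false

namespace Cfsg.Agent.ChevAut

open Cfsg.Lie Cfsg.Agent.Chev Cfsg.Agent.Chev.Tab

variable {T : Tab} {K : List (List ℕ)} {Ls : List Bool} {F : Type*} [Field F]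

theorem image_nWd (g : T.GoodK K) {θ : MulAut ↥(T.D.group F)} {π : Equiv.Perm (Fin T.l)}
    {a : Fin T.l → Fˣ}
    (h : ∀ i : Fin T.l, θ (xe g.toGood (T.smp i) 1) = xe g.toGood (T.smp (π i)) (a i : F) ∧
      θ (xe g.toGood (T.neg (T.smp i)) (-1)) = xe g.toGood (T.neg (T.smp (π i))) (-(a i : F)⁻¹))
    (L : List (Fin T.l)) :
    ∃ (y : ↥(T.D.group F)) (c : ℕ → Fˣ),
      (y : GL T.D.Idx F) = nWd g.toGood F (L.map fun i : Fin T.l => (i : ℕ)) ∧
      (θ y : GL T.D.Idx F) = tor T F c * nWd g.toGood F (L.map fun i : Fin T.l => (π i : ℕ)) := by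
  have hg := g.toGood
  induction L with
  | nil => exact ⟨1, 1, by simp, by simp⟩
  | cons i L ih =>
    obtain ⟨y, c, hy, hθ⟩ := ih
    let n : ↥(T.D.group F) :=
      xe hg (T.smp i) 1 * xe hg (T.neg (T.smp i)) (-1) * xe hg (T.smp i) 1
    have hn : (n : GL T.D.Idx F) = nG hg F i := rfl
    have hθn : (θ n : GL T.D.Idx F) = hS T F (π i) (a i) * nG hg F (π i) := by
      simp only [n, map_mul, (h i).1, (h i).2, Subgroup.coe_mul, coe_xe]
      exact nE_simple hg (π i).2 (a i)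
    obtain ⟨d, hd⟩ := torus_pass hg (nG_mem_wSub (F := F) hg (π i).2) c
    refine ⟨n * y, Pi.mulSingle ((π i : ℕ)) (a i) * d, ?_, ?_⟩
    · rw [List.map_cons, nWd_cons, Subgroup.coe_mul, hn, hy]
    · rw [map_mul, Subgroup.coe_mul, hθn, hθ, List.map_cons, nWd_cons, map_mul, ← hS_eq_tor]
      simp only [mul_assoc]
      rw [← mul_assoc (nG hg F (π i)) (tor T F c), hd, mul_assoc]

theorem trivW_image (g : T.GoodK K) {θ : MulAut ↥(T.D.group F)}
    (hB : Maps θ (T.D.borelSubgroup F) (T.D.borelSubgroup F)) {π : Equiv.Perm (Fin T.l)}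
    {a : Fin T.l → Fˣ}
    (h : ∀ i : Fin T.l, θ (xe g.toGood (T.smp i) 1) = xe g.toGood (T.smp (π i)) (a i : F) ∧
      θ (xe g.toGood (T.neg (T.smp i)) (-1)) = xe g.toGood (T.neg (T.smp (π i))) (-(a i : F)⁻¹))
    (L : List (Fin T.l)) :
    trivW T (L.map fun i : Fin T.l => (i : ℕ)) = trivW T (L.map fun i : Fin T.l => (π i : ℕ)) := by
  have hg := g.toGood
  obtain ⟨y, c, hy, hθ⟩ := image_nWd g h L
  have hwd : ∀ f : Fin T.l → Fin T.l, T.Wd (L.map fun i : Fin T.l => (f i : ℕ)) := fun f j hj => by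
    obtain ⟨i, -, rfl⟩ := List.mem_map.1 hj; exact (f i).2
  rw [Bool.eq_iff_iff,
    trivW_iff (F := F) hg (L := L.map fun i : Fin T.l => (i : ℕ)) (hwd id),
    trivW_iff (F := F) hg (hwd π)]
  constructor
  · intro hm
    have h1 : (θ y : GL T.D.Idx F) ∈ T.D.borelSubgroup F :=
      (hB y).1 (hy ▸ Subgroup.mem_sup_right hm)
    have h2 := borel_inf_monomial hg h1
      (hθ ▸ (mem_monomial_iff hg).2 ⟨_, hwd π, c, rfl⟩)
    rw [hθ] at h2
    have h3 : tor T F c ∈ T.D.diagonalSubgroup F := by rw [diagonalSubgroup_eq hg]; exact ⟨c, rfl⟩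
    simpa using mul_mem (inv_mem h3) h2
  · intro hm
    have h1 : (θ y : GL T.D.Idx F) ∈ T.D.borelSubgroup F := by
      rw [hθ]
      exact mul_mem (torus_le_borel hg c) (Subgroup.mem_sup_right hm)
    have h2 := (hB y).2 h1
    rw [hy] at h2
    exact borel_inf_monomial hg h2 ((mem_monomial_iff hg).2 ⟨_, hwd id, 1, by simp⟩)

theorem bd_image (h : AutOK T K Ls) {θ : MulAut ↥(T.D.group F)}
    (hB : Maps θ (T.D.borelSubgroup F) (T.D.borelSubgroup F)) {π : Equiv.Perm (Fin T.l)}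
    {a : Fin T.l → Fˣ}
    (hx : ∀ i : Fin T.l, θ (xe h.good.toGood (T.smp i) 1) = xe h.good.toGood (T.smp (π i)) (a i : F) ∧
      θ (xe h.good.toGood (T.neg (T.smp i)) (-1)) =
        xe h.good.toGood (T.neg (T.smp (π i))) (-(a i : F)⁻¹))
    {i j : Fin T.l} (hij : i ≠ j) : bd T (π i) (π j) = bd T i j := by
  have key : ∀ i j : Fin T.l, i ≠ j →
      bd T i j = bondOf (trivW T [i, j, i, j]) (trivW T [i, j, i, j, i, j])
        (trivW T [(i : ℕ), j, i, j, i, j, i, j]) := by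
    intro i j hij
    have := allBelow_eq_true.1 (allBelow_eq_true.1 h.bonds i i.2) j j.2
    simp only [Bool.or_eq_true, nat_beq, beq_iff_eq] at this
    exact this.resolve_left fun e => hij (Fin.ext e)
  rw [key i j hij, key (π i) (π j) fun e => hij (π.injective e)]
  have e2 := trivW_image h.good hB hx [i, j, i, j]
  have e3 := trivW_image h.good hB hx [i, j, i, j, i, j]
  have e4 := trivW_image h.good hB hx [i, j, i, j, i, j, i, j]
  simp only [List.map_cons, List.map_nil] at e2 e3 e4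
  rw [e2, e3, e4]

/-- a power that is additive agrees with the Frobenius -/
theorem pow_eq_of_additive {p k : ℕ} [Fact p.Prime] [CharP F p] (hk : k = 2 ∨ k = 3)
    (h : ∀ x y : F, (x + y) ^ k = x ^ k + y ^ k) (x : F) : x ^ k = x ^ p := by
  have hp : ∀ q : ℕ, q.Prime → (q : F) = 0 → p = q := fun q hq h0 =>
    (Nat.prime_dvd_prime_iff_eq Fact.out hq).1 ((CharP.cast_eq_zero_iff F p q).1 h0)
  rcases hk with rfl | rfl
  · have h1 := h 1 1
    have : ((2 : ℕ) : F) = 0 := by push_cast; linear_combination h1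
    rw [hp 2 Nat.prime_two this]
  · have h1 := h 1 1
    have h6 : ((2 : ℕ) : F) * ((3 : ℕ) : F) = 0 := by push_cast; linear_combination h1
    rcases mul_eq_zero.1 h6 with h0 | h0
    · obtain rfl := hp 2 Nat.prime_two h0
      have h2 : (2 : F) = 0 := by exact_mod_cast h0
      have hx := h x 1
      have : x ^ 2 + x = 0 := by linear_combination hx - (x ^ 2 + x) * h2
      linear_combination (x - 2) * this + x * h2
    · rw [hp 3 Nat.prime_three h0]

theorem exists_common_field [Finite F] (h : AutOK T K Ls) (π : Equiv.Perm (Fin T.l))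
    (φ : Fin T.l → F ≃+* F)
    (hbd : ∀ i j : Fin T.l, i ≠ j → bd T (π i) (π j) = bd T i j)
    (hA : ∀ (i j : Fin T.l) (t : F), t ≠ 0 →
      φ j t ^ T.A i (T.smp j) = φ i t ^ T.A (π i) (T.smp (π j))) :
    ∃ σ : F ≃+* F, ∀ (i : Fin T.l) (t : F),
      φ i t = σ (t ^ (if expFlag Ls i (π i) then ringChar F else 1)) := by
  obtain ⟨p, hp⟩ := CharP.exists F
  rw [ringChar.eq F p]
  haveI : Fact p.Prime :=
    ⟨(CharP.char_is_prime_or_zero F p).resolve_right (CharP.char_ne_zero_of_finite F p)⟩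
  haveI : PerfectRing F p := PerfectRing.ofFiniteOfIsReduced p F
  rcases Nat.eq_zero_or_pos T.l with hl | hl
  · exact ⟨RingEquiv.refl F, fun i => absurd i.2 (by omega)⟩
  let e : Fin T.l → ℕ := fun i => if expFlag Ls i (π i) then p else 1
  let i₀ : Fin T.l := ⟨0, hl⟩
  obtain ⟨σ, hσ⟩ : ∃ σ : F ≃+* F, ∀ t, φ i₀ t = σ (t ^ e i₀) := by
    by_cases hf : expFlag Ls i₀ (π i₀) = true
    · refine ⟨(frobeniusEquiv F p).symm.trans (φ i₀), fun t => ?_⟩
      simp only [e, if_pos hf, RingEquiv.trans_apply]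
      exact (congrArg (φ i₀) ((frobeniusEquiv F p).symm_apply_apply t)).symm
    · exact ⟨φ i₀, fun t => by simp [e, hf]⟩
  refine ⟨σ, ?_⟩
  let Q : Fin T.l → Prop := fun i => ∀ t, φ i t = σ (t ^ e i)
  show ∀ i, Q i
  have step : ∀ i j : Fin T.l, T.A i (T.smp j) ≠ 0 → i ≠ j → Q i → Q j := by
    intro i j hne hij hQ
    have hc := allBelow_eq_true.1 (allBelow_eq_true.1 h.edge i i.2) j j.2
    simp only [Bool.or_eq_true, nat_beq, Bool.and_eq_true, beq_iff_eq] at hc
    obtain ⟨hz, hc⟩ := hc.resolve_left fun e => hij (Fin.ext e)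
    have hne' : T.A j (T.smp i) ≠ 0 := by
      intro h0
      rw [h0] at hz
      simp [hne] at hz
    have hc' := allBelow_eq_true.1 (allBelow_eq_true.1
      (hc.resolve_left fun h0 => by rcases mul_eq_zero.1 h0 with h0 | h0 <;> contradiction)
      (π i) (π i).2) (π j) (π j).2
    simp only [Bool.or_eq_true, nat_beq, Bool.not_eq_true', beq_eq_false_iff_ne] at hc'
    have hc'' := hc'.resolve_left (by
      rintro (e | e)
      · exact hij (π.injective (Fin.ext e))
      · exact e (hbd i j hij))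
    simp only [edgeCond, Bool.or_eq_true, Bool.and_eq_true, beq_iff_eq, Bool.not_eq_true'] at hc''
    have hij' := hA i j
    have hji' := hA j i
    intro t
    rcases eq_or_ne t 0 with rfl | ht
    · have : e j ≠ 0 := by simp only [e]; split <;> simp [(Fact.out : p.Prime).ne_zero]
      simp [this]
    rcases hc'' with (⟨⟨⟨hA1, hB1⟩, hf⟩, h1⟩ | ⟨⟨⟨hA1, hk⟩, hfi⟩, hfj⟩) | ⟨⟨⟨hB1, hk⟩, hfi⟩, hfj⟩
    · have hee : e j = e i := by simp only [e, hf]
      rw [hee, ← hQ t]
      rcases h1 with h1 | h1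
      · have := hij' t ht
        rw [← hA1, h1, zpow_neg_one, zpow_neg_one] at this
        exact inv_injective this
      · have := hji' t ht
        rw [← hB1, h1, zpow_neg_one, zpow_neg_one] at this
        exact (inv_injective this).symm
    · obtain ⟨k, hk', hA'⟩ : ∃ k : ℕ, (k = 2 ∨ k = 3) ∧ T.A (π i) (T.smp (π j)) = -(k : ℤ) := by
        rcases hk with hk | hk
        · exact ⟨2, Or.inl rfl, hk⟩
        · exact ⟨3, Or.inr rfl, hk⟩
      have hpow : ∀ x, φ j x = φ i x ^ k := by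
        intro x
        rcases eq_or_ne x 0 with rfl | hx
        · rcases hk' with rfl | rfl <;> simp
        have := hij' x hx
        rw [hA1, hA', zpow_neg_one, zpow_neg, zpow_natCast] at this
        exact inv_injective this
      have hadd : ∀ x y : F, (x + y) ^ k = x ^ k + y ^ k := by
        intro x y
        obtain ⟨x', rfl⟩ := (φ i).surjective x
        obtain ⟨y', rfl⟩ := (φ i).surjective y
        rw [← map_add, ← hpow, ← hpow, ← hpow, map_add]
      simp only [e, hfj, if_true]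
      rw [hpow, pow_eq_of_additive (p := p) hk' hadd, hQ t]
      simp [e, hfi]
    · obtain ⟨k, hk', hA'⟩ : ∃ k : ℕ, (k = 2 ∨ k = 3) ∧ T.A (π j) (T.smp (π i)) = -(k : ℤ) := by
        rcases hk with hk | hk
        · exact ⟨2, Or.inl rfl, hk⟩
        · exact ⟨3, Or.inr rfl, hk⟩
      have hpow : ∀ x, φ i x = φ j x ^ k := by
        intro x
        rcases eq_or_ne x 0 with rfl | hx
        · rcases hk' with rfl | rfl <;> simp
        have := hji' x hx
        rw [hB1, hA', zpow_neg_one, zpow_neg, zpow_natCast] at this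
        exact inv_injective this
      have hadd : ∀ x y : F, (x + y) ^ k = x ^ k + y ^ k := by
        intro x y
        obtain ⟨x', rfl⟩ := (φ j).surjective x
        obtain ⟨y', rfl⟩ := (φ j).surjective y
        rw [← map_add, ← hpow, ← hpow, ← hpow, map_add]
      have := hQ t
      rw [hpow, pow_eq_of_additive (p := p) hk' hadd] at this
      simp only [e, hfi, hfj, if_true, map_pow] at this
      simpa [e, hfj] using frobenius_inj F p (by simpa [frobenius_def] using this)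
  classical
  intro i
  by_contra hi
  let ind : ℕ → Prop := fun j => ∃ hj : j < T.l, Q ⟨j, hj⟩
  let s₀ : Finset ℕ := (Finset.range T.l).filter ind
  let m : ℕ := ∑ j ∈ s₀, 2 ^ j
  have hbit : ∀ j < T.l, (Nat.testBit m j = true ↔ ind j) := by
    intro j hj
    rw [← Nat.mem_bitIndices, ← List.mem_toFinset, Finset.toFinset_bitIndices_sum_two_pow]
    simp [s₀, hj]
  have hm : m < 2 ^ T.l := Nat.geomSum_lt le_rfl fun j hj => by
    simp only [s₀, Finset.mem_filter, Finset.mem_range] at hj; exact hj.1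
  have hc := allBelow_eq_true.1 h.conn m hm
  simp only [Bool.or_eq_true, Bool.not_eq_true', Bool.and_eq_true, anyBelow_eq_true,
    beq_eq_false_iff_ne] at hc
  rcases hc with (hc | hc) | ⟨u, hu, v, hv, ⟨htu, htv⟩, hAuv⟩
  · rw [← Bool.not_eq_true, anyBelow_eq_true] at hc
    exact hc ⟨0, hl, (hbit 0 hl).2 ⟨hl, hσ⟩⟩
  · rw [← Bool.not_eq_true, anyBelow_eq_true] at hc
    refine hc ⟨i, i.2, ?_⟩
    rw [Bool.not_eq_true', ← Bool.not_eq_true, hbit i i.2]
    rintro ⟨_, hQ⟩
    exact hi hQ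
  obtain ⟨_, hQu⟩ := (hbit u hu).1 htu
  have hQv : ¬ ind v := fun h' => by rw [(hbit v hv).2 h'] at htv; simp at htv
  refine hQv ⟨hv, step ⟨u, hu⟩ ⟨v, hv⟩ hAuv (fun e => ?_) hQu⟩
  exact hQv ⟨hv, e ▸ hQu⟩

/-- The field automorphism of the group. -/
noncomputable def fieldAut (g : T.Good) (σ : F ≃+* F) : MulAut ↥(T.D.group F) where
  toFun y := ⟨entryHom T σ.toRingHom y, entryHom_group g _ y.2⟩
  invFun y := ⟨entryHom T σ.symm.toRingHom y, entryHom_group g _ y.2⟩
  left_inv y := Subtype.ext (Units.ext (Matrix.ext fun i j => σ.symm_apply_apply _))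
  right_inv y := Subtype.ext (Units.ext (Matrix.ext fun i j => σ.apply_symm_apply _))
  map_mul' a b := Subtype.ext (map_mul (entryHom T σ.toRingHom) (a : GL T.D.Idx F) b)

theorem fieldAut_xe (g : T.Good) (σ : F ≃+* F) (r : ℕ) (t : F) :
    fieldAut g σ (xe g r t) = xe g r (σ t) :=
  Subtype.ext (entryHom_xg g σ.toRingHom r t)

theorem fieldAut_isFieldAut (g : T.Good) (σ : F ≃+* F) : T.D.IsFieldAut (fieldAut g σ) := by
  refine ⟨σ, fun y r t hr h => ?_⟩
  have e : y = xe g r t := Subtype.ext (eq_xg g h)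
  rw [e, fieldAut_xe]
  exact xg_val g r _

/-- Conjugation by a diagonal matrix. -/
theorem exists_diagonalAut {D : ChevalleyDatum}
    (hD : D ∈ [chevG2, chevB2, chevD4, chevF4, chevE6, chevE7, chevE8]) (hTD : T.D = D) (g : T.Good)
    {χ : ℕ → Fˣ} (hχ : T.D.IsRootCharacter χ) :
    ∃ d : MulAut ↥(T.D.group F), T.D.IsDiagonalAut d ∧
      ∀ r < T.n, ∀ t : F, d (xe g r t) = xe g r ((χ r : F) * t) := by
  subst hTD
  have hinv : ∀ ψ : ℕ → Fˣ, ((dg T F ψ : GL T.D.Idx F) : Matrix T.D.Idx T.D.Idx F) = T.D.charDiag F ψ :=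
    fun ψ => rfl
  have hconj : ∀ r < T.n, ∀ t : F, dg T F χ * xg g r t * (dg T F χ)⁻¹ = xg g r ((χ r : F) * t) := by
    intro r hr t
    refine Units.ext ?_
    rw [Units.val_mul, Units.val_mul, ← map_inv, hinv, hinv, xg_val, xg_val]
    exact Cfsg.Agent.S2157.result T.D hD χ hχ r (g.nroots_eq.symm ▸ hr) t
  have hmap : ∀ y ∈ T.D.group F, dg T F χ * y * (dg T F χ)⁻¹ ∈ T.D.group F := by
    intro y hy
    exact group_le_of_roots g (H := (T.D.group F).comap (MulAut.conj (dg T F χ)).toMonoidHom)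
      (fun r hr t => by
        simp only [Subgroup.mem_comap, MulEquiv.coe_toMonoidHom, MulAut.conj_apply, hconj r hr t]
        exact xg_mem_group g _ _) hy
  have hmap' : ∀ y ∈ T.D.group F, (dg T F χ)⁻¹ * y * dg T F χ ∈ T.D.group F := by
    intro y hy
    refine group_le_of_roots g (H := (T.D.group F).comap (MulAut.conj (dg T F χ)⁻¹).toMonoidHom)
      (fun r hr t => ?_) hy |> fun h => by simpa using h
    simp only [Subgroup.mem_comap, MulEquiv.coe_toMonoidHom, MulAut.conj_apply, inv_inv]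
    have e := hconj r hr (((χ r)⁻¹ : Fˣ) * t)
    rw [← mul_assoc, Units.mul_inv, one_mul] at e
    rw [← e]
    group
    exact xg_mem_group g _ _
  refine ⟨{ toFun := fun y => ⟨dg T F χ * y * (dg T F χ)⁻¹, hmap _ y.2⟩
            invFun := fun y => ⟨(dg T F χ)⁻¹ * y * dg T F χ, hmap' _ y.2⟩
            left_inv := fun y => Subtype.ext (by simp only; group)
            right_inv := fun y => Subtype.ext (by simp only; group)
            map_mul' := fun a b => Subtype.ext (by simp only [Subgroup.coe_mul]; group) },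
    ⟨χ, hχ, fun y => ?_⟩, fun r hr t => Subtype.ext (hconj r hr t)⟩
  show (((dg T F χ * (y : GL T.D.Idx F) * (dg T F χ)⁻¹ : GL T.D.Idx F)) : Matrix T.D.Idx T.D.Idx F) = _
  rw [Units.val_mul, Units.val_mul, ← map_inv, hinv, hinv]
  rfl

/-- The decomposition. -/
theorem decomposition [Finite F] {D : ChevalleyDatum}
    (hD : D ∈ [chevG2, chevB2, chevD4, chevF4, chevE6, chevE7, chevE8]) (h : AutOK T K Ls) (hTD : T.D = D)
    (θ : MulAut ↥(T.D.group F)) :
    ∃ (x : ↥(T.D.group F)) (d g f : MulAut ↥(T.D.group F)),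
      T.D.IsDiagonalAut d ∧ T.D.IsGraphAut g ∧ T.D.IsFieldAut f ∧
        ∀ y : ↥(T.D.group F), θ y = x * d (g (f y)) * x⁻¹ := by
  have hg := h.good.toGood
  obtain ⟨x, hU, hV⟩ := exists_conj_UV h.good θ
  obtain ⟨π, hπ⟩ := exists_root_perm h.good h.orth hU hV
  obtain ⟨a, φ, hlin, hA⟩ := exists_linear h.good hπ
  have hB := maps_borel h.good hU
  have hx1 : ∀ i : Fin T.l,
      (MulAut.conj x * θ) (xe hg (T.smp i) 1) = xe hg (T.smp (π i)) (a i : F) ∧
      (MulAut.conj x * θ) (xe hg (T.neg (T.smp i)) (-1)) =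
        xe hg (T.neg (T.smp (π i))) (-(a i : F)⁻¹) := fun i => by
    refine ⟨by rw [(hlin i 1).1, map_one, mul_one], ?_⟩
    rw [(hlin i (-1)).2, map_neg, map_one, mul_neg_one, Units.val_inv_eq_inv_val]
  have hbd : ∀ i j : Fin T.l, i ≠ j → bd T (π i) (π j) = bd T i j :=
    fun i j hij => bd_image h hB hx1 hij
  obtain ⟨σ, hσ⟩ := exists_common_field h π φ hbd hA
  obtain ⟨χ, hχ, hχv⟩ := exists_character h.good h.coef
    (fun k => if hk : k < T.l then a (π.symm ⟨k, hk⟩) else (1 : Fˣ))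
  have hχπ : ∀ i : Fin T.l, χ (T.smp (π i)) = a i ∧ χ (T.neg (T.smp (π i))) = (a i)⁻¹ := fun i => by
    obtain ⟨e1, e2⟩ := hχv _ (π i).2
    rw [dif_pos (π i).2] at e1 e2
    simp only [Fin.eta, Equiv.symm_apply_apply] at e1 e2
    exact ⟨e1, e2⟩
  obtain ⟨d, hd, hdx⟩ := exists_diagonalAut (F := F) hD hTD hg hχ
  refine ⟨x⁻¹, d, d⁻¹ * (MulAut.conj x * θ) * (fieldAut hg σ)⁻¹, fieldAut hg σ, hd, ?_,
    fieldAut_isFieldAut hg σ, fun y => ?_⟩
  swap
  · simp [MulAut.mul_apply, MulAut.inv_def, mul_assoc]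
  let πD : Equiv.Perm (Fin T.D.rank) := (finCongr hg.rank_eq).trans (π.trans (finCongr hg.rank_eq.symm))
  have hπD : ∀ i : Fin T.D.rank, (πD i : ℕ) = π ⟨i, simple_lt hg i⟩ := fun i => rfl
  refine ⟨πD, fun i j hij => ?_, fun y i t => ?_⟩
  · have hi := simple_lt hg i
    have hj := simple_lt hg j
    simp only [ChevalleyDatum.bonds, hπD]
    rw [hg.simple_eq (π ⟨i, hi⟩).2, hg.simple_eq (π ⟨j, hj⟩).2, hg.simple_eq hi, hg.simple_eq hj,
      hg.cartan_eq (π ⟨i, hi⟩).2 (hg.smp_lt (π ⟨j, hj⟩).2),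
      hg.cartan_eq (π ⟨j, hj⟩).2 (hg.smp_lt (π ⟨i, hi⟩).2),
      hg.cartan_eq hi (hg.smp_lt hj), hg.cartan_eq hj (hg.smp_lt hi)]
    exact hbd ⟨i, hi⟩ ⟨j, hj⟩ fun e => hij (Fin.ext (congrArg (fun z : Fin T.l => (z : ℕ)) e))
  have hi := simple_lt hg i
  set i' : Fin T.l := ⟨i, hi⟩ with hi'
  have he : T.D.graphExp (ringChar F) i (πD i) =
      if expFlag Ls i' (π i') then ringChar F else 1 := by
    have hl : ∀ k : Fin T.l, longT T (T.smp k) = Ls.getD k false := fun k =>
      beq_iff_eq.1 (allBelow_eq_true.1 h.longs k k.2)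
    rw [ChevalleyDatum.graphExp, hπD, hg.simple_eq hi, hg.simple_eq (π i').2,
      isLong_eq hg (hg.smp_lt hi), isLong_eq hg (hg.smp_lt (π i').2)]
    rw [show T.smp (i : ℕ) = T.smp i' from rfl, hl, hl]
    rfl
  rw [he, hπD, hg.simple_eq hi, hg.simple_eq (π i').2, hg.neg_eq (hg.smp_lt hi),
    hg.neg_eq (hg.smp_lt (π i').2)]
  have hf : ∀ r, (fieldAut hg σ)⁻¹ (xe hg r t) = xe hg r (σ.symm t) := fun r => by
    rw [MulAut.inv_def, MulEquiv.symm_apply_eq, fieldAut_xe, RingEquiv.apply_symm_apply]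
  have hpow : φ i' (σ.symm t) = t ^ (if expFlag Ls i' (π i') then ringChar F else 1) := by
    rw [hσ, map_pow, RingEquiv.apply_symm_apply]
  constructor
  · intro hy
    rw [show y = xe hg (T.smp i') t from Subtype.ext (eq_xg hg hy)]
    rw [MulAut.mul_apply, MulAut.mul_apply, hf, (hlin i' _).1, hpow, MulAut.inv_def]
    have e := hdx _ (hg.smp_lt (π i').2) (t ^ (if expFlag Ls i' (π i') then ringChar F else 1))
    rw [(hχπ i').1] at e
    rw [← e, MulEquiv.symm_apply_apply]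
    exact xg_val hg _ _
  · intro hy
    rw [show y = xe hg (T.neg (T.smp i')) t from Subtype.ext (eq_xg hg hy)]
    rw [MulAut.mul_apply, MulAut.mul_apply, hf, (hlin i' _).2, hpow, MulAut.inv_def]
    have e := hdx _ (neg_lt (hg.smp_lt (π i').2))
      (t ^ (if expFlag Ls i' (π i') then ringChar F else 1))
    rw [(hχπ i').2] at e
    rw [← e, MulEquiv.symm_apply_apply]
    exact xg_val hg _ _

end Cfsg.Agent.ChevAut
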