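import Cfsg.Agent.Lib.ChevAut.FixedPoints
import Cfsg.Prelude.Def_ChevAutomorphisms
import Mathlib.FieldTheory.Fixed
import Mathlib.FieldTheory.Finiteness

/-! The group of fixed points of a field automorphism is the group over the fixed field. -/

set_option autoImplicit false

namespace Cfsg.Agent.ChevAut

open Cfsg.Lie Cfsg.Agent.Chev Cfsg.Agent.Chev.Tab

variable {T : Tab} {F : Type*} [Field F]

/-- `M` inverts the Cartan matrix up to the factor `d`. -/
def checkDual (T : Tab) (d : ℕ) (M : List (List ℤ)) : Bool :=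
  allBelow (fun j => allBelow (fun m =>
    sumBelow (fun i => (M.getD j []).getD i 0 * T.A m (T.smp i)) T.l ==
      (bif Nat.beq m j then (d : ℤ) else 0)) T.l) T.l

theorem pow_coord {d : ℕ} {M : List (List ℤ)} (hM : checkDual T d M = true) (c : ℕ → Fˣ) {j : ℕ}
    (hj : j < T.l) :
    c j ^ d = ∏ i ∈ Finset.range T.l, wt T F c (T.smp i) ^ (M.getD j []).getD i 0 := by
  have h1 : ∀ m < T.l, ∑ i ∈ Finset.range T.l, (M.getD j []).getD i 0 * T.A m (T.smp i) =
      if m = j then (d : ℤ) else 0 := by
    intro m hm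
    have h := allBelow_eq_true.1 (allBelow_eq_true.1 hM j hj) m hm
    rw [beq_iff_eq, sumBelow_eq_sum] at h
    rw [h]
    by_cases e : m = j
    · rw [nat_beq.2 e, if_pos e, cond_true]
    · rw [nat_beq_false.2 e, if_neg e, cond_false]
  calc c j ^ d = ∏ m ∈ Finset.range T.l,
        c m ^ ∑ i ∈ Finset.range T.l, (M.getD j []).getD i 0 * T.A m (T.smp i) := by
        rw [Finset.prod_eq_single j]
        · rw [h1 j hj, if_pos rfl, zpow_natCast]
        · intro m hm hne; rw [h1 m (Finset.mem_range.1 hm), if_neg hne, zpow_zero]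
        · exact fun h => absurd (Finset.mem_range.2 hj) h
    _ = ∏ i ∈ Finset.range T.l, ∏ m ∈ Finset.range T.l,
        (c m ^ T.A m (T.smp i)) ^ (M.getD j []).getD i 0 := by
        rw [Finset.prod_comm]
        refine Finset.prod_congr rfl fun m _ => ?_
        induction Finset.range T.l using Finset.induction_on with
        | empty => simp
        | insert a s ha ih => rw [Finset.sum_insert ha, Finset.prod_insert ha, _root_.zpow_add, ih,
            mul_comm _ (T.A m (T.smp a)), zpow_mul]
    _ = _ := Finset.prod_congr rfl fun i _ => Finset.prod_zpow _ _ _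

/-- A fixed torus element has fixed coordinates. -/
theorem coord_fixed (g : T.Good) {d : ℕ} {M : List (List ℤ)} (hM : checkDual T d M = true)
    (hd : Function.Injective fun u : Fˣ => u ^ d) {σ : F →+* F} {c : ℕ → Fˣ}
    (h : entryHom T σ (tor T F c) = tor T F c) {j : ℕ} (hj : j < T.l) : σ (c j) = c j := by
  have hw : ∀ i < T.l, Units.map σ.toMonoidHom (wt T F c (T.smp i)) = wt T F c (T.smp i) := by
    intro i hi
    have e := congrArg (entryHom T σ) (tor_xg g c (g.smp_lt hi) (1 : F))
    rw [map_mul, map_mul, map_inv, entryHom_xg, entryHom_xg, h, map_one, tor_xg g c (g.smp_lt hi),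
      mul_one] at e
    exact Units.ext (xg_injective g (g.smp_lt hi) e).symm
  refine congrArg Units.val (hd (a₁ := Units.map σ.toMonoidHom (c j)) (a₂ := c j) ?_)
  show Units.map σ.toMonoidHom (c j) ^ d = c j ^ d
  rw [← map_pow, pow_coord hM c hj, map_prod]
  exact Finset.prod_congr rfl fun i hi => by rw [map_zpow, hw i (Finset.mem_range.1 hi)]

theorem fixed_eq_fixElem (g : T.GoodA) {d : ℕ} {M : List (List ℤ)} (hM : checkDual T d M = true)
    (hd : Function.Injective fun u : Fˣ => u ^ d) {σ : F →+* F} {x : GL T.D.Idx F} (hx : x ∈ T.D.group F)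
    (h : entryHom T σ x = x) : x ∈ fixElem g.toGood σ := by
  have hg := g.toGood
  obtain ⟨l, hl, c, hc, r, hr, rfl⟩ := fixed_decomp g hx h
  refine mul_mem (mul_mem hl ?_) hr
  rw [tor_eq_prod hg]
  refine Subgroup.list_prod_mem _ fun y hy => ?_
  obtain ⟨i, hi, rfl⟩ := List.mem_map.1 hy
  replace hi := List.mem_range.1 hi
  have hci := coord_fixed hg hM hd hc hi
  have e := nE_simple (F := F) hg hi (c i)
  rw [eq_mul_inv_iff_mul_eq.2 e.symm]
  refine mul_mem (mul_mem (mul_mem (xg_mem_fixElem hg _ hci) (xg_mem_fixElem hg _ ?_))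
    (xg_mem_fixElem hg _ hci)) (inv_mem ?_)
  · rw [map_neg, map_inv₀, hci]
  · simpa [nWd_cons] using nWd_mem_fixElem hg σ [i]

variable (T) in
/-- The map of matrix groups attached to a field homomorphism. -/
noncomputable def fieldMap {K : Type*} [Field K] (f : K →+* F) : GL T.D.Idx K →* GL T.D.Idx F :=
  Units.map f.mapMatrix.toMonoidHom

theorem fieldMap_xg (g : T.Good) {K : Type*} [Field K] (f : K →+* F) (r : ℕ) (t : K) :
    fieldMap T f (xg g r t) = xg g r (f t) := by
  refine Units.ext (Matrix.ext fun a b => ?_)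
  show f (((xg g r t : GL T.D.Idx K) : Matrix T.D.Idx T.D.Idx K) a b) = _
  rw [xg_val, xg_val]
  by_cases hr : r < T.D.nroots
  · simp only [ChevalleyDatum.x, dif_pos hr, ChevalleyDatum.xMat, Matrix.of_apply]
    rcases b with b | b <;> rcases a with a | a <;> dsimp only <;> split_ifs <;>
      simp [map_list_sum, List.map_map, Function.comp_def]
  · simp only [ChevalleyDatum.x, dif_neg hr, Matrix.one_apply]
    split_ifs <;> simp

/-- The group over `K` is the elementary fixed group. -/
theorem group_equiv_fixElem (g : T.Good) {K : Type*} [Field K] (f : K →+* F) {σ : F →+* F}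
    (hf : ∀ t : F, σ t = t ↔ ∃ s, f s = t) : Nonempty (↥(T.D.group K) ≃* ↥(fixElem g σ)) := by
  have hinj : Function.Injective (fieldMap T f) :=
    Units.map_injective (Matrix.map_injective f.injective)
  have e : (T.D.group K).map (fieldMap T f) = fixElem g σ := by
    refine le_antisymm ?_ ((Subgroup.closure_le _).2 ?_)
    · rw [ChevalleyDatum.group, MonoidHom.map_closure, Subgroup.closure_le]
      rintro _ ⟨y, ⟨r, t, hr⟩, rfl⟩
      rw [show y = xg g r t from eq_xg g (by rw [hr, ChevalleyDatum.x, dif_pos r.2]), fieldMap_xg]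
      exact xg_mem_fixElem g _ ((hf _).2 ⟨t, rfl⟩)
    · rintro _ ⟨s, t, ht, rfl⟩
      obtain ⟨t₀, rfl⟩ := (hf t).1 ht
      exact ⟨_, xg_mem_group g s t₀, fieldMap_xg g f s t₀⟩
  exact ⟨((T.D.group K).equivMapOfInjective _ hinj).trans (MulEquiv.subgroupCongr e)⟩

/-- An index type of size `n` with no instances. -/
def Pts (n : ℕ) : Type := Fin n

/-- A finite field automorphism of order `r` fixes a field with `|F|^(1/r)` elements. -/
theorem exists_fixed_field [Fintype F] (σ : F ≃+* F) :
    ∃ (K : Type) (_ : Field K) (_ : Fintype K) (f : K →+* F), Fintype.card F = Fintype.card K ^ orderOf σ ∧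
      ∀ t : F, σ t = t ↔ ∃ s, f s = t := by
  classical
  have : Finite (F ≃+* F) := Finite.of_injective (fun e : F ≃+* F => (e : F → F)) DFunLike.coe_injective
  let H := Subgroup.zpowers σ
  let iH : Fintype H := Fintype.ofFinite _
  let S := FixedPoints.subfield H F
  have hcard : Module.finrank S F = orderOf σ := by
    rw [FixedPoints.finrank_eq_card H F, ← Nat.card_eq_fintype_card, Nat.card_zpowers]
  have hmem : ∀ t : F, t ∈ S ↔ σ t = t := by
    intro t
    refine ⟨fun h => h ⟨σ, Subgroup.mem_zpowers σ⟩, fun h a => ?_⟩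
    have ha : (a : F ≃+* F) ∈ MulAction.stabilizer (F ≃+* F) t :=
      (Subgroup.zpowers_le.2 (show σ ∈ MulAction.stabilizer (F ≃+* F) t from h)) a.2
    exact ha
  let e : Pts (Fintype.card S) ≃ S := (Fintype.equivFin S).symm
  let _iK : Field (Pts (Fintype.card S)) := e.field
  let _iK' : Fintype (Pts (Fintype.card S)) := Fintype.ofEquiv _ e.symm
  let f : Pts (Fintype.card S) ≃+* S := e.ringEquiv
  refine ⟨Pts (Fintype.card S), _iK, _iK', (Subfield.subtype S).comp f.toRingHom, ?_, ?_⟩
  · rw [Fintype.card_congr e, ← hcard]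
    exact Module.card_eq_pow_finrank
  · intro t
    rw [← hmem]
    exact ⟨fun h => ⟨f.symm ⟨t, h⟩, by simp⟩, fun ⟨s, hs⟩ => hs ▸ (f s).2⟩

/-- A field automorphism of the group is `entryHom`, and has the order of the field automorphism. -/
theorem fieldAut_data (g : T.Good) {φ : MulAut ↥(T.D.group F)} (hφ : T.D.IsFieldAut φ) :
    ∃ σ : F ≃+* F, orderOf σ = orderOf φ ∧
      ∀ x : ↥(T.D.group F), ((φ x : GL T.D.Idx F)) = entryHom T σ.toRingHom x := by
  obtain ⟨σ, hσ⟩ := hφ
  have happ : ∀ x : ↥(T.D.group F), (φ x : GL T.D.Idx F) = entryHom T σ.toRingHom x := by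
    have h : (T.D.group F).subtype.comp φ.toMonoidHom = (entryHom T σ.toRingHom).comp (T.D.group F).subtype := by
      refine MonoidHom.eq_of_eqOn_dense (Subgroup.closure_closure_coe_preimage
        (k := {g : GL T.D.Idx F | ∃ (r : Fin T.D.nroots) (t : F),
          (g : Matrix T.D.Idx T.D.Idx F) = T.D.xMat F r t})) ?_
      rintro ⟨y, hy⟩ ⟨r, t, hr⟩
      have e : y = xg g r t := eq_xg g (by rw [hr, ChevalleyDatum.x, dif_pos r.2])
      subst e
      show (φ ⟨xg g r t, hy⟩ : GL T.D.Idx F) = entryHom T σ.toRingHom (xg g r t)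
      rw [entryHom_xg]
      exact eq_xg g (hσ ⟨xg g r t, hy⟩ r t r.2 rfl)
    exact fun x => DFunLike.congr_fun h x
  have hpow : ∀ n : ℕ, ∀ x : ↥(T.D.group F), ((φ ^ n) x : GL T.D.Idx F) = entryHom T (σ ^ n).toRingHom x := by
    intro n
    induction n with
    | zero => intro x; refine Units.ext (Matrix.ext fun i j => ?_); rw [entryHom_apply]; rfl
    | succ n ih =>
      intro x
      rw [pow_succ', MulAut.mul_apply, happ, ih]
      refine Units.ext (Matrix.ext fun i j => ?_)
      rw [entryHom_apply, entryHom_apply, entryHom_apply, pow_succ']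
      rfl
  refine ⟨σ, orderOf_eq_orderOf_iff.2 fun n => ⟨fun h => ?_, fun h => ?_⟩, happ⟩
  · ext x : 1
    refine Subtype.ext ?_
    rw [hpow n x, h]
    refine Units.ext (Matrix.ext fun i j => ?_)
    rw [entryHom_apply]; rfl
  · ext t
    have hN : T.N < T.n := by have := g.N_pos; have := n_def (T := T); omega
    have e := hpow n ⟨xg g T.N t, xg_mem_group g _ _⟩
    rw [h, entryHom_xg] at e
    exact (xg_injective g hN e).symm

/-- The fixed points of a field automorphism, when the torus has no kernel. -/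
theorem fixed_points_equiv (g : T.GoodA) {d : ℕ} {M : List (List ℤ)} (hM : checkDual T d M = true)
    (hd : Function.Injective fun u : Fˣ => u ^ d) [Fintype F] {φ : MulAut ↥(T.D.group F)}
    (hφ : T.D.IsFieldAut φ) (P : Subgroup ↥(T.D.group F)) (hP : ∀ x, x ∈ P ↔ φ x = x) :
    ∃ (K : Type) (_ : Field K) (_ : Fintype K), Fintype.card F = Fintype.card K ^ orderOf φ ∧
      Nonempty (↥P ≃* ↥(T.D.group K)) := by
  have hg := g.toGood
  obtain ⟨σ, ho, happ⟩ := fieldAut_data hg hφ
  obtain ⟨K, iK, iK', f, hcard, hf⟩ := exists_fixed_field σ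
  obtain ⟨e⟩ := group_equiv_fixElem hg f (σ := σ.toRingHom) hf
  have hmap : P.map (T.D.group F).subtype = fixElem hg σ.toRingHom := by
    refine le_antisymm ?_ ?_
    · rintro _ ⟨x, hx, rfl⟩
      refine fixed_eq_fixElem g hM hd x.2 ?_
      exact (happ x).symm.trans (congrArg Subtype.val ((hP x).1 hx))
    · intro y hy
      have hyG : y ∈ T.D.group F := by
        refine (Subgroup.closure_le _).2 ?_ hy
        rintro _ ⟨s, t, -, rfl⟩
        exact xg_mem_group hg s t
      exact ⟨⟨y, hyG⟩, (hP _).2 (Subtype.ext ((happ _).trans (fixElem_fixed hg _ hy))), rfl⟩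
  exact ⟨K, iK, iK', ho ▸ hcard,
    ⟨((P.equivMapOfInjective _ (T.D.group F).subtype_injective).trans (MulEquiv.subgroupCongr hmap)).trans e.symm⟩⟩

end Cfsg.Agent.ChevAut
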