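import Cfsg.Agent.Lib.ChevAut.AutFinal
import Cfsg.Agent.Lib.ChevAut.SubfieldGroup
import Cfsg.Prelude.Def_KGroupFacts

/-! The group of automorphisms normalising `U` and `V`. -/

set_option autoImplicit false

namespace Cfsg.Agent.ChevAut

open Cfsg.Lie Cfsg.Agent.Chev Cfsg.Agent.Chev.Tab

variable {T : Tab} {K : List (List ℕ)} {Ls : List Bool} {F : Type*} [Field F]

/-- the exponent of a node -/
noncomputable def exC (F : Type*) [Field F] (Ls : List Bool) (π : Equiv.Perm (Fin T.l)) (i : Fin T.l) : ℕ :=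
  if expFlag Ls i (π i) then ringChar F else 1

theorem exC_one (Ls : List Bool) (i : Fin T.l) : exC F Ls (1 : Equiv.Perm (Fin T.l)) i = 1 := by
  rw [exC, Equiv.Perm.one_apply, if_neg]
  simp [expFlag]

/-- The standard shape of an automorphism fixing `U` and `V`. -/
def Std (g : T.Good) (Ls : List Bool) (θ : MulAut ↥(T.D.group F)) (π : Equiv.Perm (Fin T.l))
    (μ : Fin T.l → Fˣ) (σ : F ≃+* F) : Prop :=
  ∀ (i : Fin T.l) (t : F),
    θ (xe g (T.smp i) t) = xe g (T.smp (π i)) ((μ (π i) : F) * σ (t ^ exC F Ls π i)) ∧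
    θ (xe g (T.neg (T.smp i)) t) =
      xe g (T.neg (T.smp (π i))) (((μ (π i))⁻¹ : Fˣ) * σ (t ^ exC F Ls π i))

theorem xe_inj (g : T.Good) {r : ℕ} (hr : r < T.n) {t u : F} (h : xe g r t = xe g r u) : t = u :=
  xg_injective g hr (congrArg Subtype.val h)

theorem exC_surjective [Finite F] (Ls : List Bool) (π : Equiv.Perm (Fin T.l)) (i : Fin T.l) :
    Function.Surjective fun t : F => t ^ exC F Ls π i := by
  obtain ⟨p, hp⟩ := CharP.exists F
  haveI : Fact p.Prime :=
    ⟨(CharP.char_is_prime_or_zero F p).resolve_right (CharP.char_ne_zero_of_finite F p)⟩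
  haveI : PerfectRing F p := PerfectRing.ofFiniteOfIsReduced p F
  unfold exC
  rw [ringChar.eq F p]
  by_cases hf : expFlag Ls i (π i) = true
  · simp only [if_pos hf]
    exact (frobeniusEquiv F p).surjective
  · simp only [if_neg hf, pow_one]
    exact Function.surjective_id

theorem Std.surj [Finite F] {g : T.Good} {θ : MulAut ↥(T.D.group F)}
    {π : Equiv.Perm (Fin T.l)} {μ : Fin T.l → Fˣ} {σ : F ≃+* F} (h : Std g Ls θ π μ σ)
    (i : Fin T.l) (u : F) :
    ∃ t, θ (xe g (T.smp i) t) = xe g (T.smp (π i)) u ∧ u = (μ (π i) : F) * σ (t ^ exC F Ls π i) := by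
  obtain ⟨t, ht⟩ := exC_surjective Ls π i (σ.symm (((μ (π i))⁻¹ : Fˣ) * u))
  simp only at ht
  refine ⟨t, ?_, ?_⟩
  · rw [(h i t).1, ht, RingEquiv.apply_symm_apply, ← mul_assoc, Units.mul_inv, one_mul]
  · rw [ht, RingEquiv.apply_symm_apply, ← mul_assoc, Units.mul_inv, one_mul]

theorem Std.surj_neg [Finite F] {g : T.Good} {θ : MulAut ↥(T.D.group F)}
    {π : Equiv.Perm (Fin T.l)} {μ : Fin T.l → Fˣ} {σ : F ≃+* F} (h : Std g Ls θ π μ σ)
    (i : Fin T.l) (u : F) :
    ∃ t, θ (xe g (T.neg (T.smp i)) t) = xe g (T.neg (T.smp (π i))) u ∧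
      u = ((μ (π i))⁻¹ : Fˣ) * σ (t ^ exC F Ls π i) := by
  obtain ⟨t, ht⟩ := exC_surjective Ls π i (σ.symm ((μ (π i) : F) * u))
  simp only at ht
  refine ⟨t, ?_, ?_⟩
  · rw [(h i t).2, ht, RingEquiv.apply_symm_apply, ← mul_assoc, Units.inv_mul, one_mul]
  · rw [ht, RingEquiv.apply_symm_apply, ← mul_assoc, Units.inv_mul, one_mul]

/-- The automorphisms fixing `U` and `V`. -/
def normAut (g : T.Good) (F : Type*) [Field F] : Subgroup (MulAut ↥(T.D.group F)) where
  carrier := {θ | Maps θ (genS g F (Set.Ico T.N T.n)) (genS g F (Set.Ico T.N T.n)) ∧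
    Maps θ (genS g F (Set.Iio T.N)) (genS g F (Set.Iio T.N))}
  one_mem' := ⟨fun _ => Iff.rfl, fun _ => Iff.rfl⟩
  mul_mem' ha hb := ⟨hb.1.trans ha.1, hb.2.trans ha.2⟩
  inv_mem' ha := ⟨ha.1.symm, ha.2.symm⟩

theorem mem_normAut {g : T.Good} {θ : MulAut ↥(T.D.group F)} :
    θ ∈ normAut g F ↔ Maps θ (genS g F (Set.Ico T.N T.n)) (genS g F (Set.Ico T.N T.n)) ∧
      Maps θ (genS g F (Set.Iio T.N)) (genS g F (Set.Iio T.N)) := Iff.rfl

variable [Finite F]

theorem exists_std (h : AutOK T K Ls) {θ : MulAut ↥(T.D.group F)} (hθ : θ ∈ normAut h.good.toGood F) :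
    ∃ π μ σ, Std h.good.toGood Ls θ π μ σ ∧
      ∀ i j : Fin T.l, i ≠ j → bd T (π i) (π j) = bd T i j := by
  have hg := h.good.toGood
  obtain ⟨π, hπ⟩ := exists_root_perm h.good h.orth hθ.1 hθ.2
  obtain ⟨a, φ, hlin, hA⟩ := exists_linear h.good hπ
  have hB := maps_borel h.good hθ.1
  have hx1 : ∀ i : Fin T.l, θ (xe hg (T.smp i) 1) = xe hg (T.smp (π i)) (a i : F) ∧
      θ (xe hg (T.neg (T.smp i)) (-1)) = xe hg (T.neg (T.smp (π i))) (-(a i : F)⁻¹) := fun i => by
    refine ⟨by rw [(hlin i 1).1, map_one, mul_one], ?_⟩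
    rw [(hlin i (-1)).2, map_neg, map_one, mul_neg_one, Units.val_inv_eq_inv_val]
  have hbd : ∀ i j : Fin T.l, i ≠ j → bd T (π i) (π j) = bd T i j :=
    fun i j hij => bd_image h hB hx1 hij
  obtain ⟨σ, hσ⟩ := exists_common_field h π φ hbd hA
  refine ⟨π, fun k => a (π.symm k), σ, fun i t => ?_, hbd⟩
  simp only [Equiv.symm_apply_apply, exC, ← hσ]
  exact hlin i t

/-- An automorphism of standard shape fixes `U` and `V`. -/
theorem Std.mem (g : T.GoodK K) {θ : MulAut ↥(T.D.group F)}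
    {π : Equiv.Perm (Fin T.l)} {μ : Fin T.l → Fˣ} {σ : F ≃+* F} (h : Std g.toGood Ls θ π μ σ) :
    θ ∈ normAut g.toGood F := by
  have hg := g.toGood
  have key : ∀ r, T.N ≤ r → r < T.n → ∃ r', T.N ≤ r' ∧ r' < T.n ∧ ∀ t : F,
      (∃ u, θ (xe hg r t) = xe hg r' u) ∧ ∃ u, θ (xe hg (T.neg r) t) = xe hg (T.neg r') u := by
    intro r
    induction r using Nat.strong_induction_on with
    | _ r ih =>
      intro hN hr
      rcases exists_descent hg hr hN with ⟨i, hi, rfl⟩ | ⟨i, hi, h2, h1, -⟩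
      · exact ⟨_, hg.smp_ge (π ⟨i, hi⟩).2, hg.smp_lt (π ⟨i, hi⟩).2,
          fun t => ⟨⟨_, (h ⟨i, hi⟩ t).1⟩, ⟨_, (h ⟨i, hi⟩ t).2⟩⟩⟩
      have hu := hg.ref_lt hi hr
      obtain ⟨r', hN', hr', hmap⟩ := ih _ h1 h2 hu
      let i' : Fin T.l := ⟨i, hi⟩
      have hr'i : r' ≠ T.smp (π i') := by
        intro e
        obtain ⟨v, hv⟩ := (hmap 1).1
        obtain ⟨s, hs, -⟩ := h.surj i' v
        rw [e] at hv
        have e2 := θ.injective (hv.trans hs.symm)
        have e3 := xg_root_eq hg hu (hg.smp_lt hi) one_ne_zero (congrArg Subtype.val e2)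
        have := hg.ref_ref hi hr
        rw [e3, hg.ref_smp hi] at this
        have := (neg_lt_N_iff (hg.smp_lt hi)).2 (hg.smp_ge hi)
        omega
      refine ⟨T.ref (π i') r', hg.ref_pos (π i').2 hr' hN' hr'i, hg.ref_lt (π i').2 hr', fun t => ?_⟩
      let n : ↥(T.D.group F) :=
        xe hg (T.smp i) 1 * xe hg (T.neg (T.smp i)) (-1) * xe hg (T.smp i) 1
      have hn : (n : GL T.D.Idx F) = nG hg F i := rfl
      obtain ⟨p, hp⟩ := CharP.exists F
      haveI : Fact p.Prime :=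
        ⟨(CharP.char_is_prime_or_zero F p).resolve_right (CharP.char_ne_zero_of_finite F p)⟩
      have he : ((-1 : F)) ^ exC F Ls π i' = -1 := by
        rw [exC, ringChar.eq F p]
        split
        · exact neg_one_pow_char F p
        · exact pow_one _
      have hθn : (θ n : GL T.D.Idx F) = hS T F (π i') (μ (π i')) * nG hg F (π i') := by
        have a1 : θ (xe hg (T.smp i) 1) = xe hg (T.smp (π i')) (μ (π i') : F) :=
          ((h i' 1).1).trans (by rw [one_pow, map_one, mul_one])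
        have a2 : θ (xe hg (T.neg (T.smp i)) (-1)) =
            xe hg (T.neg (T.smp (π i'))) (-(μ (π i') : F)⁻¹) :=
          ((h i' (-1)).2).trans (by rw [he, map_neg, map_one, mul_neg_one, Units.val_inv_eq_inv_val])
        simp only [n, map_mul, a1, a2, Subgroup.coe_mul, coe_xe]
        exact nE_simple hg (π i').2 (μ (π i'))
      have hstep : ∀ s s' : ℕ, s < T.n → s' < T.n → (∀ t, ∃ u, θ (xe hg s t) = xe hg s' u) →
          ∀ t, ∃ u, θ (xe hg (T.ref i s) t) = xe hg (T.ref (π i') s') u := by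
        intro s s' hs hs' hm t
        obtain ⟨u, hu⟩ := hm ((T.eta i s : F) * t)
        refine ⟨(wt T F (Pi.mulSingle ((π i' : ℕ)) (μ (π i'))) (T.ref (π i') s') : F) *
          ((T.eta (π i') s' : F) * u), Subtype.ext ?_⟩
        have e : xe hg (T.ref i s) t = n * xe hg s ((T.eta i s : F) * t) * n⁻¹ := Subtype.ext (by
          simp only [Subgroup.coe_mul, Subgroup.coe_inv, coe_xe, hn]
          rw [nG_conj hg hi hs, ← mul_assoc, eta_sq, one_mul])
        rw [e, map_mul, map_mul, map_inv, hu]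
        simp only [Subgroup.coe_mul, Subgroup.coe_inv, hθn, coe_xe]
        rw [show ∀ a b x : GL T.D.Idx F, a * b * x * (a * b)⁻¹ = a * (b * x * b⁻¹) * a⁻¹ from
          fun a b x => by group, nG_conj hg (π i').2 hs', hS,
          tor_xg hg _ (hg.ref_lt (π i').2 hs')]
      constructor
      · have := hstep _ _ hu hr' (fun t => (hmap t).1) t
        rwa [hg.ref_ref hi hr] at this
      · have := hstep _ _ (neg_lt hu) (neg_lt hr') (fun t => (hmap t).2) t
        rwa [hg.ref_neg hi hu, hg.ref_ref hi hr, hg.ref_neg (π i').2 hr'] at this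
  have final : ∀ S : Set ℕ,
      (∀ r ∈ S, ∀ t : F, (θ (xe hg r t) : GL T.D.Idx F) ∈ genS hg F S) →
      Maps θ (genS hg F S) (genS hg F S) := by
    intro S hS
    let S' := (genS hg F S).subgroupOf (T.D.group F)
    have hle : S'.map θ.toMonoidHom ≤ S' := by
      have hsub : genS hg F S ≤ ((S'.comap θ.toMonoidHom).map (T.D.group F).subtype) :=
        genS_le hg fun r hr t => ⟨xe hg r t, hS r hr t, rfl⟩
      rintro _ ⟨y, hy, rfl⟩
      obtain ⟨z, hz, e⟩ := hsub hy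
      rw [show z = y from Subtype.ext e] at hz
      exact hz
    have heq : S'.map θ.toMonoidHom = S' :=
      Subgroup.eq_of_le_of_card_ge hle (Subgroup.card_map_of_injective θ.injective).ge
    intro y
    constructor
    · exact fun hy => hle ⟨y, hy, rfl⟩
    · intro hy
      have hy' : θ y ∈ S'.map θ.toMonoidHom := by rw [heq]; exact hy
      obtain ⟨z, hz, e⟩ := hy'
      rw [θ.injective e] at hz
      exact hz
  refine ⟨final _ fun r hr t => ?_, final _ fun r hr t => ?_⟩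
  · obtain ⟨r', hN', hr', hmap⟩ := key r hr.1 hr.2
    obtain ⟨u, hu⟩ := (hmap t).1
    rw [hu]
    exact xg_mem_genS hg (S := Set.Ico T.N T.n) ⟨hN', hr'⟩ u
  · have hrn : r < T.n := by have := n_def (T := T); have : r < T.N := hr; omega
    obtain ⟨r', hN', hr', hmap⟩ := key (T.neg r) ((N_le_neg_iff hrn).2 hr) (neg_lt hrn)
    obtain ⟨u, hu⟩ := (hmap t).2
    rw [Tab.neg_neg hrn] at hu
    rw [hu]
    exact xg_mem_genS hg (S := Set.Iio T.N) ((neg_lt_N_iff hr').2 hN') u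

theorem std_perm_unique (g : T.Good) {θ : MulAut ↥(T.D.group F)}
    {π π' : Equiv.Perm (Fin T.l)} {μ μ' : Fin T.l → Fˣ} {σ σ' : F ≃+* F}
    (h : Std g Ls θ π μ σ) (h' : Std g Ls θ π' μ' σ') : π = π' := by
  refine Equiv.ext fun i => ?_
  obtain ⟨t, ht, -⟩ := h.surj i 1
  exact Fin.ext (g.smp_inj (π i).2 (π' i).2 (xg_root_eq g (g.smp_lt (π i).2) (g.smp_lt (π' i).2)
    one_ne_zero (congrArg Subtype.val (ht.symm.trans (h' i t).1))))

/-- the permutation of the nodes -/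
noncomputable def piHom (h : AutOK T K Ls) (F : Type*) [Field F] [Finite F] :
    ↥(normAut h.good.toGood F) →* Equiv.Perm (Fin T.l) where
  toFun θ := (exists_std h θ.2).choose
  map_one' := by
    obtain ⟨μ, σ, hs, -⟩ := (exists_std h (θ := 1) (normAut h.good.toGood F).one_mem).choose_spec
    refine std_perm_unique h.good.toGood hs (π' := 1) (μ' := 1) (σ' := RingEquiv.refl F) fun i t => ?_
    simp [exC_one]
  map_mul' θ θ' := by
    have hg := h.good.toGood
    obtain ⟨μ₁, σ₁, h₁, -⟩ := (exists_std h θ.2).choose_spec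
    obtain ⟨μ₂, σ₂, h₂, -⟩ := (exists_std h θ'.2).choose_spec
    obtain ⟨μ₃, σ₃, h₃, -⟩ := (exists_std h (θ * θ').2).choose_spec
    generalize (exists_std h θ.2).choose = π₁ at h₁ ⊢
    generalize (exists_std h θ'.2).choose = π₂ at h₂ ⊢
    generalize (exists_std h (θ * θ').2).choose = π₃ at h₃ ⊢
    refine Equiv.ext fun i => ?_
    obtain ⟨s, hs, -⟩ := h₁.surj (π₂ i) 1
    obtain ⟨t, ht, -⟩ := h₂.surj i s
    have e : (θ * θ' : ↥(normAut hg F)).1 (xe hg (T.smp i) t) = xe hg (T.smp (π₁ (π₂ i))) 1 := by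
      rw [Subgroup.coe_mul, MulAut.mul_apply, ht, hs]
    rw [(h₃ i t).1] at e
    exact Fin.ext (hg.smp_inj (π₃ i).2 (π₁ (π₂ i)).2
      (xg_root_eq hg (hg.smp_lt (π₁ (π₂ i)).2) (hg.smp_lt (π₃ i).2) one_ne_zero
        (congrArg Subtype.val e.symm)).symm)

theorem piHom_spec (h : AutOK T K Ls) (θ : ↥(normAut h.good.toGood F)) :
    ∃ μ σ, Std h.good.toGood Ls θ.1 (piHom h F θ) μ σ ∧
      ∀ i j : Fin T.l, i ≠ j → bd T (piHom h F θ i) (piHom h F θ j) = bd T i j :=
  (exists_std h θ.2).choose_spec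

theorem piHom_eq (h : AutOK T K Ls) {θ : MulAut ↥(T.D.group F)}
    {π : Equiv.Perm (Fin T.l)} {μ : Fin T.l → Fˣ} {σ : F ≃+* F}
    (hs : Std h.good.toGood Ls θ π μ σ) : piHom h F ⟨θ, hs.mem h.good⟩ = π := by
  obtain ⟨μ', σ', h', -⟩ := piHom_spec h ⟨θ, hs.mem h.good⟩
  exact std_perm_unique h.good.toGood h' hs

omit [Finite F] in
theorem fieldAut_std (g : T.Good) (Ls : List Bool) (σ : F ≃+* F) :
    Std g Ls (fieldAut g σ) 1 1 σ := fun i t => by
  simp [exC_one, fieldAut_xe]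

omit [Finite F] in
theorem diag_std (g : T.Good) (Ls : List Bool) {D : ChevalleyDatum}
    (hD : D ∈ [chevG2, chevB2, chevD4, chevF4, chevE6, chevE7, chevE8]) (hTD : T.D = D)
    {d : MulAut ↥(T.D.group F)} (hd : T.D.IsDiagonalAut d) :
    ∃ μ, Std g Ls d 1 μ (RingEquiv.refl F) := by
  obtain ⟨χ, hχ, hd⟩ := hd
  obtain ⟨d', -, hd'⟩ := exists_diagonalAut (F := F) hD hTD g hχ
  refine ⟨fun k => χ (T.smp k), fun i t => ?_⟩
  have hx : ∀ r < T.n, ∀ t : F, d (xe g r t) = xe g r ((χ r : F) * t) := by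
    intro r hr t
    subst hTD
    refine Subtype.ext (Units.ext ?_)
    rw [hd, coe_xe, coe_xe, xg_val, xg_val]
    exact Cfsg.Agent.S2157.result T.D hD χ hχ r (g.nroots_eq.symm ▸ hr) t
  simp only [exC_one, pow_one, Equiv.Perm.one_apply, RingEquiv.refl_apply]
  refine ⟨hx _ (g.smp_lt i.2) t, ?_⟩
  rw [hx _ (neg_lt (g.smp_lt i.2)) t]
  congr 3
  have := hχ.1 (T.smp i) (g.nroots_eq.symm ▸ g.smp_lt i.2)
  rwa [g.neg_eq (g.smp_lt i.2)] at this

omit [Finite F] in
theorem aut_ext (g : T.Good) {θ θ' : MulAut ↥(T.D.group F)}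
    (h : ∀ (i : Fin T.l) (t : F), θ (xe g (T.smp i) t) = θ' (xe g (T.smp i) t) ∧
      θ (xe g (T.neg (T.smp i)) t) = θ' (xe g (T.neg (T.smp i)) t)) : θ = θ' := by
  have he : ∀ r (hr : r < T.n) (t : F), el g r hr t = xe g r t := fun r hr t =>
    (eq_el g hr t (xg_val g r t)).symm
  refine MulEquiv.toMonoidHom_injective (hom_ext g fun i hi t => ?_)
  rw [he, he]
  exact h ⟨i, hi⟩ t

omit [Finite F] in
theorem std_diag_unique (g : T.Good) {θ θ' : MulAut ↥(T.D.group F)} {π : Equiv.Perm (Fin T.l)}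
    {μ : Fin T.l → Fˣ} {σ : F ≃+* F} (h : Std g Ls θ π μ σ) (h' : Std g Ls θ' π μ σ) : θ = θ' :=
  aut_ext g fun i t => ⟨(h i t).1.trans (h' i t).1.symm, (h i t).2.trans (h' i t).2.symm⟩

/-- Standard diagonal automorphisms exist with any parameters. -/
theorem exists_diag_param (h : AutOK T K Ls) {D : ChevalleyDatum}
    (hD : D ∈ [chevG2, chevB2, chevD4, chevF4, chevE6, chevE7, chevE8]) (hTD : T.D = D)
    (μ : Fin T.l → Fˣ) :
    ∃ d : MulAut ↥(T.D.group F), T.D.IsDiagonalAut d ∧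
      Std h.good.toGood Ls d 1 μ (RingEquiv.refl F) := by
  have hg := h.good.toGood
  obtain ⟨χ, hχ, hv⟩ := exists_character h.good h.coef
    (fun k => if hk : k < T.l then μ ⟨k, hk⟩ else (1 : Fˣ))
  obtain ⟨d, hd, hdx⟩ := exists_diagonalAut (F := F) hD hTD hg hχ
  refine ⟨d, hd, fun i t => ?_⟩
  obtain ⟨e1, e2⟩ := hv i i.2
  rw [dif_pos i.2] at e1 e2
  simp only [exC_one, pow_one, Equiv.Perm.one_apply, RingEquiv.refl_apply]
  rw [hdx _ (hg.smp_lt i.2), hdx _ (neg_lt (hg.smp_lt i.2)), e1, e2]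
  exact ⟨rfl, rfl⟩

/-- The field automorphisms as a homomorphism. -/
noncomputable def fieldHom (g : T.Good) (F : Type*) [Field F] : (F ≃+* F) →* MulAut ↥(T.D.group F) where
  toFun := fieldAut g
  map_one' := by ext y : 1; exact Subtype.ext (Units.ext (Matrix.ext fun i j => rfl))
  map_mul' a b := by ext y : 1; exact Subtype.ext (Units.ext (Matrix.ext fun i j => rfl))

theorem field_of_isFieldAut (g : T.Good) {f : MulAut ↥(T.D.group F)} (hf : T.D.IsFieldAut f) :
    ∃ σ, f = fieldHom g F σ := by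
  obtain ⟨σ, -, h⟩ := fieldAut_data g hf
  exact ⟨σ, by ext y : 1; exact Subtype.ext (h y)⟩

theorem conj_mem_normAut (g : T.GoodK K) {x : ↥(T.D.group F)}
    (hx : MulAut.conj x ∈ normAut g.toGood F) :
    ∃ c : ℕ → Fˣ, (x : GL T.D.Idx F) = tor T F c := by
  have hg := g.toGood
  set X : GL T.D.Idx F := (x : GL T.D.Idx F)
  have hN : ∀ S : Set ℕ,
      Maps (MulAut.conj x) (genS hg F S) (genS hg F S) →
      X ∈ Subgroup.normalizer (genS hg F S : Set (GL T.D.Idx F)) := by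
    intro S hS
    rw [Subgroup.mem_normalizer_iff]
    intro z
    constructor
    · intro hz
      exact (hS ⟨z, genS_le_group hg hz⟩).1 hz
    · intro hz
      have hzG : z ∈ T.D.group F := by
        have := mul_mem (mul_mem (inv_mem x.2) (genS_le_group hg hz)) x.2
        simpa [X, mul_assoc] using this
      exact (hS ⟨z, hzG⟩).2 hz
  have hB := mem_borel_of_normalizes g.toGoodA x.2 (hN _ hx.1)
  obtain ⟨u, hu, c, hc⟩ := (mem_borel_iff hg).1 hB
  refine ⟨c, ?_⟩
  have hu' : u ∈ Subgroup.normalizer (genS hg F (Set.Iio T.N) : Set (GL T.D.Idx F)) := by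
    rw [show u = X * (tor T F c)⁻¹ by simp only [X]; rw [hc]; group]
    exact mul_mem (hN _ hx.2) (inv_mem (tor_normalizes hg (fun r hr => by
      have := n_def (T := T); have : r < T.N := hr; omega) c))
  obtain ⟨L, hL, hL1, hL2⟩ := exists_longest hg
  have himg : T.rw' L '' Set.Iio T.N = Set.Ico T.N T.n := by
    ext r
    constructor
    · rintro ⟨s, hs, rfl⟩
      have hsn : s < T.n := by have := n_def (T := T); have : s < T.N := hs; omega
      refine ⟨?_, rw'_lt hg hL hsn⟩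
      have := hL1 _ ((N_le_neg_iff hsn).2 hs) (neg_lt hsn)
      rw [rw'_neg hg hL hsn, neg_lt_N_iff (rw'_lt hg hL hsn)] at this
      exact this
    · rintro ⟨h1, h2⟩
      exact ⟨_, hL2 r h1 h2, rw'_rev' hg hL h2⟩
  have hw : nWd hg F L ∈ T.D.group F := monomial_le_group hg ((mem_monomial_iff hg).2 ⟨L, hL, 1, by simp⟩)
  set ν := nWd hg F L with hν
  have hv : ν * u * ν⁻¹ ∈ genS hg F (Set.Iio T.N) := by
    refine genS_mono hg ?_ ((genS_map_nWd (F := F) hg hL (fun r hr => hr.2)).le ⟨u, hu, rfl⟩)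
    rintro _ ⟨r, hr, rfl⟩
    exact hL1 r hr.1 hr.2
  have hnU : ν * u * ν⁻¹ ∈ Subgroup.normalizer (genS hg F (Set.Ico T.N T.n) : Set (GL T.D.Idx F)) := by
    have e := genS_map_nWd (F := F) hg hL (S := Set.Iio T.N) (fun r hr => by
      have := n_def (T := T); have : r < T.N := hr; omega)
    rw [himg] at e
    rw [← e, ← Subgroup.map_equiv_normalizer_eq]
    exact ⟨u, hu', rfl⟩
  have h1 : ν * u * ν⁻¹ = 1 := borel_inf_neg hg
    (mem_borel_of_normalizes g.toGoodA
      (mul_mem (mul_mem hw (posU_le_group hg hu)) (inv_mem hw)) hnU) hv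
  have hu1 : u = 1 := by simpa using h1
  show X = _
  simp only [X]
  rw [hc, hu1, one_mul]

omit [Finite F] in
theorem tor_std (g : T.Good) (Ls : List Bool) {x : ↥(T.D.group F)} {c : ℕ → Fˣ}
    (hx : (x : GL T.D.Idx F) = tor T F c) :
    Std g Ls (MulAut.conj x) 1 (fun k => wt T F c (T.smp k)) (RingEquiv.refl F) := by
  intro i t
  simp only [exC_one, pow_one, Equiv.Perm.one_apply, RingEquiv.refl_apply]
  constructor
  · refine Subtype.ext ?_
    simp only [MulAut.conj_apply, Subgroup.coe_mul, Subgroup.coe_inv, coe_xe, hx]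
    exact tor_xg g c (g.smp_lt i.2) t
  · refine Subtype.ext ?_
    simp only [MulAut.conj_apply, Subgroup.coe_mul, Subgroup.coe_inv, coe_xe, hx]
    rw [tor_xg g c (neg_lt (g.smp_lt i.2)) t, wt_neg g (g.smp_lt i.2)]

end Cfsg.Agent.ChevAut
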