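import Cfsg.Agent.Lib.ChevAut.AutRoots

/-! An automorphism permuting the fundamental root groups acts on each by a field automorphism followed
by a scalar. -/

set_option autoImplicit false

namespace Cfsg.Agent.ChevAut

open Cfsg.Lie Cfsg.Agent.Chev Cfsg.Agent.Chev.Tab

variable {T : Tab} {K : List (List ℕ)} {F : Type*} [Field F]

/-- `h_{p}(u) n_p` conjugates `X_p` to `X_{-p}`. -/
theorem hn_conj (g : T.Good) {i : ℕ} (hi : i < T.l) (u : Fˣ) (t : F) :
    ∃ k : F, (t ≠ 0 → k ≠ 0) ∧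
      (hS T F i u * nG g F i) * xg g (T.smp i) t * (hS T F i u * nG g F i)⁻¹ =
        xg g (T.neg (T.smp i)) k := by
  refine ⟨(wt T F (Pi.mulSingle i u) (T.neg (T.smp i)) : F) * -t, fun ht => ?_, ?_⟩
  · exact mul_ne_zero (Units.ne_zero _) (neg_ne_zero.2 ht)
  rw [show ∀ a b x : GL T.D.Idx F, a * b * x * (a * b)⁻¹ = a * (b * x * b⁻¹) * a⁻¹ from
    fun a b x => by group, nG_conj g hi (g.smp_lt hi), g.ref_smp hi, g.eta_smp hi, hS,
    tor_xg g _ (neg_lt (g.smp_lt hi))]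
  simp

theorem y_decomp (g : T.Good) {i : ℕ} (hi : i < T.l) {b : F} (hb : b ≠ 0) :
    ∃ v : Fˣ, (v : F) = -b⁻¹ ∧ xg g (T.neg (T.smp i)) b =
      xg g (T.smp i) b⁻¹ * (hS T F i v * nG g F i) * xg g (T.smp i) b⁻¹ := by
  refine ⟨Units.mk0 (-b⁻¹) (neg_ne_zero.2 (inv_ne_zero hb)), rfl, ?_⟩
  rw [← nE_simple g hi]
  simp only [Units.val_mk0, inv_neg, inv_inv, _root_.neg_neg]
  rw [← mul_assoc, ← mul_assoc, xg_add, add_neg_cancel, xg_zero, one_mul, mul_assoc, xg_add,
    neg_add_cancel, xg_zero, mul_one]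

/-- If `x(a) y(k) x(-a)` is a negative root element then `a = 0`. -/
theorem conj_neg_root (g : T.GoodA) {i : ℕ} (hi : i < T.l) {a k s : F} (hk : k ≠ 0)
    (h : xg g.toGood (T.smp i) a * xg g.toGood (T.neg (T.smp i)) k * xg g.toGood (T.smp i) (-a) =
      xg g.toGood (T.neg (T.smp i)) s) : a = 0 := by
  have hg := g.toGood
  by_cases hs : s = 0
  · subst hs
    exfalso
    rw [xg_zero, ← xg_inv, mul_inv_eq_one] at h
    have h' : xg hg (T.neg (T.smp i)) k = 1 := by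
      calc xg hg (T.neg (T.smp i)) k = (xg hg (T.smp i) a)⁻¹ *
            (xg hg (T.smp i) a * xg hg (T.neg (T.smp i)) k) := by group
        _ = 1 := by rw [h, inv_mul_cancel]
    rw [← xg_zero hg (T.neg (T.smp i))] at h'
    exact hk (xg_injective hg (neg_lt (hg.smp_lt hi)) h')
  obtain ⟨v, hv, ev⟩ := y_decomp hg hi hk
  obtain ⟨w, hw, ew⟩ := y_decomp hg hi hs
  have e : xg hg (T.smp i) (a + k⁻¹) * (hS T F i v * nG hg F i) * xg hg (T.smp i) k⁻¹ =
      (xg hg (T.smp i) s⁻¹ * (hS T F i w * (hS T F i v)⁻¹)) * (hS T F i v * nG hg F i) *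
        xg hg (T.smp i) (s⁻¹ + a) := by
    calc xg hg (T.smp i) (a + k⁻¹) * (hS T F i v * nG hg F i) * xg hg (T.smp i) k⁻¹
        = xg hg (T.smp i) a * (xg hg (T.smp i) k⁻¹ * (hS T F i v * nG hg F i) *
            xg hg (T.smp i) k⁻¹) * xg hg (T.smp i) (-a) * xg hg (T.smp i) a := by
          rw [mul_assoc _ (xg hg (T.smp i) (-a)) (xg hg (T.smp i) a), xg_add, neg_add_cancel,
            xg_zero, mul_one, ← xg_add hg _ a k⁻¹]
          group
      _ = xg hg (T.smp i) s⁻¹ * (hS T F i w * nG hg F i) * xg hg (T.smp i) s⁻¹ * xg hg (T.smp i) a := by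
          rw [← ev, h, ew]
      _ = _ := by rw [← xg_add hg _ s⁻¹ a]; group
  have hn : hS T F i v * nG hg F i = tor T F (Pi.mulSingle i v) * nWd hg F [i] := by
    simp [hS, nWd_cons]
  have hmem : ∀ t : F, xg hg (T.smp i) t ∈ uMinus hg F [i] := fun t =>
    xg_mem_genS hg (S := {r | T.N ≤ r ∧ r < T.n ∧ T.rw' [i] r < T.N})
      ⟨hg.smp_ge hi, hg.smp_lt hi, by
        rw [rw'_cons, rw'_nil, hg.ref_smp hi]; exact (neg_lt_N_iff (hg.smp_lt hi)).2 (hg.smp_ge hi)⟩ t
  have hB : ∀ t : F, xg hg (T.smp i) t ∈ T.D.borelSubgroup F :=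
    pos_le_borel hg (hg.smp_ge hi) (hg.smp_lt hi)
  have hwd : T.Wd [i] := by simp [Wd, hi]
  have hN : hS T F i v * nG hg F i ∈ T.D.monomialSubgroup F :=
    (mem_monomial_iff hg).2 ⟨[i], hwd, _, hn⟩
  have hH : hS T F i w * (hS T F i v)⁻¹ ∈ T.D.borelSubgroup F := by
    rw [← hS_inv, ← hS_mul]; exact torus_le_borel hg _
  obtain ⟨e1, e2⟩ := (bruhat_unique g (hB _) (mul_mem (hB _) hH) hN hN hwd hn (hmem _) (hmem _) e).2 rfl rfl
  have e2' := xg_injective hg (hg.smp_lt hi) e2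
  have hxw : hS T F i w * (hS T F i v)⁻¹ = xg hg (T.smp i) (-s⁻¹ + (a + k⁻¹)) := by
    rw [← xg_add hg _ (-s⁻¹) (a + k⁻¹), e1, ← mul_assoc, xg_add, neg_add_cancel, xg_zero, one_mul]
  have h1 : hS T F i w * (hS T F i v)⁻¹ = 1 := by
    refine pos_inf_torus hg ?_ ?_
    · rw [hxw]; exact xg_mem_genS hg (S := Set.Ico T.N T.n) ⟨hg.smp_ge hi, hg.smp_lt hi⟩ _
    · rw [diagonalSubgroup_eq hg, ← hS_inv, ← hS_mul]; exact ⟨_, rfl⟩
  rw [h1, ← xg_zero hg (T.smp i)] at hxw
  have e1' := xg_injective hg (hg.smp_lt hi) hxw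
  have hsq : (w : F) ^ 2 = (v : F) ^ 2 := by
    have e3 : ∀ z : Fˣ, hS T F i z * xg hg (T.smp i) 1 * (hS T F i z)⁻¹ =
        xg hg (T.smp i) ((z : F) ^ 2) := by
      intro z
      rw [hS, tor_xg hg _ (hg.smp_lt hi), wt_single hg hi, A_smp_self hg hi, mul_one]
      norm_cast
    refine xg_injective hg (hg.smp_lt hi) ?_
    rw [← e3, ← e3, mul_inv_eq_one.1 h1]
  by_cases h2 : (2 : F) = 0
  · have hvw : (w : F) = v := by
      have : ((w : F) - v) ^ 2 = 0 := by linear_combination hsq - ((w : F) * v - (v : F) ^ 2) * h2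
      exact sub_eq_zero.1 (eq_zero_of_pow_eq_zero this)
    rw [hv, hw, neg_inj] at hvw
    linear_combination (-1 : F) * hvw - e2'
  · have : 2 * a = 0 := by linear_combination (-1 : F) * e1' - e2'
    exact (mul_eq_zero.1 this).resolve_left h2

/-- An element `x(a) y(b) x(c)` moving `X_p` into `X_{-p}` in both directions is some `n_p(a)`. -/
theorem word_is_n (g : T.GoodA) {i : ℕ} (hi : i < T.l) {a b c t₀ : F} (ht : t₀ ≠ 0) {s s' : F}
    (h1 : (xg g.toGood (T.smp i) a * xg g.toGood (T.neg (T.smp i)) b * xg g.toGood (T.smp i) c) *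
      xg g.toGood (T.smp i) t₀ *
      (xg g.toGood (T.smp i) a * xg g.toGood (T.neg (T.smp i)) b * xg g.toGood (T.smp i) c)⁻¹ =
        xg g.toGood (T.neg (T.smp i)) s)
    (h2 : (xg g.toGood (T.smp i) a * xg g.toGood (T.neg (T.smp i)) b * xg g.toGood (T.smp i) c)⁻¹ *
      xg g.toGood (T.smp i) t₀ *
      (xg g.toGood (T.smp i) a * xg g.toGood (T.neg (T.smp i)) b * xg g.toGood (T.smp i) c) =
        xg g.toGood (T.neg (T.smp i)) s') :
    b ≠ 0 ∧ a = -b⁻¹ ∧ c = -b⁻¹ := by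
  have hg := g.toGood
  have hb : b ≠ 0 := by
    rintro rfl
    rw [xg_zero, mul_one, xg_add, xg_inv, xg_add, xg_add, show a + c + t₀ + -(a + c) = t₀ by ring] at h1
    have h3 : xg hg (T.smp i) t₀ = 1 := borel_inf_neg hg (pos_le_borel hg (hg.smp_ge hi) (hg.smp_lt hi) _)
      (h1.symm ▸ xg_mem_genS hg (S := Set.Iio T.N) ((neg_lt_N_iff (hg.smp_lt hi)).2 (hg.smp_ge hi)) _)
    rw [← xg_zero hg (T.smp i)] at h3
    exact ht (xg_injective hg (hg.smp_lt hi) h3)
  refine ⟨hb, ?_⟩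
  have half : ∀ (a b c s : F), b ≠ 0 →
      (xg hg (T.smp i) a * xg hg (T.neg (T.smp i)) b * xg hg (T.smp i) c) * xg hg (T.smp i) t₀ *
        (xg hg (T.smp i) a * xg hg (T.neg (T.smp i)) b * xg hg (T.smp i) c)⁻¹ =
          xg hg (T.neg (T.smp i)) s → a + b⁻¹ = 0 := by
    intro a b c s hb h
    obtain ⟨v, -, ev⟩ := y_decomp hg hi hb
    obtain ⟨k, hk, ek⟩ := hn_conj hg hi v t₀
    refine conj_neg_root g hi (hk ht) (s := s) ?_
    rw [← h, ev, ← ek]
    generalize hS T F i v * nG hg F i = n at *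
    have e : xg hg (T.smp i) a * (xg hg (T.smp i) b⁻¹ * n * xg hg (T.smp i) b⁻¹) * xg hg (T.smp i) c =
        xg hg (T.smp i) (a + b⁻¹) * n * xg hg (T.smp i) (b⁻¹ + c) := by
      rw [← xg_add hg _ a b⁻¹, ← xg_add hg _ b⁻¹ c]; group
    rw [e, mul_inv_rev, mul_inv_rev, xg_inv, xg_inv]
    have e' : xg hg (T.smp i) (b⁻¹ + c) * xg hg (T.smp i) t₀ * xg hg (T.smp i) (-(b⁻¹ + c)) =
        xg hg (T.smp i) t₀ := by
      rw [xg_add, xg_add]; congr 1; ring
    conv_lhs => rw [← e']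
    group
  constructor
  · linear_combination half a b c s hb h1
  · have := half (-c) (-b) (-a) s' (neg_ne_zero.2 hb) (by
      rw [← h2, mul_inv_rev, mul_inv_rev, mul_inv_rev, mul_inv_rev]
      simp only [xg_inv, _root_.neg_neg]
      group)
    rw [inv_neg] at this
    linear_combination -this

/-- a root element of the group -/
noncomputable def xe (g : T.Good) (r : ℕ) (t : F) : ↥(T.D.group F) := ⟨xg g r t, xg_mem_group g r t⟩

@[simp] theorem coe_xe (g : T.Good) (r : ℕ) (t : F) : (xe g r t : GL T.D.Idx F) = xg g r t := rfl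

theorem xe_add (g : T.Good) (r : ℕ) (t u : F) : xe g r t * xe g r u = xe g r (t + u) :=
  Subtype.ext (xg_add g r t u)

theorem exists_linear [Finite F] (g : T.GoodK K) {θ : MulAut ↥(T.D.group F)}
    {π : Equiv.Perm (Fin T.l)}
    (hπ : ∀ k : Fin T.l,
      Maps θ (T.D.rootSubgroup F (T.smp k)) (T.D.rootSubgroup F (T.smp (π k))) ∧
      Maps θ (T.D.rootSubgroup F (T.neg (T.smp k))) (T.D.rootSubgroup F (T.neg (T.smp (π k))))) :
    ∃ (a : Fin T.l → Fˣ) (φ : Fin T.l → F ≃+* F),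
      (∀ (i : Fin T.l) (t : F),
        θ (xe g.toGood (T.smp i) t) = xe g.toGood (T.smp (π i)) ((a i : F) * φ i t) ∧
        θ (xe g.toGood (T.neg (T.smp i)) t) =
          xe g.toGood (T.neg (T.smp (π i))) (((a i)⁻¹ : Fˣ) * φ i t)) ∧
      ∀ (i j : Fin T.l) (t : F), t ≠ 0 →
        φ j t ^ T.A i (T.smp j) = φ i t ^ T.A (π i) (T.smp (π j)) := by
  have hg := g.toGood
  have him : ∀ r r' : ℕ, Maps θ (T.D.rootSubgroup F r) (T.D.rootSubgroup F r') → r < T.n → r' < T.n →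
      ∃ f : F ≃+ F, ∀ t, θ (xe hg r t) = xe hg r' (f t) := by
    intro r r' h hr hr'
    have h1 : ∀ t : F, ∃ u : F, θ (xe hg r t) = xe hg r' u := by
      intro t
      obtain ⟨u, hu⟩ := (mem_rootSubgroup_iff hg).1 ((h (xe hg r t)).1 ((mem_rootSubgroup_iff hg).2 ⟨t, rfl⟩))
      exact ⟨u, Subtype.ext hu⟩
    choose f hf using h1
    have hinj : ∀ t u, xe (F := F) hg r' t = xe hg r' u → t = u := fun t u e =>
      xg_injective hg hr' (congrArg Subtype.val e)
    refine ⟨AddEquiv.ofBijective (AddMonoidHom.mk' f fun t u => hinj _ _ ?_) ?_, hf⟩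
    · rw [← hf, ← xe_add, map_mul, hf, hf, xe_add]
    · refine Finite.injective_iff_bijective.1 fun t u e => ?_
      have : θ (xe hg r t) = θ (xe hg r u) := by
        rw [hf, hf]; exact congrArg (xe hg r') e
      exact xg_injective hg hr (congrArg Subtype.val (θ.injective this))
  choose f hf using fun i : Fin T.l =>
    him _ _ (hπ i).1 (hg.smp_lt i.2) (hg.smp_lt (π i).2)
  choose f' hf' using fun i : Fin T.l =>
    him _ _ (hπ i).2 (neg_lt (hg.smp_lt i.2)) (neg_lt (hg.smp_lt (π i).2))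
  have hf1 : ∀ i, f i 1 ≠ 0 := fun i => by simp
  -- images of the negative elements
  have hneg : ∀ (i : Fin T.l) (u : Fˣ), f' i (-(u : F)⁻¹) = -(f i u)⁻¹ := by
    intro i u
    let w := xe hg (T.smp i) (u : F) * xe hg (T.neg (T.smp i)) (-(u : F)⁻¹) * xe hg (T.smp i) (u : F)
    have hw : (w : GL T.D.Idx F) = hS T F i u * nG hg F i := by
      simp only [w, Subgroup.coe_mul, coe_xe]
      exact nE_simple hg i.2 u
    obtain ⟨k, -, hk⟩ := hn_conj hg i.2 u (1 : F)
    have hk' : ∃ k' : F, (hS T F i u * nG hg F i)⁻¹ * xg hg (T.smp i) 1 * (hS T F i u * nG hg F i) =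
        xg hg (T.neg (T.smp i)) k' := by
      obtain ⟨c, hc⟩ : ∃ c, (hS T F i u * nG hg F i)⁻¹ = hS T F i c * nG hg F i := by
        refine ⟨u * -1, ?_⟩
        rw [mul_inv_rev, ← hS_inv]
        have e1 : (nG hg F i)⁻¹ = hS T F i (-1) * nG hg F i := by
          refine inv_eq_of_mul_eq_one_left ?_
          rw [mul_assoc, nG_sq hg i.2, ← hS_mul]
          simp [hS_one]
        rw [e1, mul_assoc, nG_hS hg i.2, ← mul_assoc, ← hS_mul, inv_inv, mul_comm (-1 : Fˣ)]
      obtain ⟨k', -, hk'⟩ := hn_conj hg i.2 c (1 : F)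
      refine ⟨k', ?_⟩
      rw [← hk', ← hc, inv_inv]
    obtain ⟨k', hk'⟩ := hk'
    have h1 : w * xe hg (T.smp i) 1 * w⁻¹ = xe hg (T.neg (T.smp i)) k := Subtype.ext (by
      simp only [Subgroup.coe_mul, Subgroup.coe_inv, coe_xe, hw]; exact hk)
    have h2 : w⁻¹ * xe hg (T.smp i) 1 * w = xe hg (T.neg (T.smp i)) k' := Subtype.ext (by
      simp only [Subgroup.coe_mul, Subgroup.coe_inv, coe_xe, hw]; exact hk')
    have h1' := congrArg (fun y => ((θ y : ↥(T.D.group F)) : GL T.D.Idx F)) h1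
    have h2' := congrArg (fun y => ((θ y : ↥(T.D.group F)) : GL T.D.Idx F)) h2
    simp only [w, map_mul, map_inv, hf, hf', Subgroup.coe_mul, Subgroup.coe_inv, coe_xe] at h1' h2'
    obtain ⟨hb, ha, -⟩ := word_is_n g.toGoodA (π i).2 (hf1 i) h1' h2'
    rw [ha, inv_neg, _root_.neg_neg, inv_inv]
  -- images of the torus
  have htor : ∀ (i j : Fin T.l) (u : Fˣ) (b : F),
      f j (((u ^ T.A i (T.smp j) : Fˣ) : F) * b) =
        (f i (u : F) / f i 1) ^ T.A (π i) (T.smp (π j)) * f j b := by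
    intro i j u b
    let w := fun v : Fˣ =>
      xe hg (T.smp i) (v : F) * xe hg (T.neg (T.smp i)) (-(v : F)⁻¹) * xe hg (T.smp i) (v : F)
    have hw : ∀ v, (w v : GL T.D.Idx F) = hS T F i v * nG hg F i := fun v => by
      simp only [w, Subgroup.coe_mul, coe_xe]
      exact nE_simple hg i.2 v
    let a : Fˣ → Fˣ := fun v => Units.mk0 (f i (v : F)) (by simp)
    have hθw : ∀ v, (θ (w v) : GL T.D.Idx F) = hS T F (π i) (a v) * nG hg F (π i) := by
      intro v
      have h := nE_simple hg (π i).2 (a v)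
      rw [← h]
      simp only [w, map_mul, hf, hf', hneg, Subgroup.coe_mul, coe_xe, a, Units.val_mk0]
    have e : (w u * (w 1)⁻¹) * xe hg (T.smp j) b * (w u * (w 1)⁻¹)⁻¹ =
        xe hg (T.smp j) (((u ^ T.A i (T.smp j) : Fˣ) : F) * b) := Subtype.ext (by
      simp only [Subgroup.coe_mul, Subgroup.coe_inv, hw, coe_xe, hS_one, one_mul]
      rw [mul_inv_cancel_right, hS, tor_xg hg _ (hg.smp_lt j.2), wt_single hg i.2])
    have e' := congrArg (fun y => ((θ y : ↥(T.D.group F)) : GL T.D.Idx F)) e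
    simp only [map_mul, map_inv, hf, Subgroup.coe_mul, Subgroup.coe_inv, coe_xe, hθw] at e'
    rw [show hS T F (π i) (a u) * nG hg F (π i) * (hS T F (π i) (a 1) * nG hg F (π i))⁻¹ =
      hS T F (π i) (a u) * (hS T F (π i) (a 1))⁻¹ by group, ← hS_inv, ← hS_mul, hS,
      tor_xg hg _ (hg.smp_lt (π j).2), wt_single hg (π i).2] at e'
    rw [← xg_injective hg (hg.smp_lt (π j).2) e', Units.val_zpow_eq_zpow_val]
    simp [a, div_eq_mul_inv]
  -- each normalised map is a field automorphism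
  have hmul : ∀ (i : Fin T.l) (t b : F), f i (t ^ 2 * b) = (f i t / f i 1) ^ 2 * f i b := by
    intro i t b
    rcases eq_or_ne t 0 with rfl | ht
    · simp
    have := htor i i (Units.mk0 t ht) b
    rw [A_smp_self hg i.2, A_smp_self hg (π i).2] at this
    norm_cast at this
  let gg : Fin T.l → F → F := fun i t => f i t / f i 1
  have hgg : ∀ i t u, gg i (t + u) = gg i t + gg i u := fun i t u => by simp [gg, add_div]
  have hgg1 : ∀ i, gg i 1 = 1 := fun i => div_self (hf1 i)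
  have hgmul2 : ∀ i t b, gg i (t ^ 2 * b) = gg i t ^ 2 * gg i b := fun i t b => by
    simp only [gg, hmul, mul_div_assoc]
  have hgmul : ∀ i t u, gg i (t * u) = gg i t * gg i u := by
    intro i t u
    by_cases h2 : (2 : F) = 0
    · haveI : CharP F 2 := CharTwo.of_one_ne_zero_of_two_eq_zero one_ne_zero h2
      obtain ⟨r, rfl⟩ : ∃ r, r ^ 2 = t :=
        (Finite.injective_iff_surjective.1 fun x y (h : x ^ 2 = y ^ 2) => by
          have : (x - y) ^ 2 = 0 := by linear_combination h - (x * y - y ^ 2) * h2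
          exact sub_eq_zero.1 (eq_zero_of_pow_eq_zero this)) t
      have := hgmul2 i r 1
      rw [mul_one, hgg1, mul_one] at this
      rw [hgmul2, this]
    · have hsq : ∀ x, gg i (x ^ 2) = gg i x ^ 2 := fun x => by
        have := hgmul2 i x 1
        rwa [mul_one, hgg1, mul_one] at this
      have e : gg i ((t + u) ^ 2) = gg i (t ^ 2) + gg i (u ^ 2) + (gg i (t * u) + gg i (t * u)) := by
        rw [← hgg, ← hgg, ← hgg]; ring_nf
      rw [hsq, hsq, hsq, hgg] at e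
      exact mul_left_cancel₀ h2 (by linear_combination -e)
  let φ : Fin T.l → F ≃+* F := fun i =>
    RingEquiv.ofBijective
      ({ toFun := gg i, map_zero' := by simp [gg], map_one' := hgg1 i, map_add' := hgg i,
         map_mul' := hgmul i } : F →+* F)
      (Finite.injective_iff_bijective.1 (RingHom.injective _))
  have hφ : ∀ i t, φ i t = f i t / f i 1 := fun _ _ => rfl
  refine ⟨fun i => Units.mk0 (f i 1) (hf1 i), φ, fun i t => ⟨?_, ?_⟩, fun i j t ht => ?_⟩
  · rw [hf, hφ, Units.val_mk0, mul_div_cancel₀ _ (hf1 i)]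
  · rw [hf']
    congr 1
    rcases eq_or_ne t 0 with rfl | ht
    · simp
    have e := hneg i (Units.mk0 (-t⁻¹) (neg_ne_zero.2 (inv_ne_zero ht)))
    rw [Units.val_mk0, inv_neg, _root_.neg_neg, inv_inv, map_neg, inv_neg, _root_.neg_neg] at e
    rw [e]
    have e2 : φ i t⁻¹ = (φ i t)⁻¹ := map_inv₀ _ _
    rw [hφ i t⁻¹] at e2
    rw [Units.val_inv_eq_inv_val, Units.val_mk0, ← inv_inv (φ i t), ← e2, inv_div, ← mul_div_assoc,
      inv_mul_cancel₀ (hf1 i), one_div]
  · have := htor i j (Units.mk0 t ht) 1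
    rw [mul_one, Units.val_zpow_eq_zpow_val, Units.val_mk0, ← div_eq_iff (hf1 j), ← hφ, ← hφ,
      map_zpow₀] at this
    exact this

end Cfsg.Agent.ChevAut
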