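import Cfsg.Agent.Lib.ChevAut.WeaklyClosed

/-! The opposite Borel and parabolic subgroups, and the fundamental root groups inside them. -/

set_option autoImplicit false

namespace Cfsg.Agent.ChevAut

open Cfsg.Lie Cfsg.Agent.Chev Cfsg.Agent.Chev.Tab

variable {T : Tab} {K : List (List ℕ)} {F : Type*} [Field F]

theorem inJ_single_iff (g : T.Good) {i r : ℕ} (hi : i < T.l) :
    r ∈ T.inJ {i} ↔ r = T.smp i ∨ r = T.neg (T.smp i) := by
  have hs := smp_mem_inJ g (J := {i}) hi rfl
  refine ⟨fun h => ?_, fun h => ?_⟩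
  · by_cases hr : T.N ≤ r
    · exact Or.inl (inJ_singleton g hi r hr h)
    · refine Or.inr ?_
      have e := inJ_singleton g hi (T.neg r) ((N_le_neg_iff h.1).2 (not_le.1 hr)) (inJ_neg g h)
      rw [← e, Tab.neg_neg h.1]
  · rcases h with rfl | rfl
    · exact hs
    · exact inJ_neg g hs

/-- `B⁻ = V H`. -/
noncomputable def oppBorel (g : T.Good) (F : Type*) [Field F] : Subgroup (GL T.D.Idx F) :=
  T.D.diagonalSubgroup F ⊔ genS g F (Set.Iio T.N)

/-- The parabolic subgroup containing `B⁻`. -/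
noncomputable def oppParabolic (g : T.Good) (F : Type*) [Field F] (J : Set ℕ) : Subgroup (GL T.D.Idx F) :=
  T.D.diagonalSubgroup F ⊔ genS g F (Set.Iio T.N ∪ T.inJ J)

theorem lev_nonpos (g : T.GoodK K) {J : Set ℕ} {r : ℕ} (hr : r < T.N) : T.lev K J r ≤ 0 := by
  classical
  have hn : r < T.n := by have := n_def (T := T); omega
  refine Finset.sum_nonpos fun m hm => ?_
  have hm' := Finset.mem_range.1 (Finset.mem_filter.1 hm).1
  by_contra hh
  have := (phi_sign g hm' hn).1.1 (not_le.1 hh)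
  have := ((g.toGood.sign' hn).1 m hm').2.1 hr
  omega

/-- `U ∩ P⁻_J` is generated by the positive roots of `Φ_J`. -/
theorem pos_inf_oppParabolic (g : T.GoodK K) (J : Set ℕ) {x : GL T.D.Idx F}
    (h1 : x ∈ genS g.toGood F (Set.Ico T.N T.n)) (h2 : x ∈ oppParabolic g.toGood F J) :
    x ∈ genS g.toGood F {r | T.N ≤ r ∧ r ∈ T.inJ J} := by
  classical
  have hg := g.toGood
  obtain ⟨v, hv, l, hl, rfl⟩ : ∃ v ∈ genS hg F (T.outJ J),
      ∃ l ∈ genS hg F {r | T.N ≤ r ∧ r ∈ T.inJ J}, x = v * l := by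
    refine genS_induction hg (p := fun x => ∃ v ∈ genS hg F (T.outJ J),
        ∃ l ∈ genS hg F {r | T.N ≤ r ∧ r ∈ T.inJ J}, x = v * l)
      ⟨1, one_mem _, 1, one_mem _, by simp⟩ ?_ h1
    rintro r ⟨hrN, hrn⟩ a y ⟨v, hv, l, hl, rfl⟩
    rcases outJ_or_inJ (J := J) hrN hrn with h | h
    · exact ⟨xg hg r a * v, mul_mem (xg_mem_genS hg h a) hv, l, hl, (mul_assoc _ _ _).symm⟩
    · refine ⟨xg hg r a * v * (xg hg r a)⁻¹,
        (Subgroup.mem_normalizer_iff.1 (outJ_normalized_pos g hrN hrn a) v).1 hv, xg hg r a * l,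
        mul_mem (xg_mem_genS hg (show r ∈ {r | T.N ≤ r ∧ r ∈ T.inJ J} from ⟨hrN, h⟩) a) hl, by group⟩
  have hv' : v ∈ oppParabolic hg F J := by
    have : l ∈ oppParabolic hg F J :=
      Subgroup.mem_sup_right (genS_mono hg (fun r hr => Or.inr hr.2) hl)
    simpa using mul_mem h2 (inv_mem this)
  suffices h : v = 1 by rw [h, one_mul]; exact hl
  have hU : UT (T.levI K J) (v : Matrix T.D.Idx T.D.Idx F) := by
    refine genS_UT hg (fun r hr t a b hab => ?_) hv
    rcases xg_lev g J hr.2.1 t a b with h | ⟨m, hm, h⟩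
    · exact h
    · have : (0 : ℤ) < (m : ℤ) * T.lev K J r := mul_pos (by exact_mod_cast hm) (lev_outJ g hr)
      omega
  have hL : ∀ a b, T.levI K J b < T.levI K J a → (v : Matrix T.D.Idx T.D.Idx F) a b = 0 := by
    have hmul : ∀ X Y : Matrix T.D.Idx T.D.Idx F,
        (∀ a b, T.levI K J b < T.levI K J a → X a b = 0) →
        (∀ a b, T.levI K J b < T.levI K J a → Y a b = 0) →
        ∀ a b, T.levI K J b < T.levI K J a → (X * Y) a b = 0 := by
      intro X Y hX hY a b hab
      rw [Matrix.mul_apply]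
      refine Finset.sum_eq_zero fun c _ => ?_
      rcases lt_or_ge (T.levI K J c) (T.levI K J a) with hac | hac
      · rw [hX a c hac, zero_mul]
      · rw [hY c b (hab.trans_le hac), mul_zero]
    have hroot : ∀ r ∈ Set.Iio T.N ∪ T.inJ J, ∀ t : F, ∀ a b, T.levI K J b < T.levI K J a →
        (xg hg r t : Matrix T.D.Idx T.D.Idx F) a b = 0 := by
      intro r hr t a b hab
      have hrn : r < T.n := by
        rcases hr with hr | hr
        · have := n_def (T := T); have : r < T.N := hr; omega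
        · exact hr.1
      rcases xg_lev g J hrn t a b with h | ⟨m, -, h⟩
      · rw [xg_val, h, Matrix.one_apply_ne]
        exact fun e => absurd hab (by rw [e]; exact lt_irrefl _)
      · have h0 : T.lev K J r ≤ 0 := by
          rcases hr with hr | hr
          · exact lev_nonpos g hr
          · exact (lev_inJ g hr).le
        have := mul_nonpos_of_nonneg_of_nonpos (Int.natCast_nonneg m) h0
        omega
    rw [oppParabolic, diagonalSubgroup_eq hg, ← Subgroup.closure_eq (tor T F).range, genS,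
      ← Subgroup.closure_union] at hv'
    refine Subgroup.closure_induction_left (p := fun (y : GL T.D.Idx F) _ => ∀ a b, T.levI K J b < T.levI K J a →
      (y : Matrix T.D.Idx T.D.Idx F) a b = 0) ?_ ?_ ?_ hv'
    · intro a b hab
      rw [Units.val_one, Matrix.one_apply_ne]
      exact fun e => absurd hab (by rw [e]; exact lt_irrefl _)
    · rintro y hy z _ hz
      rw [Units.val_mul]
      rcases hy with ⟨c, rfl⟩ | ⟨r, hr, t, rfl⟩
      · exact hmul _ _ (fun a b hab => tor_apply_ne c fun e => absurd hab (by rw [e]; exact lt_irrefl _)) hz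
      · exact hmul _ _ (hroot r hr t) hz
    · rintro y hy z _ hz
      rw [Units.val_mul]
      rcases hy with ⟨c, rfl⟩ | ⟨r, hr, t, rfl⟩
      · rw [← map_inv]
        exact hmul _ _ (fun a b hab => tor_apply_ne c⁻¹ fun e => absurd hab (by rw [e]; exact lt_irrefl _)) hz
      · rw [xg_inv]; exact hmul _ _ (hroot r hr _) hz
  refine Units.ext ?_
  rw [Units.val_one]
  ext a b
  by_cases hab : T.levI K J a ≤ T.levI K J b
  · exact hU a b hab
  · rw [hL a b (by omega), Matrix.one_apply_ne]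
    intro e; subst e; omega

/-- A fundamental root group is `U ∩ P⁻_k`. -/
theorem smp_group_eq (g : T.GoodK K) {k : ℕ} (hk : k < T.l) :
    genS g.toGood F (Set.Ico T.N T.n) ⊓ oppParabolic g.toGood F {k} = T.D.rootSubgroup F (T.smp k) := by
  have hg := g.toGood
  refine le_antisymm ?_ ?_
  · rintro x ⟨h1, h2⟩
    refine genS_le hg (fun r hr t => ?_) (pos_inf_oppParabolic g {k} h1 h2)
    rw [inJ_singleton hg hk r hr.1 hr.2]
    exact (mem_rootSubgroup_iff hg).2 ⟨t, rfl⟩
  · intro x hx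
    obtain ⟨t, rfl⟩ := (mem_rootSubgroup_iff hg).1 hx
    have hm : T.smp k ∈ Set.Iio T.N ∪ T.inJ {k} :=
      Set.mem_union_right _ (smp_mem_inJ hg (J := {k}) hk rfl)
    exact Subgroup.mem_inf.2 ⟨xg_mem_genS hg (show T.smp k ∈ Set.Ico T.N T.n from ⟨hg.smp_ge hk, hg.smp_lt hk⟩) t,
      Subgroup.mem_sup_right (xg_mem_genS hg hm t)⟩

/-- The longest element exchanges fundamental roots with negatives of fundamental roots. -/
theorem longest_smp (g : T.GoodK K) {L : List ℕ} (hL : T.Wd L)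
    (h1 : ∀ s, T.N ≤ s → s < T.n → T.rw' L s < T.N)
    (h2 : ∀ s, T.N ≤ s → s < T.n → T.rw' L.reverse s < T.N) {k : ℕ} (hk : k < T.l) :
    ∃ k' < T.l, T.rw' L (T.smp k) = T.neg (T.smp k') := by
  have hg := g.toGood
  set r := T.neg (T.rw' L (T.smp k)) with hr
  have hlt := rw'_lt hg hL (hg.smp_lt hk)
  have hrN : T.N ≤ r := (N_le_neg_iff hlt).2 (h1 _ (hg.smp_ge hk) (hg.smp_lt hk))
  rcases exists_descent hg (neg_lt hlt) hrN with ⟨i, hi, e⟩ | ⟨i, hi, hu1, -, m, hm, hch⟩
  · exact ⟨i, hi, by rw [← e, Tab.neg_neg hlt]⟩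
  exfalso
  have hu := hg.ref_lt hi (neg_lt hlt)
  have hch' := chRoot_rw' hg hL.reverse (hg.smp_lt hi) hu m
  rw [hch, Option.map_some, rw'_neg hg hL.reverse hlt, rw'_rev hg hL (hg.smp_lt hk)] at hch'
  set a := T.rw' L.reverse (T.smp i) with ha
  set b := T.rw' L.reverse (T.ref i r) with hb
  have han : a < T.n := rw'_lt hg hL.reverse (hg.smp_lt hi)
  have hbn : b < T.n := rw'_lt hg hL.reverse hu
  obtain ⟨-, hA, -⟩ := chRoot_spec hg han hbn hm hch'
  have haN : T.N ≤ T.neg a := (N_le_neg_iff han).2 (h2 _ (hg.smp_ge hi) (hg.smp_lt hi))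
  have hbN : T.N ≤ T.neg b := (N_le_neg_iff hbn).2 (h2 _ hu1 hu)
  have hab : b ≠ a := by
    simp only [chRoot, Option.map_eq_some_iff] at hch'
    obtain ⟨q, hq, -⟩ := hch'
    exact (hg.chain' han hbn (fun he => by simp [he] at hq)).1
  have key : ∀ j < T.l, j ≠ k → T.c (T.neg a) j = 0 ∧ T.c (T.neg b) j = 0 := by
    intro j hj hjk
    have e := phi_linear (K := K) (r := a) (s := b) (t := T.neg (T.smp k)) (i := (m : ℤ)) (j := 1)
      (fun n hn => by rw [hA n hn]; ring) j
    rw [phi_neg g (hg.smp_lt hk), one_mul] at e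
    have h0 : T.c (T.smp k) j = 0 := by rw [c_smp hg hk hj, if_neg hjk]
    have q0 := phi_sign g hj (hg.smp_lt hk)
    have qa := phi_sign g hj (neg_lt han)
    have qb := phi_sign g hj (neg_lt hbn)
    have na := phi_nonneg g hj haN (neg_lt han)
    have nb := phi_nonneg g hj hbN (neg_lt hbn)
    rw [phi_neg g han] at na qa
    rw [phi_neg g hbn] at nb qb
    have h3 : (m : ℤ) * T.phi K j a ≤ 1 * T.phi K j a :=
      mul_le_mul_of_nonpos_right (by exact_mod_cast hm) (by omega)
    constructor <;> omega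
  have ea := inJ_singleton hg hk _ haN ⟨neg_lt han, fun j hj hjk => (key j hj hjk).1⟩
  have eb := inJ_singleton hg hk _ hbN ⟨neg_lt hbn, fun j hj hjk => (key j hj hjk).2⟩
  apply hab
  rw [← Tab.neg_neg hbn, eb, ← ea, Tab.neg_neg han]

theorem nG_mem_parabolic (g : T.GoodK K) {J : Set ℕ} {i : ℕ} (hi : i < T.l)
    (h : nG g.toGood F i ∈ T.D.parabolicSubgroup F J) : i ∈ J := by
  have hg := g.toGood
  by_contra hiJ
  have hsmp : T.smp i ∈ T.outJ J :=
    ⟨hg.smp_ge hi, hg.smp_lt hi, i, hi, hiJ, by rw [c_smp hg hi hi, if_pos rfl]; norm_num⟩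
  have h' := (Subgroup.mem_normalizer_iff.1 (parabolic_normalizes g J h) _).1 (xg_mem_genS hg hsmp (1 : F))
  rw [nG_conj hg hi (hg.smp_lt hi), hg.ref_smp hi] at h'
  have h1 := borel_inf_neg hg (genS_pos_le_borel hg (fun r hr => outJ_pos hr) h')
    (xg_mem_genS hg (S := Set.Iio T.N) ((neg_lt_N_iff (hg.smp_lt hi)).2 (hg.smp_ge hi)) _)
  rw [← xg_zero hg (T.neg (T.smp i))] at h1
  have := xg_injective hg (neg_lt (hg.smp_lt hi)) h1
  simp [hg.eta_smp hi] at this

end Cfsg.Agent.ChevAut
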