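import Cfsg.Agent.Lib.ChevAut.AutSylow

/-! An automorphism fixing `U` and `V` permutes the fundamental root groups and their negatives by
one permutation of the nodes. -/

set_option autoImplicit false

namespace Cfsg.Agent.ChevAut

open Cfsg.Lie Cfsg.Agent.Chev Cfsg.Agent.Chev.Tab

variable {T : Tab} {K : List (List ℕ)} {F : Type*} [Field F]

theorem parabolic_le_group (g : T.Good) (J : Set ℕ) : T.D.parabolicSubgroup F J ≤ T.D.group F := by
  refine sup_le (borel_le_group g) ((Subgroup.closure_le _).2 ?_)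
  rintro x ⟨j, -, hj, hx⟩
  rw [g.rank_eq] at hj
  have e : x = nG g F j := Units.ext (by rw [nG_val g hj, hx, nM])
  rw [SetLike.mem_coe, e]
  exact nG_mem_group g j

theorem nG_mem_parabolic_self (g : T.Good) {k : ℕ} (hk : k < T.l) :
    nG g F k ∈ T.D.parabolicSubgroup F {k} :=
  Subgroup.mem_sup_right
    (Subgroup.subset_closure ⟨k, rfl, by rw [g.rank_eq]; exact hk, by rw [nG_val g hk, nM]⟩)

theorem parabolic_single_le (g : T.Good) {k : ℕ} (hk : k < T.l) {M : Subgroup (GL T.D.Idx F)}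
    (hB : T.D.borelSubgroup F ≤ M) (hn : nG g F k ∈ M) : T.D.parabolicSubgroup F {k} ≤ M := by
  refine sup_le hB ((Subgroup.closure_le _).2 ?_)
  rintro x ⟨j, hjk, -, hx⟩
  rw [Set.mem_singleton_iff] at hjk
  subst hjk
  have e : x = nG g F j := Units.ext (by rw [nG_val g hk, hx, nM])
  rw [SetLike.mem_coe, e]
  exact hn

theorem exists_nG_image (g : T.GoodK K) {θ : MulAut ↥(T.D.group F)}
    (hB : Maps θ (T.D.borelSubgroup F) (T.D.borelSubgroup F)) {k : ℕ} (hk : k < T.l) :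
    ∃ j < T.l, ∃ z : ↥(T.D.group F), (z : GL T.D.Idx F) ∈ T.D.parabolicSubgroup F {k} ∧
      (θ z : GL T.D.Idx F) = nG g.toGood F j := by
  have hg := g.toGood
  let P := bnPair g.toGoodA F
  let M : Subgroup ↥(T.D.group F) :=
    ((T.D.parabolicSubgroup F {k}).subgroupOf (T.D.group F)).map θ.toMonoidHom
  have hBM : P.B ≤ M := by
    intro z hz
    have hz' : (z : GL T.D.Idx F) ∈ T.D.borelSubgroup F := hz
    refine ⟨θ⁻¹ z, ?_, by simp [MulAut.inv_def]⟩
    exact Subgroup.mem_sup_left (by simpa using (hB.symm z).1 hz')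
  by_contra hne
  have he : {s | s ∈ P.S ∧ s ∈ M} = ∅ := by
    refine Set.eq_empty_of_forall_notMem fun s hs => ?_
    obtain ⟨j, hj, e⟩ := (mem_sSet_iff hg).1 hs.1
    obtain ⟨z, hz, hzs⟩ := hs.2
    exact hne ⟨j, hj, z, hz, by rw [← e, ← hzs]; rfl⟩
  have hM : M ≤ P.B := by
    rw [BN.eq_parabolic P M hBM, he]
    refine sup_le le_rfl ((Subgroup.closure_le _).2 (by simp))
  have h1 : θ ⟨nG hg F k, nG_mem_group hg k⟩ ∈ M :=
    ⟨⟨nG hg F k, nG_mem_group hg k⟩, nG_mem_parabolic_self hg hk, rfl⟩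
  have h2 : nG hg F k ∈ T.D.borelSubgroup F := (hB ⟨nG hg F k, nG_mem_group hg k⟩).2 (hM h1)
  have h3 : nG hg F k ∈ T.D.parabolicSubgroup F ∅ := Subgroup.mem_sup_left h2
  exact nG_mem_parabolic g hk h3

theorem exists_parabolic_perm (g : T.GoodK K) {θ : MulAut ↥(T.D.group F)}
    (hB : Maps θ (T.D.borelSubgroup F) (T.D.borelSubgroup F)) :
    ∃ π : Equiv.Perm (Fin T.l), ∀ k : Fin T.l,
      Maps θ (T.D.parabolicSubgroup F {(k : ℕ)}) (T.D.parabolicSubgroup F {(π k : ℕ)}) := by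
  have hg := g.toGood
  have half : ∀ θ : MulAut ↥(T.D.group F), Maps θ (T.D.borelSubgroup F) (T.D.borelSubgroup F) →
      ∀ k < T.l, ∀ j < T.l, ∀ z : ↥(T.D.group F), (z : GL T.D.Idx F) ∈ T.D.parabolicSubgroup F {k} →
        (θ z : GL T.D.Idx F) = nG hg F j → ∀ y : ↥(T.D.group F),
          (θ y : GL T.D.Idx F) ∈ T.D.parabolicSubgroup F {j} →
            (y : GL T.D.Idx F) ∈ T.D.parabolicSubgroup F {k} := by
    intro θ hB k hk j hj z hz hzj y hy
    have h := parabolic_single_le hg hj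
      (M := (((T.D.parabolicSubgroup F {k}).subgroupOf (T.D.group F)).map θ.toMonoidHom).map
        (T.D.group F).subtype)
      (fun x hx => ?_) ⟨θ z, ⟨z, hz, rfl⟩, hzj⟩ hy
    · obtain ⟨w, ⟨v, hv, rfl⟩, he⟩ := h
      have : v = y := θ.injective (Subtype.ext he)
      exact this ▸ hv
    · refine ⟨⟨x, borel_le_group hg hx⟩, ⟨θ⁻¹ ⟨x, borel_le_group hg hx⟩, ?_, by simp [MulAut.inv_def]⟩, rfl⟩
      exact Subgroup.mem_sup_left ((hB.symm ⟨x, borel_le_group hg hx⟩).1 hx)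
  choose π hπ z hz hzj using fun k : Fin T.l => exists_nG_image g hB k.2
  have key : ∀ k : Fin T.l,
      Maps θ (T.D.parabolicSubgroup F {(k : ℕ)}) (T.D.parabolicSubgroup F {π k}) := by
    intro k
    obtain ⟨i, hi, w, hw, hwi⟩ := exists_nG_image g hB.symm (hπ k)
    have hwk : (θ⁻¹ w : GL T.D.Idx F) ∈ T.D.parabolicSubgroup F {(k : ℕ)} := by
      refine half θ hB k k.2 (π k) (hπ k) (z k) (hz k) (hzj k) (θ⁻¹ w) ?_
      simpa [MulAut.inv_def] using hw
    rw [hwi] at hwk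
    have hik : i = k := by simpa using nG_mem_parabolic g hi hwk
    subst hik
    refine fun y => ⟨fun hy => ?_, half θ hB k k.2 (π k) (hπ k) (z k) (hz k) (hzj k) y⟩
    refine half θ⁻¹ hB.symm (π k) (hπ k) k k.2 w hw hwi (θ y) ?_
    simpa [MulAut.inv_def] using hy
  have hinj : Function.Injective fun k : Fin T.l => (⟨π k, hπ k⟩ : Fin T.l) := by
    intro a b hab
    have hab' : π a = π b := congrArg Fin.val hab
    have h := (key a ⟨nG hg F a, nG_mem_group hg a⟩).1 (nG_mem_parabolic_self hg a.2)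
    rw [hab'] at h
    have := (key b ⟨nG hg F a, nG_mem_group hg a⟩).2 h
    exact Fin.ext (by simpa using nG_mem_parabolic g a.2 this)
  exact ⟨Equiv.ofBijective _ (Finite.injective_iff_bijective.1 hinj), key⟩

theorem diag_conj_genS (g : T.Good) {ω : GL T.D.Idx F} (hω : ω ∈ wSub g F) :
    (T.D.diagonalSubgroup F).map (MulAut.conj ω).toMonoidHom ≤ T.D.diagonalSubgroup F := by
  rw [diagonalSubgroup_eq g]
  rintro _ ⟨_, ⟨c, rfl⟩, rfl⟩
  obtain ⟨e, he⟩ := wSub_conj_torus g hω c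
  exact ⟨e, by simp only [MulEquiv.coe_toMonoidHom, MulAut.conj_apply]; exact he.symm⟩

theorem neg_inf_parabolic (g : T.GoodK K) {k : ℕ} (hk : k < T.l) {x : GL T.D.Idx F}
    (h1 : x ∈ genS g.toGood F (Set.Iio T.N)) (h2 : x ∈ T.D.parabolicSubgroup F {k}) :
    ∃ t, x = xg g.toGood (T.neg (T.smp k)) t := by
  have hg := g.toGood
  obtain ⟨L, hL, hL1, hL2⟩ := exists_longest hg
  obtain ⟨k', hk', e⟩ := longest_smp g hL hL1 hL2 hk
  have h1' : nWd hg F L * x * (nWd hg F L)⁻¹ ∈ genS hg F (Set.Ico T.N T.n) := by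
    refine genS_mono hg ?_ ((genS_map_nWd (F := F) hg hL (fun r hr => by
      have := n_def (T := T); have : r < T.N := hr; omega)).le ⟨x, h1, rfl⟩)
    rintro _ ⟨r, hr, rfl⟩
    have hrn : r < T.n := by have := n_def (T := T); have : r < T.N := hr; omega
    have := hL1 _ ((N_le_neg_iff hrn).2 hr) (neg_lt hrn)
    rw [rw'_neg hg hL hrn, neg_lt_N_iff (rw'_lt hg hL hrn)] at this
    exact ⟨this, rw'_lt hg hL hrn⟩
  have h2' : nWd hg F L * x * (nWd hg F L)⁻¹ ∈ oppParabolic hg F {k'} := by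
    rw [parabolic_eq hg] at h2
    have h3 : nWd hg F L * x * (nWd hg F L)⁻¹ ∈ (T.D.diagonalSubgroup F ⊔
        genS hg F (Set.Ico T.N T.n ∪ T.inJ {k})).map (MulAut.conj (nWd hg F L)).toMonoidHom :=
      ⟨x, h2, rfl⟩
    rw [Subgroup.map_sup, genS_map_nWd hg hL (fun r hr => hr.elim (fun h => h.2) (fun h => h.1))] at h3
    refine sup_le_sup (diag_conj_genS hg (nWd_mem_wSub hg hL)) (genS_mono hg ?_) h3
    rintro _ ⟨r, hr | hr, rfl⟩
    · exact Or.inl (hL1 r hr.1 hr.2)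
    · refine Or.inr ((inJ_single_iff hg hk').2 ?_)
      rcases (inJ_single_iff hg hk).1 hr with rfl | rfl
      · exact Or.inr e
      · exact Or.inl (by rw [rw'_neg hg hL (hg.smp_lt hk), e, Tab.neg_neg (hg.smp_lt hk')])
  obtain ⟨t, ht⟩ := (mem_rootSubgroup_iff hg).1 ((smp_group_eq g hk').le ⟨h1', h2'⟩)
  obtain ⟨ε, hε, h⟩ := nWd_conj (F := F) hg hL (neg_lt (hg.smp_lt hk))
  refine ⟨(ε : F) * t, ?_⟩
  have e' : T.rw' L (T.neg (T.smp k)) = T.smp k' := by
    rw [rw'_neg hg hL (hg.smp_lt hk), e, Tab.neg_neg (hg.smp_lt hk')]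
  have h' := (h ((ε : F) * t)).1
  rw [e', ← mul_assoc, ← Units.val_mul, hε, Units.val_one, one_mul, ← ht, mul_left_inj,
    mul_right_inj] at h'
  exact h'.symm

/-- `θ` fixing `U` and `V` permutes the negatives of the fundamental root groups. -/
theorem exists_neg_perm (g : T.GoodK K) {θ : MulAut ↥(T.D.group F)}
    (hU : Maps θ (genS g.toGood F (Set.Ico T.N T.n)) (genS g.toGood F (Set.Ico T.N T.n)))
    (hV : Maps θ (genS g.toGood F (Set.Iio T.N)) (genS g.toGood F (Set.Iio T.N))) :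
    ∃ π : Equiv.Perm (Fin T.l), ∀ k : Fin T.l,
      Maps θ (T.D.rootSubgroup F (T.neg (T.smp k))) (T.D.rootSubgroup F (T.neg (T.smp (π k)))) := by
  have hg := g.toGood
  obtain ⟨π, hπ⟩ := exists_parabolic_perm g (maps_borel g hU)
  refine ⟨π, fun k => ?_⟩
  have eq : ∀ j : ℕ, j < T.l → T.D.rootSubgroup F (T.neg (T.smp j)) =
      genS hg F (Set.Iio T.N) ⊓ T.D.parabolicSubgroup F {j} := by
    intro j hj
    refine le_antisymm (fun x hx => ?_) fun x hx => ?_
    · obtain ⟨t, rfl⟩ := (mem_rootSubgroup_iff hg).1 hx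
      refine ⟨xg_mem_genS hg (S := Set.Iio T.N) ((neg_lt_N_iff (hg.smp_lt hj)).2 (hg.smp_ge hj)) t, ?_⟩
      rw [parabolic_eq hg]
      exact Subgroup.mem_sup_right (xg_mem_genS hg (Set.mem_union_right _
        (inJ_neg hg (smp_mem_inJ hg (J := {j}) hj rfl))) t)
    · obtain ⟨t, rfl⟩ := neg_inf_parabolic g hj hx.1 hx.2
      exact (mem_rootSubgroup_iff hg).2 ⟨t, rfl⟩
  rw [eq k k.2, eq (π k) (π k).2]
  exact hV.inf (hπ k)

theorem not_commute_opposite (g : T.Good) {i : ℕ} (hi : i < T.l)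
    (h : ∀ t u : F, Commute (xg g (T.smp i) t) (xg g (T.neg (T.smp i)) u)) : False := by
  have hp : ∀ t u : F, Commute (xg g (T.smp i) t) (xg g (T.smp i) u) := fun t u => by
    rw [Commute, SemiconjBy, xg_add, xg_add, add_comm]
  have hc : Commute (nG g F i) (xg g (T.smp i) 1) :=
    ((hp 1 1).mul_left (h 1 (-1)).symm).mul_left (hp 1 1)
  have e := nG_conj g hi (g.smp_lt hi) (1 : F)
  rw [hc.eq, mul_inv_cancel_right, g.ref_smp hi] at e
  have h1 : xg g (T.smp i) (1 : F) = 1 :=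
    borel_inf_neg g (pos_le_borel g (g.smp_ge hi) (g.smp_lt hi) 1)
      (e ▸ xg_mem_genS g (S := Set.Iio T.N) ((neg_lt_N_iff (g.smp_lt hi)).2 (g.smp_ge hi)) _)
  rw [← xg_zero g (T.smp i)] at h1
  exact one_ne_zero (xg_injective g (g.smp_lt hi) h1)

/-- `p_i - p_j` is not a root. -/
def checkOrth (T : Tab) : Bool :=
  allBelow (fun i => allBelow (fun j =>
    Nat.beq i j || ((T.cTerms (T.smp i) (T.neg (T.smp j))).isEmpty)) T.l) T.l

theorem commute_orth (g : T.GoodA) (ho : checkOrth T = true) {i j : ℕ} (hi : i < T.l) (hj : j < T.l)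
    (hij : i ≠ j) (t u : F) :
    Commute (xg g.toGood (T.smp i) t) (xg g.toGood (T.neg (T.smp j)) u) := by
  have hg := g.toGood
  have h := allBelow_eq_true.1 (allBelow_eq_true.1 ho i hi) j hj
  simp only [Bool.or_eq_true, List.isEmpty_iff, nat_beq] at h
  have h' : T.cTerms (T.smp i) (T.neg (T.smp j)) = [] := h.resolve_left hij
  have h1 := hg.smp_ge hi
  have h2 := (neg_lt_N_iff (hg.smp_lt hj)).2 (hg.smp_ge hj)
  have h3 : T.neg (T.smp j) ≠ T.neg (T.smp i) := fun e => hij (hg.smp_inj hi hj (by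
    rw [← Tab.neg_neg (hg.smp_lt hi), ← e, Tab.neg_neg (hg.smp_lt hj)]))
  have e := xg_comm g (hg.smp_lt hi) (neg_lt (hg.smp_lt hj)) (by omega) h3 t u
  rw [show cVal T F (T.smp i) (T.neg (T.smp j)) t u = [] by simp [cVal, h'], List.map_nil,
    List.prod_nil, mul_one] at e
  exact e.symm

/-- `θ` fixing `U` and `V` permutes both families of root groups by one permutation. -/
theorem exists_root_perm (g : T.GoodK K) (ho : checkOrth T = true) {θ : MulAut ↥(T.D.group F)}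
    (hU : Maps θ (genS g.toGood F (Set.Ico T.N T.n)) (genS g.toGood F (Set.Ico T.N T.n)))
    (hV : Maps θ (genS g.toGood F (Set.Iio T.N)) (genS g.toGood F (Set.Iio T.N))) :
    ∃ π : Equiv.Perm (Fin T.l), ∀ k : Fin T.l,
      Maps θ (T.D.rootSubgroup F (T.smp k)) (T.D.rootSubgroup F (T.smp (π k))) ∧
      Maps θ (T.D.rootSubgroup F (T.neg (T.smp k))) (T.D.rootSubgroup F (T.neg (T.smp (π k)))) := by
  have hg := g.toGood
  obtain ⟨π, hπ⟩ := exists_neg_perm g hU hV
  obtain ⟨L, hL, hL1, hL2⟩ := exists_longest hg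
  let c : MulAut ↥(T.D.group F) := MulAut.conj
    ⟨nWd hg F L, monomial_le_group hg ((mem_monomial_iff hg).2 ⟨L, hL, 1, by simp⟩)⟩
  have hc : ∀ y : ↥(T.D.group F), (c y : GL T.D.Idx F) =
      nWd hg F L * (y : GL T.D.Idx F) * (nWd hg F L)⁻¹ := fun y => rfl
  have hcmap : ∀ S S' : Set ℕ, (∀ r ∈ S, r < T.n) → T.rw' L '' S = S' →
      Maps c (genS hg F S) (genS hg F S') := by
    intro S S' hS hS' y
    rw [hc, ← hS', ← genS_map_nWd hg hL hS]
    constructor
    · exact fun hy => ⟨y, hy, rfl⟩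
    · rintro ⟨z, hz, e⟩
      simp only [MulEquiv.coe_toMonoidHom, MulAut.conj_apply] at e
      rw [mul_left_inj, mul_right_inj] at e
      exact e ▸ hz
  have hIio : ∀ r ∈ Set.Iio T.N, r < T.n := fun r hr => by
    have := n_def (T := T); have : r < T.N := hr; omega
  have himg1 : T.rw' L '' Set.Iio T.N = Set.Ico T.N T.n := by
    ext r
    constructor
    · rintro ⟨s, hs, rfl⟩
      have hsn := hIio s hs
      refine ⟨?_, rw'_lt hg hL hsn⟩
      have := hL1 _ ((N_le_neg_iff hsn).2 hs) (neg_lt hsn)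
      rw [rw'_neg hg hL hsn, neg_lt_N_iff (rw'_lt hg hL hsn)] at this
      exact this
    · rintro ⟨h1, h2⟩
      exact ⟨_, hL2 r h1 h2, rw'_rev' hg hL h2⟩
  have himg2 : T.rw' L '' Set.Ico T.N T.n = Set.Iio T.N := by
    ext r
    constructor
    · rintro ⟨s, hs, rfl⟩
      exact hL1 s hs.1 hs.2
    · intro hr
      have hrn := hIio r hr
      refine ⟨_, ⟨?_, rw'_lt hg hL.reverse hrn⟩, rw'_rev' hg hL hrn⟩
      have := hL2 _ ((N_le_neg_iff hrn).2 hr) (neg_lt hrn)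
      rw [rw'_neg hg hL.reverse hrn, neg_lt_N_iff (rw'_lt hg hL.reverse hrn)] at this
      exact this
  have hcVU := hcmap _ _ hIio himg1
  have hcUV := hcmap _ _ (fun r hr => hr.2) himg2
  obtain ⟨σ, hσ⟩ := exists_neg_perm g (θ := c⁻¹ * θ * c) ((hcUV.trans hV).trans hcUV.symm)
    ((hcVU.trans hU).trans hcVU.symm)
  choose k' hk' e' using fun k : Fin T.l => longest_smp g hL hL1 hL2 k.2
  let κ : Fin T.l → Fin T.l := fun k => ⟨k' k, hk' k⟩
  have hκ : Function.Injective κ := by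
    intro a b hab
    have hab' : k' a = k' b := congrArg Fin.val hab
    have e1 := e' a
    rw [hab', ← e' b] at e1
    have := congrArg (T.rw' L.reverse) e1
    rw [rw'_rev hg hL (hg.smp_lt a.2), rw'_rev hg hL (hg.smp_lt b.2)] at this
    exact Fin.ext (hg.smp_inj a.2 b.2 this)
  let κe := Equiv.ofBijective κ (Finite.injective_iff_bijective.1 hκ)
  have hcroot : ∀ k : Fin T.l,
      Maps c (T.D.rootSubgroup F (T.neg (T.smp k))) (T.D.rootSubgroup F (T.smp (κ k))) := by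
    intro k y
    obtain ⟨ε, hε, h⟩ := nWd_conj (F := F) hg hL (hg.smp_lt k.2)
    rw [hc, mem_rootSubgroup_iff hg, mem_rootSubgroup_iff hg]
    constructor
    · rintro ⟨t, ht⟩
      refine ⟨(ε : F) * t, ?_⟩
      rw [ht, (h t).2, e' k, Tab.neg_neg (hg.smp_lt (hk' k))]
    · rintro ⟨t, ht⟩
      refine ⟨(ε : F) * t, ?_⟩
      have h' := (h ((ε : F) * t)).2
      rw [← mul_assoc, ← Units.val_mul, hε, Units.val_one, one_mul, e' k,
        Tab.neg_neg (hg.smp_lt (hk' k))] at h'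
      rw [show κ k = ⟨k' k, hk' k⟩ from rfl] at ht
      rw [← ht, mul_left_inj, mul_right_inj] at h'
      exact h'.symm
  have hpos : ∀ k : Fin T.l,
      Maps θ (T.D.rootSubgroup F (T.smp (κ k))) (T.D.rootSubgroup F (T.smp (κ (σ k)))) := by
    intro k
    have := ((hcroot k).symm.trans (hσ k)).trans (hcroot (σ k))
    have e : c * (c⁻¹ * θ * c * c⁻¹) = θ := by group
    rwa [e] at this
  refine ⟨π, fun k => ⟨?_, hπ k⟩⟩
  obtain ⟨i, rfl⟩ : ∃ i, κ i = k := κe.surjective k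
  suffices hh : κ (σ i) = π (κ i) by rw [← hh]; exact hpos i
  by_contra hne
  obtain ⟨j, hj⟩ := π.surjective (κ (σ i))
  have hjne : ((κ i : Fin T.l) : ℕ) ≠ j := fun e => hne (by rw [show κ i = j from Fin.ext e, hj])
  refine not_commute_opposite (F := F) hg (κ (σ i)).2 fun t u => ?_
  let X : ↥(T.D.group F) := ⟨xg hg (T.smp (κ (σ i))) t, xg_mem_group hg _ t⟩
  let Y : ↥(T.D.group F) := ⟨xg hg (T.neg (T.smp (κ (σ i)))) u, xg_mem_group hg _ u⟩
  obtain ⟨a, ha⟩ := θ.surjective X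
  obtain ⟨b, hb⟩ := θ.surjective Y
  have haR : (a : GL T.D.Idx F) ∈ T.D.rootSubgroup F (T.smp (κ i)) :=
    (hpos i a).2 (by rw [ha]; exact (mem_rootSubgroup_iff hg).2 ⟨t, rfl⟩)
  have hbR : (b : GL T.D.Idx F) ∈ T.D.rootSubgroup F (T.neg (T.smp j)) :=
    (hπ j b).2 (by rw [hb, hj]; exact (mem_rootSubgroup_iff hg).2 ⟨u, rfl⟩)
  obtain ⟨t', ht'⟩ := (mem_rootSubgroup_iff hg).1 haR
  obtain ⟨u', hu'⟩ := (mem_rootSubgroup_iff hg).1 hbR
  have hab : a * b = b * a := Subtype.ext (by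
    simp only [Subgroup.coe_mul, ht', hu']
    exact (commute_orth g.toGoodA ho (κ i).2 j.2 hjne t' u').eq)
  have := congrArg θ hab
  rw [map_mul, map_mul, ha, hb] at this
  exact congrArg Subtype.val this

end Cfsg.Agent.ChevAut
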