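import Cfsg.Agent.Lib.ChevAut.AutOpposite
import Cfsg.Agent.Lib.Lie.ChevSylow
import Cfsg.Agent.Lib.Lie.ChevLong
import Cfsg.Agent.Lib.Lie.TwBase

/-! Every automorphism of a finite Chevalley group can be adjusted by an inner one so that it fixes
the two unipotent subgroups `U` and `V`. -/

set_option autoImplicit false

namespace Cfsg.Agent.ChevAut

open Cfsg.Lie Cfsg.Agent.Chev Cfsg.Agent.Chev.Tab
open scoped Pointwise

variable {T : Tab} {K : List (List ℕ)} {F : Type*} [Field F]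

/-- `θ` carries the subgroup `A` (intersected with the group) to `B`. -/
def Maps (θ : MulAut ↥(T.D.group F)) (A B : Subgroup (GL T.D.Idx F)) : Prop :=
  ∀ y : ↥(T.D.group F), (y : GL T.D.Idx F) ∈ A ↔ (θ y : GL T.D.Idx F) ∈ B

theorem Maps.symm {θ : MulAut ↥(T.D.group F)} {A B : Subgroup (GL T.D.Idx F)} (h : Maps θ A B) :
    Maps θ⁻¹ B A := fun y => by
  have := h (θ⁻¹ y)
  rw [MulAut.inv_def, MulEquiv.apply_symm_apply] at this
  exact this.symm

theorem Maps.trans {θ θ' : MulAut ↥(T.D.group F)} {A B C : Subgroup (GL T.D.Idx F)} (h : Maps θ A B)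
    (h' : Maps θ' B C) : Maps (θ' * θ) A C := fun y => (h y).trans (h' (θ y))

theorem Maps.inf {θ : MulAut ↥(T.D.group F)} {A B A' B' : Subgroup (GL T.D.Idx F)} (h : Maps θ A B)
    (h' : Maps θ A' B') : Maps θ (A ⊓ A') (B ⊓ B') := fun y => by
  simp only [Subgroup.mem_inf, h y, h' y]

theorem Maps.normalizer {θ : MulAut ↥(T.D.group F)} {A B : Subgroup (GL T.D.Idx F)}
    (hA : A ≤ T.D.group F) (hB : B ≤ T.D.group F) (h : Maps θ A B) {y : ↥(T.D.group F)}
    (hy : (y : GL T.D.Idx F) ∈ Subgroup.normalizer (A : Set (GL T.D.Idx F))) :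
    (θ y : GL T.D.Idx F) ∈ Subgroup.normalizer (B : Set (GL T.D.Idx F)) := by
  rw [Subgroup.mem_normalizer_iff]
  intro z
  constructor
  · intro hz
    obtain ⟨w, hw⟩ := θ.surjective ⟨z, hB hz⟩
    have e : z = (θ w : GL T.D.Idx F) := by rw [hw]
    have hwA : (w : GL T.D.Idx F) ∈ A := (h w).2 (e ▸ hz)
    have := (h (y * w * y⁻¹)).1 (by simpa using (Subgroup.mem_normalizer_iff.1 hy _).1 hwA)
    rw [e]
    simpa using this
  · intro hz
    obtain ⟨w, hw⟩ := θ.surjective ⟨_, hB hz⟩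
    have e : (θ y : GL T.D.Idx F) * z * (θ y : GL T.D.Idx F)⁻¹ = (θ w : GL T.D.Idx F) := by rw [hw]
    have hwA : (w : GL T.D.Idx F) ∈ A := (h w).2 (e ▸ hz)
    have := (h (y⁻¹ * w * y)).1 (by
      have h1 := (Subgroup.mem_normalizer_iff.1 (inv_mem hy) _).1 hwA
      simpa using h1)
    have e' : z = (θ y : GL T.D.Idx F)⁻¹ * (θ w : GL T.D.Idx F) * (θ y : GL T.D.Idx F) := by
      rw [← e]; group
    rw [e']
    simpa using this

variable [Finite F]

theorem exists_conj_posU (g : T.GoodK K) (θ : MulAut ↥(T.D.group F)) :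
    ∃ x : ↥(T.D.group F), Maps (MulAut.conj x * θ) (genS g.toGood F (Set.Ico T.N T.n))
      (genS g.toGood F (Set.Ico T.N T.n)) := by
  obtain ⟨p, hp⟩ := CharP.exists F
  haveI := Fintype.ofFinite F
  haveI : Fact p.Prime := ⟨(CharP.char_is_prime_or_zero F p).resolve_right (CharP.char_ne_zero_of_finite F p)⟩
  obtain ⟨P, hP⟩ := exists_sylow_posU g.toGoodA (F := F) p
  rw [posUnipotent_eq g.toGood] at hP
  obtain ⟨x, hx⟩ := MulAction.exists_smul_eq ↥(T.D.group F) (θ • P) P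
  refine ⟨x, fun y => ?_⟩
  have h1 : (y : GL T.D.Idx F) ∈ genS g.toGood F (Set.Ico T.N T.n) ↔ y ∈ (P : Subgroup ↥(T.D.group F)) := by
    rw [hP, Subgroup.mem_subgroupOf]
  have h2 : ((MulAut.conj x * θ) y : GL T.D.Idx F) ∈ genS g.toGood F (Set.Ico T.N T.n) ↔
      (MulAut.conj x * θ) y ∈ (P : Subgroup ↥(T.D.group F)) := by
    rw [hP, Subgroup.mem_subgroupOf]
  have h3 : (P : Subgroup ↥(T.D.group F)) =
      (MulAut.conj x * θ) • (P : Subgroup ↥(T.D.group F)) := by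
    rw [mul_smul]
    exact (congrArg (fun Q : Sylow p ↥(T.D.group F) => (Q : Subgroup ↥(T.D.group F))) hx).symm
  rw [h1, h2]
  conv_rhs => rw [h3]
  exact (Subgroup.smul_mem_pointwise_smul_iff (a := MulAut.conj x * θ)).symm

theorem exists_conj_UV (g : T.GoodK K) (θ : MulAut ↥(T.D.group F)) :
    ∃ x : ↥(T.D.group F),
      Maps (MulAut.conj x * θ) (genS g.toGood F (Set.Ico T.N T.n)) (genS g.toGood F (Set.Ico T.N T.n)) ∧
      Maps (MulAut.conj x * θ) (genS g.toGood F (Set.Iio T.N)) (genS g.toGood F (Set.Iio T.N)) := by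
  have hg := g.toGood
  obtain ⟨x, hU⟩ := exists_conj_posU g θ
  set φ := MulAut.conj x * θ with hφ
  set U := genS hg F (Set.Ico T.N T.n) with hUdef
  set V := genS hg F (Set.Iio T.N) with hVdef
  have hUG : U ≤ T.D.group F := posU_le_group hg
  obtain ⟨L, hL, hL1, hL2⟩ := exists_longest hg
  have himg : ∀ M : List ℕ, T.Wd M → (∀ s, T.N ≤ s → s < T.n → T.rw' M s < T.N) →
      (∀ s, T.N ≤ s → s < T.n → T.rw' M.reverse s < T.N) → T.rw' M '' Set.Iio T.N = Set.Ico T.N T.n := by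
    intro M hM hM1 hM2
    ext r
    constructor
    · rintro ⟨s, hs, rfl⟩
      have hsn : s < T.n := by have := n_def (T := T); have : s < T.N := hs; omega
      refine ⟨?_, rw'_lt hg hM hsn⟩
      have := hM1 _ ((N_le_neg_iff hsn).2 hs) (neg_lt hsn)
      rw [rw'_neg hg hM hsn, neg_lt_N_iff (rw'_lt hg hM hsn)] at this
      exact this
    · rintro ⟨h1, h2⟩
      exact ⟨_, hM2 r h1 h2, rw'_rev' hg hM h2⟩
  have hrev : ∀ M : List ℕ, T.Wd M → (∀ s, T.N ≤ s → s < T.n → T.rw' M s < T.N) →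
      ∀ s, T.N ≤ s → s < T.n → T.rw' M.reverse s < T.N := by
    intro M hM h1 s hs hsn
    by_contra hc
    have := h1 _ (not_lt.1 hc) (rw'_lt hg hM.reverse hsn)
    rw [rw'_rev' hg hM hsn] at this
    omega
  have hconj : ∀ M : List ℕ, T.Wd M → (∀ s, T.N ≤ s → s < T.n → T.rw' M s < T.N) → ∀ c : ℕ → Fˣ,
      ∀ z : GL T.D.Idx F, z ∈ V ↔ tor T F c * nWd hg F M * z * (tor T F c * nWd hg F M)⁻¹ ∈ U := by
    intro M hM hM1 c z
    have e := genS_map_nWd (F := F) hg hM (S := Set.Iio T.N)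
      (fun r hr => by have := n_def (T := T); have : r < T.N := hr; omega)
    rw [himg M hM hM1 (hrev M hM hM1)] at e
    have hc : tor T F c ∈ Subgroup.normalizer (U : Set (GL T.D.Idx F)) :=
      tor_normalizes hg (fun r hr => hr.2) c
    have h1 : z ∈ V ↔ nWd hg F M * z * (nWd hg F M)⁻¹ ∈ U := by
      rw [hUdef, ← e]
      constructor
      · exact fun h => ⟨z, h, rfl⟩
      · rintro ⟨w, hw, he⟩
        simp only [MulEquiv.coe_toMonoidHom, MulAut.conj_apply] at he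
        rw [mul_right_cancel_iff, mul_left_cancel_iff] at he
        exact he ▸ hw
    rw [h1, Subgroup.mem_normalizer_iff.1 hc]
    group
  let n₀ : ↥(T.D.group F) :=
    ⟨tor T F 1 * nWd hg F L, monomial_le_group hg ((mem_monomial_iff hg).2 ⟨L, hL, 1, rfl⟩)⟩
  have hV : ∀ y : ↥(T.D.group F), (y : GL T.D.Idx F) ∈ V ↔
      (φ n₀ : GL T.D.Idx F) * (φ y : GL T.D.Idx F) * (φ n₀ : GL T.D.Idx F)⁻¹ ∈ U := by
    intro y
    rw [hconj L hL hL1 1]
    exact (hU (n₀ * y * n₀⁻¹)).trans (by simp)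
  obtain ⟨b, hb, n, hn, M, hM, ⟨c, hc⟩, u, hu, e⟩ := bruhat_exists g.toGoodA (φ n₀).2
  have hu' : u ∈ U := uMinus_le_pos hg M hu
  have hbU := borel_normalizes hg hb
  have hM1 : ∀ s, T.N ≤ s → s < T.n → T.rw' M s < T.N := by
    intro s hs hsn
    by_contra hge
    set w : GL T.D.Idx F := u⁻¹ * xg hg s 1 * u with hw
    have hwU : w ∈ U := mul_mem (mul_mem (inv_mem hu') (xg_mem_genS hg (S := Set.Ico T.N T.n) ⟨hs, hsn⟩ _)) hu'
    obtain ⟨y, hy⟩ := φ.surjective ⟨w, hUG hwU⟩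
    have hy' : (φ y : GL T.D.Idx F) = w := by rw [hy]
    have hyU : (y : GL T.D.Idx F) ∈ U := (hU y).2 (hy'.symm ▸ hwU)
    have hyV : (y : GL T.D.Idx F) ∈ V := by
      rw [hV, hy', e, hw, show b * n * u * (u⁻¹ * xg hg s 1 * u) * (b * n * u)⁻¹ =
        b * (n * xg hg s 1 * n⁻¹) * b⁻¹ by group]
      refine (Subgroup.mem_normalizer_iff.1 hbU _).1 ?_
      obtain ⟨v, hv⟩ := mono_conj (F := F) hg hM c hsn
      rw [hc, hv]
      exact xg_mem_genS hg (S := Set.Ico T.N T.n) ⟨not_lt.1 hge, rw'_lt hg hM hsn⟩ _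
    have h1 : y = 1 := Subtype.ext (mem_neg_pos_eq_one hg hyU hyV)
    rw [h1, map_one, Subgroup.coe_one] at hy'
    have h2 : xg hg s (1 : F) = 1 := by
      rw [show xg hg s (1 : F) = u * w * u⁻¹ by rw [hw]; group, ← hy']; group
    rw [← xg_zero hg s] at h2
    exact one_ne_zero (xg_injective hg hsn h2)
  let u' : ↥(T.D.group F) := ⟨u, hUG hu'⟩
  refine ⟨u' * x, ?_, ?_⟩
  · intro y
    rw [hU y]
    have : (((MulAut.conj (u' * x) * θ) y : ↥(T.D.group F)) : GL T.D.Idx F) =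
        u * (φ y : GL T.D.Idx F) * u⁻¹ := by
      simp [hφ, u', mul_assoc]
    rw [this, ← SetLike.mem_coe]
    exact Subgroup.mem_normalizer_iff.1 (Subgroup.le_normalizer hu') _
  · intro y
    have : (((MulAut.conj (u' * x) * θ) y : ↥(T.D.group F)) : GL T.D.Idx F) =
        u * (φ y : GL T.D.Idx F) * u⁻¹ := by
      simp [hφ, u', mul_assoc]
    rw [this, hV y, hconj M hM hM1 c (u * (φ y : GL T.D.Idx F) * u⁻¹), ← hc, e]
    rw [Subgroup.mem_normalizer_iff.1 hbU (n * (u * (φ y : GL T.D.Idx F) * u⁻¹) * n⁻¹)]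
    group
    rfl

omit [Finite F] in
theorem maps_borel (g : T.GoodK K) {θ : MulAut ↥(T.D.group F)}
    (hU : Maps θ (genS g.toGood F (Set.Ico T.N T.n)) (genS g.toGood F (Set.Ico T.N T.n))) :
    Maps θ (T.D.borelSubgroup F) (T.D.borelSubgroup F) := by
  have hUG := posU_le_group (F := F) g.toGood
  have key : ∀ θ : MulAut ↥(T.D.group F),
      Maps θ (genS g.toGood F (Set.Ico T.N T.n)) (genS g.toGood F (Set.Ico T.N T.n)) →
      ∀ y : ↥(T.D.group F), (y : GL T.D.Idx F) ∈ T.D.borelSubgroup F →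
        (θ y : GL T.D.Idx F) ∈ T.D.borelSubgroup F := fun θ h y hy =>
    mem_borel_of_normalizes g.toGoodA (θ y).2 (h.normalizer hUG hUG (borel_normalizes g.toGood hy))
  intro y
  refine ⟨key θ hU y, fun hy => ?_⟩
  have := key θ⁻¹ hU.symm (θ y) hy
  rwa [MulAut.inv_def, MulEquiv.symm_apply_apply] at this

end Cfsg.Agent.ChevAut
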