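import Cfsg.Agent.Lib.ChevAut.AutCount
import Cfsg.Agent.Lib.ChevAut.AutData

/-! Shared part of the computation of the outer automorphism groups. -/

set_option autoImplicit false

namespace Cfsg.Agent.ChevAut

open Cfsg.Lie Cfsg.Agent.Chev Cfsg.Agent.Chev.Tab

variable {T : Tab} {K : List (List ℕ)} {Ls : List Bool} {F : Type*} [Field F]

/-- the outer automorphism group has order `|Π| · f · gcd(d, q - 1)` -/
theorem out_count [Fintype F] (p f : ℕ) [Fact p.Prime] [CharP F p] (hF : Fintype.card F = p ^ f)
    (h : AutOK T K Ls) {D : ChevalleyDatum}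
    (hD : D ∈ [chevG2, chevB2, chevD4, chevF4, chevE6, chevE7, chevE8]) (hT : T.D = D)
    {k₀ d : ℕ} {v : List ℤ} {W : List (List ℤ)} (hc : checkCoker T k₀ d v W = true) :
    Nat.card (Cfsg.Out ↥(D.group F)) =
      Nat.card ↥(piHom h F).range * f * Nat.gcd d (p ^ f - 1) := by
  subst hT
  rw [card_out h hD, (ringAut_facts p f hF).2, coker_index hc, Nat.card_units,
    Nat.card_eq_fintype_card (α := F), hF, Nat.gcd_comm]

theorem range_one [Finite F] (h : AutOK T K Ls) (hlen : (symList T T.l).length ≤ 1) :
    Nat.card ↥(piHom h F).range = 1 := by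
  have h1 := (card_range_le (F := F) h).trans hlen
  have h2 : 0 < Nat.card ↥(piHom h F).range := Nat.card_pos
  omega

theorem range_two [Finite F] (h : AutOK T K Ls) (hlen : (symList T T.l).length ≤ 2)
    {ρ : Equiv.Perm (Fin T.l)} (hρ : ρ ∈ (piHom h F).range) (hne : ρ ≠ 1) :
    Nat.card ↥(piHom h F).range = 2 := by
  have h1 := (card_range_le (F := F) h).trans hlen
  have h2 : 2 ≤ Nat.card ↥(piHom h F).range := by
    have hinj : Function.Injective (fun b : Bool =>
        (if b then (⟨ρ, hρ⟩ : ↥(piHom h F).range) else 1)) := by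
      intro a b e
      cases a <;> cases b <;> simp_all [Subtype.ext_iff, eq_comm]
    simpa using Nat.card_le_card_of_injective _ hinj
  omega

/-- all realised permutations are trivial when the only other symmetry is excluded -/
theorem range_trivial [Finite F] (h : AutOK T K Ls) {L : List ℕ}
    (hsym : ∀ M ∈ symList T T.l, M = List.range T.l ∨ M = L)
    (hex : ∀ θ : ↥(normAut h.good.toGood F), permList (piHom h F θ) T.l = L → False) :
    Nat.card ↥(piHom h F).range = 1 := by
  have key : ∀ x : ↥(piHom h F).range, x = 1 := by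
    rintro ⟨_, θ, rfl⟩
    obtain ⟨μ, σ, -, hb⟩ := piHom_spec h θ
    refine Subtype.ext (permList_injective ?_)
    show permList (piHom h F θ) T.l = permList (1 : Equiv.Perm (Fin T.l)) T.l
    rw [(hsym _ (permList_mem _ hb _ le_rfl)).resolve_right (hex θ)]
    simp only [permList, Equiv.Perm.one_apply]
    exact ((List.map_congr_left fun i hi => by simp).trans (List.map_id _)).symm
  haveI : Subsingleton ↥(piHom h F).range := ⟨fun a b => (key a).trans (key b).symm⟩
  exact Nat.card_eq_one_iff_unique.2 ⟨inferInstance, ⟨1⟩⟩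

end Cfsg.Agent.ChevAut
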