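import Cfsg.Agent.Lib.Lie.ChevUnip2

/-! Every element of a Chevalley group lies in a double coset `B ω B` with `ω` a product of the `n_p`. -/

set_option autoImplicit false

namespace Cfsg.Agent.ChevAut

open Cfsg.Lie Cfsg.Agent.Chev Cfsg.Agent.Chev.Tab

variable {T : Tab} {F : Type*} [Field F]

/-- Conjugation by `ω` carries the root group of `s` to that of `s'`, compatibly with negation. -/
def Moves (g : T.Good) (ω : GL T.D.Idx F) (s s' : ℕ) : Prop :=
  ∃ ε : Fˣ, ∀ t : F, ω * xg g s t * ω⁻¹ = xg g s' ((ε : F) * t) ∧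
    ω * xg g (T.neg s) t * ω⁻¹ = xg g (T.neg s') ((ε : F) * t)

theorem moves_one (g : T.Good) (s : ℕ) : Moves g (1 : GL T.D.Idx F) s s := ⟨1, fun t => by simp⟩

theorem Moves.trans {g : T.Good} {ω ω' : GL T.D.Idx F} {s s' s'' : ℕ} (h : Moves g ω s s')
    (h' : Moves g ω' s' s'') : Moves g (ω' * ω) s s'' := by
  obtain ⟨ε, hε⟩ := h
  obtain ⟨δ, hδ⟩ := h'
  refine ⟨δ * ε, fun t => ?_⟩
  have e : ∀ x : GL T.D.Idx F, ω' * ω * x * (ω' * ω)⁻¹ = ω' * (ω * x * ω⁻¹) * ω'⁻¹ := fun x => by group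
  rw [e, e, (hε t).1, (hε t).2, (hδ _).1, (hδ _).2, Units.val_mul, mul_assoc]
  exact ⟨rfl, rfl⟩

theorem Moves.symm {g : T.Good} {ω : GL T.D.Idx F} {s s' : ℕ} (h : Moves g ω s s') : Moves g ω⁻¹ s' s := by
  obtain ⟨ε, hε⟩ := h
  refine ⟨ε⁻¹, fun t => ?_⟩
  have e : t = (ε : F) * ((↑ε⁻¹ : F) * t) := by rw [← mul_assoc, ← Units.val_mul, mul_inv_cancel, Units.val_one, one_mul]
  obtain ⟨h1, h2⟩ := hε ((↑ε⁻¹ : F) * t)
  rw [← e] at h1 h2
  rw [← h1, ← h2]
  constructor <;> group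

theorem moves_nG (g : T.Good) {i s : ℕ} (hi : i < T.l) (hs : s < T.n) : Moves g (nG g F i) s (T.ref i s) := by
  refine ⟨⟨_, _, eta_sq T i s, eta_sq T i s⟩, fun t => ⟨nG_conj g hi hs t, ?_⟩⟩
  rw [nG_conj g hi (neg_lt hs), g.ref_neg hi hs, g.eta_neg hi hs]

/-- Elements of `wSub` permute the root groups. -/
theorem exists_moves (g : T.Good) {ω : GL T.D.Idx F} (hω : ω ∈ wSub g F) :
    ∀ s < T.n, ∃ s' < T.n, Moves g ω s s' := by
  induction hω using Subgroup.closure_induction_left with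
  | one => exact fun s hs => ⟨s, hs, moves_one g s⟩
  | mul_left x hx y _ hy =>
    obtain ⟨i, hi, rfl⟩ := hx
    intro s hs
    obtain ⟨s', hs', h⟩ := hy s hs
    exact ⟨_, g.ref_lt hi hs', h.trans (moves_nG g hi hs')⟩
  | inv_mul_cancel x hx y _ hy =>
    obtain ⟨i, hi, rfl⟩ := hx
    intro s hs
    obtain ⟨s', hs', h⟩ := hy s hs
    refine ⟨_, g.ref_lt hi hs', h.trans ?_⟩
    have := (moves_nG (F := F) g hi (g.ref_lt hi hs')).symm
    rwa [g.ref_ref hi hs'] at this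

theorem borel_of_pos (g : T.Good) {x : GL T.D.Idx F} (hx : x ∈ genS g F (Set.Ico T.N T.n)) :
    x ∈ T.D.borelSubgroup F :=
  (mem_borel_iff g).2 ⟨x, hx, 1, by simp⟩

theorem borel_of_tor (g : T.Good) (c : ℕ → Fˣ) : tor T F c ∈ T.D.borelSubgroup F :=
  (mem_borel_iff g).2 ⟨1, one_mem _, c, by simp⟩

/-- `U` is the root group of `p_i` followed by the other positive roots. -/
theorem pos_split (g : T.GoodA) {i : ℕ} (hi : i < T.l) {u : GL T.D.Idx F}
    (hu : u ∈ genS g.toGood F (Set.Ico T.N T.n)) :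
    ∃ t : F, ∃ u' ∈ genS g.toGood F (T.posExc i), u = u' * xg g.toGood (T.smp i) t := by
  refine genS_induction g.toGood
    (p := fun u => ∃ t : F, ∃ u' ∈ genS g.toGood F (T.posExc i), u = u' * xg g.toGood (T.smp i) t)
    ⟨0, 1, one_mem _, by rw [xg_zero, mul_one]⟩ ?_ hu
  rintro r ⟨hrN, hrn⟩ a y ⟨t, u', hu', rfl⟩
  by_cases hr : r = T.smp i
  · subst hr
    have hn := posExc_normalized (F := F) g hi hrN hrn a
    refine ⟨a + t, _, (Subgroup.mem_normalizer_iff.1 hn u').1 hu', ?_⟩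
    rw [← xg_add, ← mul_assoc, ← mul_assoc, inv_mul_cancel_right, mul_assoc]
  · exact ⟨t, xg g.toGood r a * u', mul_mem (xg_mem_genS g.toGood (show r ∈ T.posExc i from ⟨hrN, hrn, hr⟩) a) hu',
      (mul_assoc _ _ _).symm⟩

variable (T F) in
/-- The union of the double cosets `B ω B`. -/
def Cells (g : T.Good) : Set (GL T.D.Idx F) :=
  {x | ∃ b ∈ T.D.borelSubgroup F, ∃ ω ∈ wSub g F, ∃ b' ∈ T.D.borelSubgroup F, x = b * ω * b'}

theorem nG_cells (g : T.GoodA) {i : ℕ} (hi : i < T.l) {x : GL T.D.Idx F} (hx : x ∈ Cells T F g.toGood) :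
    nG g.toGood F i * x ∈ Cells T F g.toGood := by
  obtain ⟨b, hb, ω, hω, b', hb', rfl⟩ := hx
  obtain ⟨u, hu, c, rfl⟩ := (mem_borel_iff g.toGood).1 hb
  obtain ⟨t, u', hu', rfl⟩ := pos_split g hi hu
  obtain ⟨d, hd⟩ := wSub_conj_torus g.toGood (inv_mem hω) c
  rw [inv_inv] at hd
  have hsi := g.toGood.smp_lt hi
  have hni := nG_mem_wSub (F := F) g.toGood hi
  have hu'' : nG g.toGood F i * u' * (nG g.toGood F i)⁻¹ ∈ T.D.borelSubgroup F := by
    have h := nG_normalizes (F := F) g.toGood hi (S := T.posExc i) (fun r hr => hr.2.1)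
      (fun r hr => ref_posExc g.toGood hi hr)
    exact borel_of_pos g.toGood (genS_mono g.toGood (S' := Set.Ico T.N T.n) (fun r hr => ⟨hr.1, hr.2.1⟩)
      ((Subgroup.mem_normalizer_iff.1 h u').1 hu'))
  suffices h : nG g.toGood F i * xg g.toGood (T.smp i) t * ω ∈ Cells T F g.toGood by
    obtain ⟨b1, hb1, ω1, hω1, b2, hb2, e⟩ := h
    refine ⟨_, mul_mem hu'' hb1, ω1, hω1, _, mul_mem (mul_mem hb2 (borel_of_tor g.toGood d)) hb', ?_⟩
    have e' : nG g.toGood F i * (u' * xg g.toGood (T.smp i) t * tor T F c * ω * b') =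
        (nG g.toGood F i * u' * (nG g.toGood F i)⁻¹) * (nG g.toGood F i * xg g.toGood (T.smp i) t * ω) *
          (ω⁻¹ * tor T F c * ω) * b' := by group
    rw [e', hd, e]
    group
  obtain ⟨s, hs, hmv⟩ := exists_moves g.toGood (inv_mem hω) _ hsi
  obtain ⟨ε, hε⟩ := hmv
  by_cases hpos : T.N ≤ s
  · refine ⟨1, one_mem _, _, mul_mem hni hω, xg g.toGood s ((ε : F) * t),
      borel_of_pos g.toGood (xg_mem_genS g.toGood (show s ∈ Set.Ico T.N T.n from ⟨hpos, hs⟩) _), ?_⟩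
    rw [← (hε t).1]
    group
  by_cases ht : t = 0
  · exact ⟨1, one_mem _, _, mul_mem hni hω, 1, one_mem _, by rw [ht, xg_zero]; group⟩
  -- pass through the opposite root
  set a : F := -t⁻¹
  set x : F → GL T.D.Idx F := xg g.toGood (T.smp i) with hxdef
  have ha : a ≠ 0 := neg_ne_zero.2 (inv_ne_zero ht)
  have h1 : nG g.toGood F i * x t * (nG g.toGood F i)⁻¹ = xg g.toGood (T.neg (T.smp i)) (-t) := by
    rw [hxdef, nG_conj g.toGood hi hsi, g.toGood.ref_smp hi, g.toGood.eta_smp hi]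
    push_cast
    rw [neg_one_mul]
  have h2 : xg g.toGood (T.neg (T.smp i)) (-t) =
      x a * (hS T F i (Units.mk0 (-a) (neg_ne_zero.2 ha)) * nG g.toGood F i) * x a := by
    rw [← nE_simple g.toGood hi, Units.val_mk0, hxdef, ← mul_assoc, ← mul_assoc, xg_add, add_neg_cancel,
      xg_zero, one_mul, mul_assoc, xg_add, neg_add_cancel, xg_zero, mul_one,
      show -(-a)⁻¹ = -t by simp [a]]
  have hmv2 := hε
  refine ⟨x a * hS T F i (Units.mk0 (-a) (neg_ne_zero.2 ha)), mul_mem (borel_of_pos g.toGood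
    (xg_mem_genS g.toGood (show T.smp i ∈ Set.Ico T.N T.n from ⟨g.toGood.smp_ge hi, hsi⟩) _)) (borel_of_tor g.toGood _),
    nG g.toGood F i * nG g.toGood F i * ω, mul_mem (mul_mem hni hni) hω,
    xg g.toGood (T.neg s) ((ε : F) * (-a)), borel_of_pos g.toGood (xg_mem_genS g.toGood
      (show T.neg s ∈ Set.Ico T.N T.n from ⟨(N_le_neg_iff hs).2 (not_le.1 hpos), neg_lt hs⟩) _), ?_⟩
  rw [← (hε (-a)).2]
  have h3 : (nG g.toGood F i)⁻¹ * x a * nG g.toGood F i = xg g.toGood (T.neg (T.smp i)) (-a) := by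
    have h := nG_conj (F := F) g.toGood hi (neg_lt hsi) (-a)
    rw [g.toGood.ref_neg hi hsi, g.toGood.ref_smp hi, neg_neg hsi, g.toGood.eta_neg hi hsi,
      g.toGood.eta_smp hi] at h
    push_cast at h
    rw [neg_one_mul, _root_.neg_neg] at h
    rw [hxdef, ← h]
    simp [mul_assoc, a]
  calc nG g.toGood F i * x t * ω = nG g.toGood F i * x t * (nG g.toGood F i)⁻¹ * nG g.toGood F i * ω := by group
    _ = x a * hS T F i (Units.mk0 (-a) (neg_ne_zero.2 ha)) * (nG g.toGood F i * nG g.toGood F i) *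
        ((nG g.toGood F i)⁻¹ * x a * nG g.toGood F i) * ω := by rw [h1, h2]; group
    _ = _ := by rw [h3]; group

/-- Bruhat decomposition, existence. -/
theorem mem_cells (g : T.GoodA) {x : GL T.D.Idx F} (hx : x ∈ T.D.group F) : x ∈ Cells T F g.toGood := by
  have hbor : ∀ b ∈ T.D.borelSubgroup F, ∀ y ∈ Cells T F g.toGood, b * y ∈ Cells T F g.toGood := by
    rintro b hb _ ⟨b1, hb1, ω, hω, b2, hb2, rfl⟩
    exact ⟨b * b1, mul_mem hb hb1, ω, hω, b2, hb2, by group⟩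
  have hw : ∀ ω ∈ wSub g.toGood F, ∀ y ∈ Cells T F g.toGood, ω * y ∈ Cells T F g.toGood := by
    intro ω hω
    induction hω using Subgroup.closure_induction_left with
    | one => simp
    | mul_left x hx w _ ih =>
      obtain ⟨i, hi, rfl⟩ := hx
      intro y hy
      rw [mul_assoc]
      exact nG_cells g hi (ih y hy)
    | inv_mul_cancel x hx w _ ih =>
      obtain ⟨i, hi, rfl⟩ := hx
      intro y hy
      have e : (nG g.toGood F i)⁻¹ = hS T F i ((-1 : Fˣ))⁻¹ * nG g.toGood F i := by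
        rw [hS_inv, eq_inv_mul_iff_mul_eq, mul_inv_eq_iff_eq_mul, nG_sq g.toGood hi]
      rw [e, mul_assoc, mul_assoc]
      exact hbor _ (borel_of_tor g.toGood _) _ (nG_cells g hi (ih y hy))
  induction hx using Subgroup.closure_induction_left with
  | one => exact ⟨1, one_mem _, 1, one_mem _, 1, one_mem _, by simp⟩
  | mul_left y hy z _ hz =>
    obtain ⟨r, t, hr⟩ := hy
    have hrn : (r : ℕ) < T.n := g.toGood.nroots_eq ▸ r.2
    have e : y = xg g.toGood r t := eq_xg g.toGood (by rw [hr, ChevalleyDatum.x, dif_pos r.2])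
    obtain ⟨i, hi, ω, hω, ε, -, h⟩ := exists_conj_simple (F := F) g.toGood hrn
    have e' : xg g.toGood r t = ω * xg g.toGood (T.smp i) ((↑ε⁻¹ : F) * t) * ω⁻¹ := by
      rw [(h _).1, ← mul_assoc, ← Units.val_mul, mul_inv_cancel, Units.val_one, one_mul]
    rw [e, e', mul_assoc, mul_assoc]
    exact hw _ hω _ (hbor _ (borel_of_pos g.toGood (xg_mem_genS g.toGood
      (show T.smp i ∈ Set.Ico T.N T.n from ⟨g.toGood.smp_ge hi, g.toGood.smp_lt hi⟩) _)) _ (hw _ (inv_mem hω) _ hz))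
  | inv_mul_cancel y hy z _ hz =>
    obtain ⟨r, t, hr⟩ := hy
    have hrn : (r : ℕ) < T.n := g.toGood.nroots_eq ▸ r.2
    have e : y⁻¹ = xg g.toGood r (-t) := by
      rw [← xg_inv, inv_inj]; exact eq_xg g.toGood (by rw [hr, ChevalleyDatum.x, dif_pos r.2])
    obtain ⟨i, hi, ω, hω, ε, -, h⟩ := exists_conj_simple (F := F) g.toGood hrn
    have e' : xg g.toGood r (-t) = ω * xg g.toGood (T.smp i) ((↑ε⁻¹ : F) * -t) * ω⁻¹ := by
      rw [(h _).1, ← mul_assoc, ← Units.val_mul, mul_inv_cancel, Units.val_one, one_mul]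
    rw [e, e', mul_assoc, mul_assoc]
    exact hw _ hω _ (hbor _ (borel_of_pos g.toGood (xg_mem_genS g.toGood
      (show T.smp i ∈ Set.Ico T.N T.n from ⟨g.toGood.smp_ge hi, g.toGood.smp_lt hi⟩) _)) _ (hw _ (inv_mem hω) _ hz))

end Cfsg.Agent.ChevAut
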