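/-
Unipotent elements of F4 in characteristic two in an abelian group of six root subgroups.
-/
import Cfsg.Agent.Lib.Lie.TabF4
import Cfsg.Agent.Lib.Lie.ChevBruhat
import Cfsg.Agent.Lib.Lie.TwGraph
import Cfsg.Agent.Lib.Lie.TwCount

set_option autoImplicit false
set_option maxRecDepth 8000

namespace Cfsg.Agent.ChevAut.F4Inv

open Cfsg.Lie Cfsg.Agent.Chev Cfsg.Agent.Chev.Tab

/-- The table. -/
abbrev T : Tab := F4Data.tab

theorem gA : T.GoodA := ⟨F4Data.good, by decide +kernel⟩

/-- The two root elements commute in characteristic two. -/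
def evComm (r s : ℕ) : Bool :=
  Nat.beq r s || (!Nat.beq s (T.neg r) && (T.cTerms r s).all fun q => Nat.beq (q.2.1.natAbs % 2) 0)

/-- The six roots. -/
def A6 : List ℕ := [39, 40, 44, 45, 46, 47]

/-- The root acted upon nontrivially by `r`, and the root produced. -/
def act : ℕ → Option (ℕ × ℕ)
  | 24 => some (46, 47)
  | 25 => some (45, 46)
  | 26 => some (45, 47)
  | 27 => some (39, 40)
  | 33 => some (40, 44)
  | 34 => some (39, 44)
  | _ => none

/-- One step of a single commutator in the six roots. -/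
def stepOK (r : ℕ) : Bool :=
  match act r with
  | none => A6.all (evComm r)
  | some (b, m) => (A6.all fun s => Nat.beq s b || evComm r s) &&
      ((match T.cTerms b r with
        | [(m', C, 1, 1)] => Nat.beq m m' && Nat.beq C.natAbs 1
        | _ => false) &&
      (evComm m r && (!Nat.beq r b && (!Nat.beq r (T.neg b) &&
        (A6.elem b && (A6.elem m && (!Nat.beq m 39 && !Nat.beq m 45)))))))

theorem stepsOK : allBelow (fun k => stepOK (k + 24)) 24 = true := by decide +kernel

theorem a6OK : A6.all (fun r => (Nat.ble 24 r && Nat.blt r 48) && A6.all (evComm r)) = true := by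
  decide +kernel

theorem A6_bounds {r : ℕ} (hr : r ∈ A6) : 24 ≤ r ∧ r < 48 := by
  have h := a6OK
  simp only [List.all_eq_true, Bool.and_eq_true, nat_ble, nat_blt] at h
  exact (h r hr).1

variable {F : Type*} [Field F]

/-- Root elements. -/
noncomputable abbrev X (r : ℕ) (t : F) : GL T.D.Idx F := xg gA.toGood r t

theorem X_group (r : ℕ) (t : F) : X r t ∈ T.D.group F := xg_mem_group gA.toGood r t

theorem X_add (r : ℕ) (s t : F) : X r s * X r t = X r (s + t) := xg_add _ _ _ _

theorem X_zero (r : ℕ) : X r (0 : F) = 1 := xg_zero _ _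

/-- A product over the six roots. -/
noncomputable def P6 (f : ℕ → F) : GL T.D.Idx F := (A6.map fun r => X r (f r)).prod

variable [CharP F 2]

theorem sq_X (r : ℕ) (t : F) : X r t * X r t = 1 := by rw [X_add, CharTwo.add_self_eq_zero, X_zero]

theorem X_inv (r : ℕ) (t : F) : (X r t)⁻¹ = X r t := by rw [xg_inv, CharTwo.neg_eq]

theorem X_comm {r s : ℕ} (hr : r < 48) (hs : s < 48) (h : evComm r s = true) (t u : F) :
    Commute (X r t) (X s u) := by
  simp only [evComm, Bool.or_eq_true, nat_beq, Bool.and_eq_true, Bool.not_eq_true', nat_beq_false,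
    List.all_eq_true] at h
  rcases h with rfl | ⟨hne, hev⟩
  · show _ = _; rw [X_add, X_add, add_comm]
  by_cases e : s = r
  · subst e; show _ = _; rw [X_add, X_add, add_comm]
  refine Commute.symm ?_
  show _ = _
  rw [xg_comm gA hr hs e hne, List.prod_eq_one, mul_one]
  intro z hz
  simp only [cVal, List.map_map, List.mem_map, Function.comp_apply] at hz
  obtain ⟨q, hq, rfl⟩ := hz
  have hC : ((q.2.1 : ℤ) : F) = 0 :=
    (CharP.intCast_eq_zero_iff F 2 _).2 (Int.natCast_dvd.2 (Nat.dvd_of_mod_eq_zero (hev q hq)))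
  rw [hC, zero_mul, zero_mul, xg_zero]

theorem A6_comm {r s : ℕ} (hr : r ∈ A6) (hs : s ∈ A6) (t u : F) : Commute (X r t) (X s u) := by
  have h := a6OK
  simp only [List.all_eq_true, Bool.and_eq_true] at h
  exact X_comm (A6_bounds hr).2 (A6_bounds hs).2 ((h r hr).2 s hs) t u

theorem prod_add (f g : ℕ → F) : ∀ L : List ℕ, (∀ r ∈ L, r ∈ A6) →
    (L.map fun r => X r (f r + g r)).prod = (L.map fun r => X r (f r)).prod * (L.map fun r => X r (g r)).prod
  | [], _ => by simp
  | a :: L, h => by
    have ha := h a List.mem_cons_self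
    have hL : ∀ r ∈ L, r ∈ A6 := fun r hr => h r (List.mem_cons_of_mem _ hr)
    have hc : Commute (X a (g a)) (L.map fun r => X r (f r)).prod :=
      Commute.list_prod_right _ _ fun y hy => by
        obtain ⟨r, hr, rfl⟩ := List.mem_map.1 hy
        exact A6_comm ha (hL r hr) _ _
    simp only [List.map_cons, List.prod_cons]
    rw [prod_add f g L hL, ← X_add, mul_assoc (X a (f a)), ← mul_assoc (X a (g a)), hc.eq]
    simp only [mul_assoc]

theorem P6_add (f g : ℕ → F) : P6 (f + g) = P6 f * P6 g := prod_add f g A6 fun _ h => h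

omit [CharP F 2] in
theorem prod_filter (t : ℕ → F) (p : ℕ → Bool) : ∀ L : List ℕ, (∀ r ∈ L, p r = false → t r = 0) →
    ((L.filter p).map fun r => X r (t r)).prod = (L.map fun r => X r (t r)).prod
  | [], _ => rfl
  | a :: L, h => by
    have ih := prod_filter t p L fun r hr => h r (List.mem_cons_of_mem _ hr)
    cases hp : p a
    · rw [List.filter_cons_of_neg (by simp [hp]), ih, List.map_cons, List.prod_cons,
        h a List.mem_cons_self hp, X_zero, one_mul]
    · rw [List.filter_cons_of_pos hp, List.map_cons, List.map_cons, List.prod_cons, List.prod_cons, ih]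

omit [CharP F 2] in
/-- A commuting product of distinct positive root elements as an ordered product. -/
theorem prod_eq_ord {L : List ℕ} (hL : ∀ r ∈ L, 24 ≤ r ∧ r < 48) (hnd : L.Nodup) (t : ℕ → F)
    (hc : ∀ r ∈ L, ∀ s ∈ L, Commute (X r (t r)) (X s (t s))) (h0 : ∀ r, r ∉ L → t r = 0) :
    (L.map fun r => X r (t r)).prod = ordProd gA.toGood 24 t := by
  have e : ordProd gA.toGood 24 t =
      (((List.range' 24 24).filter (fun r => decide (r ∈ L))).map fun r => X r (t r)).prod :=
    (prod_filter t _ _ fun r _ hr => h0 r (by simpa using hr)).symm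
  rw [e]
  refine List.Perm.prod_eq' (List.Perm.map _ ?_) ?_
  · rw [List.perm_ext_iff_of_nodup hnd (List.Nodup.filter _ List.nodup_range')]
    intro r
    simp only [List.mem_filter, List.mem_range'_1, decide_eq_true_eq]
    exact ⟨fun h => ⟨⟨(hL r h).1, (hL r h).2⟩, h⟩, fun h => h.2⟩
  · rw [List.pairwise_map]
    exact List.Pairwise.imp_of_mem (fun {a b} ha hb _ => hc a ha b hb) hnd

/-- Restriction to the six roots. -/
def rest (f : ℕ → F) : ℕ → F := fun r => if r ∈ A6 then f r else 0

theorem P6_ord (f : ℕ → F) : P6 f = ordProd gA.toGood 24 (rest f) := by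
  have e : P6 f = (A6.map fun r => X r (rest f r)).prod :=
    congrArg List.prod (List.map_congr_left fun r hr => by rw [rest, if_pos hr])
  rw [e]
  exact prod_eq_ord (fun r hr => A6_bounds hr) (by decide) _ (fun r hr s hs => A6_comm hr hs _ _)
    fun r hr => if_neg hr

omit [CharP F 2] in
theorem ord_inj {t u : ℕ → F} (h : ordProd gA.toGood 24 t = ordProd gA.toGood 24 u) {r : ℕ} (h1 : 24 ≤ r)
    (h2 : r < 48) : t r = u r :=
  (ordProd_spec gA 24 24 le_rfl le_rfl).2 t u h r h1 h2

theorem P6_inj {f g : ℕ → F} (h : P6 f = P6 g) {r : ℕ} (hr : r ∈ A6) : f r = g r := by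
  rw [P6_ord, P6_ord] at h
  have := ord_inj h (A6_bounds hr).1 (A6_bounds hr).2
  rwa [rest, rest, if_pos hr, if_pos hr] at this

omit [CharP F 2] in
theorem P6_congr {f g : ℕ → F} (h : ∀ r ∈ A6, f r = g r) : P6 f = P6 g :=
  congrArg List.prod (List.map_congr_left fun r hr => by rw [h r hr])

omit [CharP F 2] in
theorem P6_single {b : ℕ} (hb : b ∈ A6) (t : F) : P6 (Pi.single b t) = X b t := by
  simp only [A6, List.mem_cons, List.not_mem_nil, or_false] at hb
  rcases hb with rfl | rfl | rfl | rfl | rfl | rfl <;>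
    simp [P6, A6, Pi.single_apply]

omit [CharP F 2] in
theorem P6_zero : P6 (0 : ℕ → F) = 1 := by simp [P6, A6]

/-- The change of coordinates under conjugation by a positive root element. -/
def dlt (r : ℕ) (t : F) (f : ℕ → F) : ℕ → F :=
  match act r with
  | none => 0
  | some (b, m) => Pi.single m (f b * t)

/-- The effect of conjugation by a positive root element. -/
theorem conj_P6 {r : ℕ} (h1 : 24 ≤ r) (h2 : r < 48) (t : F) (f : ℕ → F) :
    X r t * P6 f * (X r t)⁻¹ = P6 (f + dlt r t f) := by
  have h := allBelow_eq_true.1 stepsOK (r - 24) (by omega)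
  rw [Nat.sub_add_cancel h1] at h
  rw [stepOK] at h
  rcases hact : act r with _ | ⟨b, m⟩ <;> simp only [dlt, hact]
  · rw [hact] at h
    simp only [List.all_eq_true] at h
    have hc : Commute (X r t) (P6 f) := Commute.list_prod_right _ _ fun y hy => by
      obtain ⟨s, hs, rfl⟩ := List.mem_map.1 hy
      exact X_comm h2 (A6_bounds hs).2 (h s hs) _ _
    rw [hc.eq, mul_inv_cancel_right, add_zero]
  · rw [hact] at h
    simp only [Bool.and_eq_true, List.all_eq_true, Bool.or_eq_true, nat_beq, Bool.not_eq_true', nat_beq_false,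
      List.elem_eq_mem, decide_eq_true_eq] at h
    obtain ⟨hoth, hterm, hmr, hrb, hrn, hb, hm, -⟩ := h
    rcases hct : T.cTerms b r with _ | ⟨⟨m', C, e1, e2⟩, _ | ⟨q, l⟩⟩
    · rw [hct] at hterm; exact Bool.noConfusion hterm
    swap
    · rw [hct] at hterm
      rcases e1 with _ | _ | e1 <;> rcases e2 with _ | _ | e2 <;> exact Bool.noConfusion hterm
    rw [hct] at hterm
    rcases e1 with _ | _ | e1 <;> rcases e2 with _ | _ | e2 <;>
      simp only [Bool.false_eq_true, Bool.and_eq_true, nat_beq] at hterm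
    obtain ⟨rfl, hC⟩ := hterm
    have hC1 : ((C : ℤ) : F) = 1 := by
      rcases Int.natAbs_eq C with e | e <;> rw [hC] at e <;> subst e <;> simp [CharTwo.neg_eq]
    have hbase : X r t * X b (f b) * (X r t)⁻¹ = X b (f b) * X m (f b * t) := by
      have h' := xg_comm gA (A6_bounds hb).2 h2 hrb hrn (f b) t
      rw [cVal, hct] at h'
      simp [hC1, CharTwo.neg_eq] at h'
      have hc := X_comm (A6_bounds hm).2 h2 hmr (f b * t) t
      rw [mul_inv_eq_iff_eq_mul, mul_assoc (X b (f b)), hc.eq, ← mul_assoc]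
      exact h'
    have hsplit : P6 f = P6 (f + Pi.single b (f b)) * X b (f b) := by
      rw [← P6_single hb, ← P6_add]
      exact P6_congr fun s _ => by simp [add_assoc, CharTwo.add_self_eq_zero]
    have hc : Commute (X r t) (P6 (f + Pi.single b (f b))) := Commute.list_prod_right _ _ fun y hy => by
      obtain ⟨s, hs, rfl⟩ := List.mem_map.1 hy
      rcases hoth s hs with rfl | he
      · simp only [Pi.add_apply, Pi.single_eq_same, CharTwo.add_self_eq_zero, X_zero]
        exact Commute.one_right _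
      · exact X_comm h2 (A6_bounds hs).2 he _ _
    calc X r t * P6 f * (X r t)⁻¹
        = P6 (f + Pi.single b (f b)) * (X r t * X b (f b) * (X r t)⁻¹) := by
          rw [hsplit, ← mul_assoc (X r t), hc.eq]; group
      _ = P6 f * X m (f b * t) := by rw [hbase, ← mul_assoc, ← hsplit]
      _ = P6 (f + Pi.single m (f b * t)) := by rw [P6_add, P6_single hm]

/-- `U` preserves the coefficients at the two lowest roots. -/
theorem conj_pos {y : GL T.D.Idx F} (hy : y ∈ genS gA.toGood F (Set.Ico T.N T.n)) (f : ℕ → F) :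
    ∃ g, y * P6 f * y⁻¹ = P6 g ∧ g 39 = f 39 ∧ g 45 = f 45 := by
  refine genS_induction gA.toGood (p := fun y => ∃ g, y * P6 f * y⁻¹ = P6 g ∧ g 39 = f 39 ∧ g 45 = f 45)
    ⟨f, by rw [one_mul, inv_one, mul_one], rfl, rfl⟩ ?_ hy
  rintro r hr t y ⟨g, hg, h39, h45⟩
  have h1 : 24 ≤ r := hr.1
  have h2 : r < 48 := hr.2
  refine ⟨_, by rw [← conj_P6 h1 h2 t g, ← hg]; group, ?_⟩
  have h := allBelow_eq_true.1 stepsOK (r - 24) (by omega)
  rw [Nat.sub_add_cancel h1, stepOK] at h
  rcases hact : act r with _ | ⟨b, m⟩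
  · simp [dlt, hact, h39, h45]
  · rw [hact] at h
    simp only [Bool.and_eq_true, Bool.not_eq_true', nat_beq_false] at h
    have h39' : (39 : ℕ) ≠ m := Ne.symm h.2.2.2.2.2.2.2.1
    have h45' : (45 : ℕ) ≠ m := Ne.symm h.2.2.2.2.2.2.2.2
    simp [dlt, hact, h39, h45, Pi.single_eq_of_ne h39', Pi.single_eq_of_ne h45']

end Cfsg.Agent.ChevAut.F4Inv
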