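/-
Centralisers of the involutions `x₄₇x₄₄` and `x₃₉x₄₅` of F4 in characteristic two.
-/
import Cfsg.Agent.Lib.ChevAut.F4InvBase

set_option autoImplicit false
set_option maxRecDepth 8000

namespace Cfsg.Agent.ChevAut.F4Inv

open Cfsg.Lie Cfsg.Agent.Chev Cfsg.Agent.Chev.Tab

/-- The pairing of a coroot with a root. -/
def pr (r s : ℕ) : ℤ := sumBelow (fun i => T.c r i * T.A i s) 4

/-- Long roots. -/
def lng (r : ℕ) : Bool := anyBelow (fun s => pr s r == 2 && !Nat.beq r s) 48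

theorem invOK : allBelow (fun i => allBelow (fun r => lng (T.ref i r) == lng r &&
    allBelow (fun s => pr (T.ref i r) (T.ref i s) == pr r s) 48) 48) 4 = true := by decide +kernel

theorem rw'_inv : ∀ {L : List ℕ}, T.Wd L → ∀ {r : ℕ}, r < 48 →
    lng (T.rw' L r) = lng r ∧ ∀ {s : ℕ}, s < 48 → pr (T.rw' L r) (T.rw' L s) = pr r s
  | [], _, r, _ => ⟨by rw [rw'_nil], fun {s} _ => by rw [rw'_nil, rw'_nil]⟩
  | i :: L, hL, r, hr => by
    obtain ⟨hi, hL'⟩ := Wd.cons_iff.1 hL
    obtain ⟨ih1, ih2⟩ := rw'_inv hL' hr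
    have h := allBelow_eq_true.1 invOK i hi
    simp only [allBelow_eq_true, Bool.and_eq_true, beq_iff_eq] at h
    have h' := h _ (rw'_lt gA.toGood hL' hr)
    refine ⟨by rw [rw'_cons, h'.1, ih1], fun {s} hs => ?_⟩
    rw [rw'_cons, rw'_cons, h'.2 _ (rw'_lt gA.toGood hL' hs), ih2 hs]

/-- The check for a stabiliser of roots `Rs` generated by the simple reflections in `J`. -/
def checkStab (Rs J Ex : List ℕ) : Bool :=
  (Rs.all (fun R => Nat.blt R 48) && allBelow (fun k =>
    (J.elem k && Rs.all (fun R => Nat.beq (T.ref k R) R)) ||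
      !anyBelow (fun q => Nat.ble 24 q && Rs.all (fun R => pr q R == pr (T.neg (T.smp k)) R)) 48) 4) &&
  Ex.all (fun r => !anyBelow (fun q => Rs.all (fun R => pr q R == pr r R)) 24)

variable {F : Type*} [Field F]

theorem stab_roots {Rs J Ex : List ℕ} (hc : checkStab Rs J Ex = true) {L : List ℕ} (hL : T.Wd L)
    (hfix : ∀ R ∈ Rs, T.rw' L R = R) {r : ℕ} (hr : r < 48) (h : T.rw' L r < 24) : r ∉ Ex := by
  intro hx
  simp only [checkStab, Bool.and_eq_true, List.all_eq_true, Bool.not_eq_true', nat_blt] at hc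
  have h1 := hc.2 r hx
  rw [← Bool.not_eq_true] at h1
  refine h1 (anyBelow_eq_true.2 ⟨_, h, List.all_eq_true.2 fun R hR => ?_⟩)
  rw [beq_iff_eq]
  conv_lhs => rw [← hfix R hR]
  exact (rw'_inv hL hr).2 (hc.1.1 R hR)

theorem stab_word {Rs J Ex : List ℕ} (hc : checkStab Rs J Ex = true) (M : Subgroup (GL T.D.Idx F))
    (hJ : ∀ j ∈ J, j < 4 → ∀ a : F, X (T.smp j) a ∈ M ∧ X (T.neg (T.smp j)) a ∈ M) :
    ∀ m, ∀ L : List ℕ, L.length ≤ m → T.Wd L → (∀ R ∈ Rs, T.rw' L R = R) →
      ∃ c, ∃ y ∈ M, nWd gA.toGood F L = tor T F c * y := by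
  have hg := gA.toGood
  intro m
  induction m with
  | zero =>
    intro L hlen _ _
    obtain rfl := List.length_eq_zero_iff.1 (Nat.le_zero.1 hlen)
    exact ⟨1, 1, one_mem _, by simp⟩
  | succ m ih =>
    intro L hlen hL hLR
    rcases List.eq_nil_or_concat L with rfl | ⟨L', k, hLe⟩
    · exact ⟨1, 1, one_mem _, by simp⟩
    rw [List.concat_eq_append] at hLe
    subst hLe
    obtain ⟨hL', hk'⟩ := Wd.append_iff.1 hL
    have hk : k < T.l := hk' k List.mem_cons_self
    simp only [List.length_append, List.length_singleton] at hlen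
    have hc' := hc
    simp only [checkStab, Bool.and_eq_true, List.all_eq_true, allBelow_eq_true, Bool.or_eq_true, nat_blt,
      List.elem_eq_mem, decide_eq_true_eq, nat_beq] at hc'
    obtain ⟨⟨hR48, hkk⟩, -⟩ := hc'
    by_cases hneg : T.rw' L' (T.smp k) < T.N
    · obtain ⟨A, j, B, rfl, -, c, hcd⟩ := deletion (F := F) hg hL' hk hneg
      obtain ⟨hA', hjB⟩ := Wd.append_iff.1 hL'
      have hAB : T.Wd (A ++ B) := Wd.append_iff.2 ⟨hA', (Wd.cons_iff.1 hjB).2⟩
      have e : nWd hg F (A ++ j :: B ++ [k]) = tor T F c * nWd hg F (A ++ B) := by rw [nWd_snoc, hcd]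
      obtain ⟨d, y, hy, he⟩ := ih (A ++ B) (by
        simp only [List.length_append, List.length_cons] at hlen ⊢; omega) hAB fun R hR => by
          rw [← rw'_of_nWd_eq hg hL hAB (c := 1) (d := c) (by rw [map_one, one_mul, e]) (hR48 R hR)]
          exact hLR R hR
      exact ⟨c * d, y, hy, by rw [e, he, map_mul, mul_assoc]⟩
    rcases hkk k hk with ⟨hkJ, href⟩ | hno
    swap
    · exfalso
      have hq : T.N ≤ T.rw' (L' ++ [k]) (T.neg (T.smp k)) := by
        rw [rw'_append, rw'_cons, rw'_nil, hg.ref_neg hk (hg.smp_lt hk), hg.ref_smp hk, neg_neg (hg.smp_lt hk)]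
        exact not_lt.1 hneg
      have hqn := rw'_lt hg hL (neg_lt (T := T) (hg.smp_lt hk))
      rw [Bool.not_eq_true', ← Bool.not_eq_true] at hno
      refine hno (anyBelow_eq_true.2 ⟨_, hqn, ?_⟩)
      rw [Bool.and_eq_true, nat_ble, List.all_eq_true]
      refine ⟨hq, fun R hR => ?_⟩
      rw [beq_iff_eq]
      conv_lhs => rw [← hLR R hR]
      exact (rw'_inv hL (neg_lt (T := T) (hg.smp_lt hk))).2 (hR48 R hR)
    obtain ⟨d, y, hy, he⟩ := ih L' (by omega) hL' fun R hR => by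
      have h := hLR R hR
      rwa [rw'_append, rw'_cons, rw'_nil, href R hR] at h
    refine ⟨d, y * nG hg F k, mul_mem hy ?_, by rw [nWd_snoc, he, mul_assoc]⟩
    exact mul_mem (mul_mem (hJ k hkJ hk 1).1 (hJ k hkJ hk _).2) (hJ k hkJ hk 1).1

variable [CharP F 2]

/-- A monomial element between two elements of the abelian group. -/
theorem mono_supp {L : List ℕ} (hL : T.Wd L) (c : ℕ → Fˣ) {f g : ℕ → F}
    (h : (tor T F c * nWd gA.toGood F L) * P6 f * (tor T F c * nWd gA.toGood F L)⁻¹ = P6 g) :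
    (∀ r ∈ A6, f r ≠ 0 → T.rw' L r ∈ A6 ∧ g (T.rw' L r) ≠ 0) ∧
    (∀ s ∈ A6, g s ≠ 0 → ∃ r ∈ A6, T.rw' L r = s ∧ f r ≠ 0) := by
  classical
  have hg := gA.toGood
  obtain ⟨m, hm⟩ : ∃ m, m = tor T F c * nWd gA.toGood F L := ⟨_, rfl⟩
  rw [← hm] at h
  have hv : ∀ r : ℕ, ∃ v : Fˣ, r < 48 → ∀ t : F, m * X r t * m⁻¹ = X (T.rw' L r) ((v : F) * t) := by
    intro r
    by_cases hr : r < 48
    · obtain ⟨v, hv⟩ := mono_conj (F := F) hg hL c (s := r) hr
      exact ⟨v, fun _ t => hm ▸ hv t⟩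
    · exact ⟨1, fun h => absurd h hr⟩
  choose v hv using hv
  have himg : ∀ (f : ℕ → F) (K : List ℕ), (∀ r ∈ K, r ∈ A6) →
      m * (K.map fun r => X r (f r)).prod * m⁻¹ = (K.map fun r => X (T.rw' L r) ((v r : F) * f r)).prod := by
    intro f K
    induction K with
    | nil => intro _; simp
    | cons a K ih =>
      intro hK
      rw [List.map_cons, List.map_cons, List.prod_cons, List.prod_cons,
        ← hv a (A6_bounds (hK a List.mem_cons_self)).2, ← ih fun r hr => hK r (List.mem_cons_of_mem _ hr)]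
      group
  -- the part sent to negative roots is trivial
  obtain ⟨fN, hfN⟩ : ∃ fN : ℕ → F, fN = fun r => if T.rw' L r < 24 then f r else 0 := ⟨_, rfl⟩
  have hneg : m * P6 fN * m⁻¹ ∈ genS hg F (Set.Iio T.N) := by
    rw [P6, himg fN A6 fun r hr => hr]
    refine Subgroup.list_prod_mem _ fun y hy => ?_
    obtain ⟨r, hr, rfl⟩ := List.mem_map.1 hy
    by_cases hr' : T.rw' L r < 24
    · exact xg_mem_genS hg (show T.rw' L r ∈ Set.Iio T.N from hr') _
    · rw [hfN]; simp only [if_neg hr', mul_zero, X_zero]; exact one_mem _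
  have hposP : m * P6 (f + fN) * m⁻¹ ∈ genS hg F (Set.Ico T.N T.n) := by
    rw [P6, himg (f + fN) A6 fun r hr => hr]
    refine Subgroup.list_prod_mem _ fun y hy => ?_
    obtain ⟨r, hr, rfl⟩ := List.mem_map.1 hy
    by_cases hr' : T.rw' L r < 24
    · rw [hfN]; simp only [Pi.add_apply, if_pos hr', CharTwo.add_self_eq_zero, mul_zero, X_zero]
      exact one_mem _
    · exact xg_mem_genS hg (show T.rw' L r ∈ Set.Ico T.N T.n from
        ⟨not_lt.1 hr', rw'_lt hg hL (A6_bounds hr).2⟩) _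
  have hgU : P6 g ∈ genS hg F (Set.Ico T.N T.n) := by
    refine Subgroup.list_prod_mem _ fun y hy => ?_
    obtain ⟨r, hr, rfl⟩ := List.mem_map.1 hy
    exact xg_mem_genS hg (show r ∈ Set.Ico T.N T.n from ⟨(A6_bounds hr).1, (A6_bounds hr).2⟩) _
  have hN1 : P6 fN = 1 := by
    have e : m * P6 fN * m⁻¹ = (m * P6 (f + fN) * m⁻¹)⁻¹ * P6 g := by
      rw [← h, eq_inv_mul_iff_mul_eq]
      calc m * P6 (f + fN) * m⁻¹ * (m * P6 fN * m⁻¹) = m * (P6 (f + fN) * P6 fN) * m⁻¹ := by group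
        _ = m * P6 f * m⁻¹ := by
          rw [← P6_add, add_assoc, show fN + fN = 0 from funext fun _ => CharTwo.add_self_eq_zero _, add_zero]
    have := borel_inf_neg hg (e ▸ genS_pos_le_borel hg (fun _ h => h) (mul_mem (inv_mem hposP) hgU)) hneg
    rwa [conj_eq_one_iff] at this
  rw [← P6_zero] at hN1
  have hz : ∀ r ∈ A6, T.rw' L r < 24 → f r = 0 := fun r hr hr' => by
    have := P6_inj hN1 hr
    rw [hfN] at this
    simpa [if_pos hr'] using this
  -- the positive images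
  have hrev : ∀ r < 48, T.rw' L.reverse (T.rw' L r) = r := fun r hr => rw'_rev hg hL hr
  obtain ⟨K, hK⟩ : ∃ K, K = (A6.filter fun r => decide (24 ≤ T.rw' L r)).map (T.rw' L) := ⟨_, rfl⟩
  obtain ⟨t, ht⟩ : ∃ t : ℕ → F, t = fun s =>
      if s ∈ K then (v (T.rw' L.reverse s) : F) * f (T.rw' L.reverse s) else 0 := ⟨_, rfl⟩
  have hmem : ∀ r ∈ A6, (24 ≤ T.rw' L r ↔ T.rw' L r ∈ K) := by
    intro r hr
    rw [hK, List.mem_map]
    refine ⟨fun h' => ⟨r, List.mem_filter.2 ⟨hr, by simpa using h'⟩, rfl⟩, ?_⟩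
    rintro ⟨r', hr', e⟩
    rw [← e]
    simpa using (List.mem_filter.1 hr').2
  have htv : ∀ r ∈ A6, 24 ≤ T.rw' L r → t (T.rw' L r) = (v r : F) * f r := fun r hr h' => by
    rw [ht]; simp only [if_pos ((hmem r hr).1 h'), hrev r (A6_bounds hr).2]
  have hcomm : ∀ r ∈ A6, ∀ r' ∈ A6, ∀ a b : F,
      Commute (X (T.rw' L r) a) (X (T.rw' L r') b) := by
    intro r hr r' hr' a b
    have h1 : X (T.rw' L r) a = m * X r (((v r)⁻¹ : Fˣ) * a) * m⁻¹ := by
      rw [hv r (A6_bounds hr).2, ← mul_assoc, ← Units.val_mul, mul_inv_cancel, Units.val_one, one_mul]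
    have h2 : X (T.rw' L r') b = m * X r' (((v r')⁻¹ : Fˣ) * b) * m⁻¹ := by
      rw [hv r' (A6_bounds hr').2, ← mul_assoc, ← Units.val_mul, mul_inv_cancel, Units.val_one, one_mul]
    rw [h1, h2]
    exact (Commute.conj_iff m).2 (A6_comm hr hr' _ _)
  have hKmem : ∀ s ∈ K, ∃ r ∈ A6, T.rw' L r = s ∧ 24 ≤ s := fun s hs => by
    rw [hK] at hs
    obtain ⟨r, hr, rfl⟩ := List.mem_map.1 hs
    exact ⟨r, (List.mem_filter.1 hr).1, rfl, by simpa using (List.mem_filter.1 hr).2⟩
  have hord : P6 g = ordProd gA.toGood 24 t := by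
    have e : P6 g = (K.map fun s => X s (t s)).prod := by
      rw [← h, P6, himg f A6 fun r hr => hr, hK, List.map_map]
      have step : ((A6.filter fun r => decide (24 ≤ T.rw' L r)).map fun r => X (T.rw' L r) ((v r : F) * f r)).prod =
          (A6.map fun r => X (T.rw' L r) ((v r : F) * f r)).prod := by
        generalize hA : A6 = Z
        have hZ : ∀ r ∈ Z, r ∈ A6 := fun r hr => hA ▸ hr
        clear hA
        induction Z with
        | nil => rfl
        | cons a Z ih =>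
          have ih' := ih fun r hr => hZ r (List.mem_cons_of_mem _ hr)
          by_cases ha : 24 ≤ T.rw' L a
          · rw [List.filter_cons_of_pos (by simpa using ha), List.map_cons, List.map_cons, List.prod_cons,
              List.prod_cons, ih']
          · rw [List.filter_cons_of_neg (by simpa using ha), ih', List.map_cons, List.prod_cons,
              hz a (hZ a List.mem_cons_self) (not_le.1 ha), mul_zero, X_zero, one_mul]
      rw [← step]
      refine congrArg List.prod (List.map_congr_left fun r hr => ?_)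
      obtain ⟨hr1, hr2⟩ := List.mem_filter.1 hr
      simp only [Function.comp_apply, htv r hr1 (by simpa using hr2)]
    rw [e]
    refine prod_eq_ord (fun s hs => ?_) ?_ t (fun r hr s hs => ?_) fun s hs => by rw [ht]; exact if_neg hs
    · obtain ⟨r, hr, rfl, h24⟩ := hKmem s hs
      exact ⟨h24, rw'_lt hg hL (A6_bounds hr).2⟩
    · rw [hK]
      refine ((by decide : A6.Nodup).filter _).map_on fun a ha b hb e => ?_
      rw [← hrev a (A6_bounds (List.mem_filter.1 ha).1).2, e, hrev b (A6_bounds (List.mem_filter.1 hb).1).2]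
    · obtain ⟨r₁, hr₁, rfl, -⟩ := hKmem r hr
      obtain ⟨r₂, hr₂, rfl, -⟩ := hKmem s hs
      exact hcomm r₁ hr₁ r₂ hr₂ _ _
  rw [P6_ord] at hord
  have hco : ∀ s, 24 ≤ s → s < 48 → rest g s = t s := fun s h1 h2 => ord_inj hord h1 h2
  refine ⟨fun r hr hfr => ?_, fun s hs hgs => ?_⟩
  · have h24 : 24 ≤ T.rw' L r := not_lt.1 fun h' => hfr (hz r hr h')
    have e := hco _ h24 (rw'_lt hg hL (A6_bounds hr).2)
    rw [htv r hr h24] at e
    have hne : rest g (T.rw' L r) ≠ 0 := e ▸ mul_ne_zero (v r).ne_zero hfr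
    by_cases hin : T.rw' L r ∈ A6
    · exact ⟨hin, by rwa [rest, if_pos hin] at hne⟩
    · exact absurd (if_neg hin) hne
  · have e := hco s (A6_bounds hs).1 (A6_bounds hs).2
    rw [rest, if_pos hs] at e
    rw [e] at hgs
    have hsK : s ∈ K := by
      by_contra hK'
      exact hgs (by rw [ht]; exact if_neg hK')
    obtain ⟨r, hr, rfl, h24⟩ := hKmem s hsK
    rw [htv r hr h24] at hgs
    exact ⟨r, hr, rfl, right_ne_zero_of_mul hgs⟩

/-- The element `x₄₇(a) x₄₄(b)`. -/
def fW (a b : F) : ℕ → F := Pi.single 47 a + Pi.single 44 b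

/-- The element `x₃₉(a) x₄₅(b)`. -/
def fV (a b : F) : ℕ → F := Pi.single 39 a + Pi.single 45 b

theorem P6_fW (a b : F) : P6 (fW a b) = X 47 a * X 44 b := by
  rw [fW, P6_add, P6_single (by decide), P6_single (by decide)]

theorem P6_fV (a b : F) : P6 (fV a b) = X 39 a * X 45 b := by
  rw [fV, P6_add, P6_single (by decide), P6_single (by decide)]

/-- The roots of the centraliser of `x₄₇x₄₄`. -/
def inW (r : ℕ) : Bool := Nat.ble 24 r || [20, 22].elem r

/-- The roots of the centraliser of `x₃₉x₄₅`. -/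
def inV (r : ℕ) : Bool := (Nat.ble 24 r && !([25, 26, 27, 34].elem r)) || [14, 23].elem r

theorem checksOK : (allBelow (fun r => (!inW r || (evComm r 47 && evComm r 44)) &&
      (!inV r || (evComm r 39 && evComm r 45))) 48 &&
    (checkStab [47, 44] [1, 2] [] && checkStab [39, 45] [0, 3] [25, 26, 27, 34])) = true := by
  decide +kernel

theorem simpOK : (inW (T.smp 1) = true ∧ inW (T.neg (T.smp 1)) = true ∧ inW (T.smp 2) = true ∧
    inW (T.neg (T.smp 2)) = true) ∧ inV (T.smp 0) = true ∧ inV (T.neg (T.smp 0)) = true ∧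
    inV (T.smp 3) = true ∧ inV (T.neg (T.smp 3)) = true := by
  decide +kernel

theorem v_cand : A6.all (fun a => A6.all fun b => A6.all fun c => A6.all fun d =>
    !((pr c d == pr 39 45 && pr d c == pr 45 39) && ((lng c == lng 39 && lng d == lng 45) &&
      ((pr c 39 == pr 39 a && pr c 45 == pr 39 b) && (pr d 39 == pr 45 a && pr d 45 == pr 45 b)))) ||
    (Nat.beq c 39 && Nat.beq d 45)) = true := by
  decide +kernel

omit [CharP F 2] in
theorem mem_inter_group {x : GL T.D.Idx F} {S : Set ℕ} (hx : x ∈ genS gA.toGood F S) : x ∈ T.D.group F :=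
  genS_le gA.toGood (fun r _ t => X_group r t) hx

theorem cent_list {S : Set ℕ} {R : ℕ} (hR : R < 48) (hS : ∀ r ∈ S, r < 48 ∧ evComm r R = true) {y : GL T.D.Idx F}
    (hy : y ∈ genS gA.toGood F S) (a : F) : Commute y (X R a) := by
  refine genS_induction gA.toGood (p := fun y => Commute y (X R a)) (Commute.one_left _) ?_ hy
  intro r hr t y hy
  exact Commute.mul_left (X_comm (hS r hr).1 hR (hS r hr).2 t a) hy

omit [CharP F 2] in
theorem wt_eq (e : ℕ → Fˣ) (r : ℕ) :
    wt T F e r = e 0 ^ T.A 0 r * e 1 ^ T.A 1 r * e 2 ^ T.A 2 r * e 3 ^ T.A 3 r := by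
  rw [wt, show (T.l : ℕ) = 4 from rfl, Finset.prod_range_succ, Finset.prod_range_succ, Finset.prod_range_succ,
    Finset.prod_range_one]

omit [CharP F 2] in
theorem tor_mem {M : Subgroup (GL T.D.Idx F)} (e : ℕ → Fˣ)
    (h : ∀ j < 4, e j = 1 ∨ ∀ a : F, X (T.smp j) a ∈ M ∧ X (T.neg (T.smp j)) a ∈ M) :
    tor T F e ∈ M := by
  rw [tor_eq_prod gA.toGood]
  refine Subgroup.list_prod_mem _ fun w hw => ?_
  obtain ⟨j, hj, rfl⟩ := List.mem_map.1 hw
  replace hj := List.mem_range.1 hj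
  rcases h j hj with h1 | h1
  · rw [h1, hS_one]; exact one_mem _
  · have hn := nE_simple (F := F) gA.toGood hj (e j)
    rw [eq_mul_inv_iff_mul_eq.2 hn.symm]
    exact mul_mem (mul_mem (mul_mem (h1 _).1 (h1 _).2) (h1 _).1)
      (inv_mem (mul_mem (mul_mem (h1 _).1 (h1 _).2) (h1 _).1))

/-- The positive part of the centraliser of `x₃₉x₄₅`. -/
theorem cent_pos {M : Subgroup (GL T.D.Idx F)} (hin : ∀ r, r < 48 → inV r = true → ∀ t : F, X r t ∈ M)
    (hx : ∀ y ∈ M, Commute y (P6 (fV (1 : F) 1))) {y : GL T.D.Idx F}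
    (hy : y ∈ genS gA.toGood F (Set.Ico T.N T.n)) (hc : Commute y (P6 (fV (1 : F) 1))) : y ∈ M := by
  obtain ⟨t, rfl⟩ := (ordProd_spec gA 24 24 le_rfl le_rfl).1 y hy
  obtain ⟨R, hR⟩ : ∃ R, R = ordProd gA.toGood 35 t := ⟨_, rfl⟩
  have hRM : R ∈ M := hR ▸ genS_le gA.toGood (fun r hr s => hin r hr.2 (by
      have h1 : 35 ≤ r := hr.1
      simp only [inV, Bool.or_eq_true, Bool.and_eq_true, nat_ble, Bool.not_eq_true', List.elem_eq_mem,
        decide_eq_false_iff_not]
      exact Or.inl ⟨by omega, by simp; omega⟩) s) (ordProd_mem gA.toGood 35 t)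
  obtain ⟨v, hv⟩ : ∃ v, v = P6 (fV (1 : F) 1) := ⟨_, rfl⟩
  have h33 : ∀ r ∈ [24, 28, 29, 30, 31, 32, 33], X r (t r) ∈ M := fun r hr => hin r (by
    simp only [List.mem_cons, List.not_mem_nil, or_false] at hr; omega) (by
    simp only [List.mem_cons, List.not_mem_nil, or_false] at hr
    rcases hr with rfl | rfl | rfl | rfl | rfl | rfl | rfl <;> decide) _
  have hexp : ordProd gA.toGood 24 t = X 24 (t 24) * (X 25 (t 25) * (X 26 (t 26) * (X 27 (t 27) * (X 28 (t 28) *
      (X 29 (t 29) * (X 30 (t 30) * (X 31 (t 31) * (X 32 (t 32) * (X 33 (t 33) * (X 34 (t 34) * R)))))))))) := by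
    rw [hR, ordProd_step _ (show 24 < T.n by decide), ordProd_step _ (show 25 < T.n by decide),
      ordProd_step _ (show 26 < T.n by decide), ordProd_step _ (show 27 < T.n by decide),
      ordProd_step _ (show 28 < T.n by decide), ordProd_step _ (show 29 < T.n by decide),
      ordProd_step _ (show 30 < T.n by decide), ordProd_step _ (show 31 < T.n by decide),
      ordProd_step _ (show 32 < T.n by decide), ordProd_step _ (show 33 < T.n by decide),
      ordProd_step _ (show 34 < T.n by decide)]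
  rw [hexp] at hc ⊢
  obtain ⟨z, hz⟩ : ∃ z, z = X 25 (t 25) * (X 26 (t 26) * (X 27 (t 27) * (X 28 (t 28) *
      (X 29 (t 29) * (X 30 (t 30) * (X 31 (t 31) * (X 32 (t 32) * (X 33 (t 33) * X 34 (t 34))))))))) := ⟨_, rfl⟩
  have hcz : Commute z (P6 (fV (1 : F) 1)) := by
    have h := ((hx _ (h33 24 (by simp))).inv_left.mul_left hc).mul_left (hx _ hRM).inv_left
    rw [hz]
    simp only [mul_assoc, inv_mul_cancel_left, mul_inv_cancel, mul_one] at h
    exact h
  have step : ∀ (r : ℕ) (w : GL T.D.Idx F) (f : ℕ → F) (g : ℕ → F), 24 ≤ r → r < 48 →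
      w * P6 (fV (1 : F) 1) * w⁻¹ = P6 f →
      f + dlt r (t r) f = g →
      (X r (t r) * w) * P6 (fV (1 : F) 1) * (X r (t r) * w)⁻¹ = P6 g := by
    intro r w f g h1 h2 hf e
    rw [← e, ← conj_P6 h1 h2 (t r) f, ← hf]; group
  obtain ⟨f1, hf1⟩ : ∃ f1 : ℕ → F, f1 = fV 1 1 + Pi.single 44 (t 34) := ⟨_, rfl⟩
  have s34 := step 34 1 (fV 1 1) f1 (by decide) (by decide) (by simp) (by simp [dlt, act, hf1, fV])
  rw [mul_one] at s34
  have s33 := step 33 _ _ f1 (by decide) (by decide) s34 (by simp [dlt, act, hf1, fV])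
  have s32 := step 32 _ _ f1 (by decide) (by decide) s33 (by simp [dlt, act])
  have s31 := step 31 _ _ f1 (by decide) (by decide) s32 (by simp [dlt, act])
  have s30 := step 30 _ _ f1 (by decide) (by decide) s31 (by simp [dlt, act])
  have s29 := step 29 _ _ f1 (by decide) (by decide) s30 (by simp [dlt, act])
  have s28 := step 28 _ _ f1 (by decide) (by decide) s29 (by simp [dlt, act])
  have s27 := step 27 _ _ (f1 + Pi.single 40 (t 27)) (by decide) (by decide) s28 (by simp [dlt, act, hf1, fV])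
  have s26 := step 26 _ _ (f1 + Pi.single 40 (t 27) + Pi.single 47 (t 26)) (by decide) (by decide) s27
    (by simp [dlt, act, hf1, fV])
  have s25 := step 25 _ _ (f1 + Pi.single 40 (t 27) + Pi.single 47 (t 26) + Pi.single 46 (t 25)) (by decide)
    (by decide) s26 (by simp [dlt, act, hf1, fV])
  rw [← hz, hcz.eq, mul_inv_cancel_right] at s25
  have k40 := P6_inj s25 (r := 40) (by decide)
  have k44 := P6_inj s25 (r := 44) (by decide)
  have k46 := P6_inj s25 (r := 46) (by decide)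
  have k47 := P6_inj s25 (r := 47) (by decide)
  simp [hf1, fV, Pi.single_apply] at k40 k44 k46 k47
  rw [← k40, ← k44, ← k46, ← k47, X_zero, X_zero, X_zero, X_zero, one_mul, one_mul, one_mul, one_mul]
  exact mul_mem (h33 24 (by simp)) (mul_mem (h33 28 (by simp)) (mul_mem (h33 29 (by simp))
    (mul_mem (h33 30 (by simp)) (mul_mem (h33 31 (by simp)) (mul_mem (h33 32 (by simp))
      (mul_mem (h33 33 (by simp)) hRM))))))

theorem w_centralizer [Finite F] :
    T.D.group F ⊓ Subgroup.centralizer {X 47 (1 : F) * X 44 (1 : F)} =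
      genS gA.toGood F {r | r < 48 ∧ inW r = true} := by
  have hg := gA.toGood
  obtain ⟨M, hM⟩ : ∃ M, M = genS gA.toGood F {r | r < 48 ∧ inW r = true} := ⟨_, rfl⟩
  rw [← hM]
  have hchk := checksOK
  simp only [Bool.and_eq_true, allBelow_eq_true, Bool.or_eq_true, Bool.not_eq_true'] at hchk
  obtain ⟨hcomm, hstab, -⟩ := hchk
  obtain ⟨⟨hs1, hn1, hs2, hn2⟩, -⟩ := simpOK
  have hx : ∀ y ∈ M, ∀ a b : F, Commute y (X 47 a * X 44 b) := fun y hy a b => by
    have hev : ∀ r ∈ {r | r < 48 ∧ inW r = true}, r < 48 ∧ evComm r 47 = true ∧ evComm r 44 = true :=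
      fun r hr => ⟨hr.1, ((hcomm r hr.1).1).resolve_left (by rw [hr.2]; decide)⟩
    exact Commute.mul_right (cent_list (by decide) (fun r hr => ⟨(hev r hr).1, (hev r hr).2.1⟩) (hM ▸ hy) a)
      (cent_list (by decide) (fun r hr => ⟨(hev r hr).1, (hev r hr).2.2⟩) (hM ▸ hy) b)
  refine le_antisymm ?_ fun y hy => ⟨mem_inter_group (hM ▸ hy),
    Subgroup.mem_centralizer_singleton_iff.2 (hx y hy 1 1).eq⟩
  rintro y ⟨hy, hyc⟩
  have hyx : Commute y (X 47 (1 : F) * X 44 (1 : F)) := Subgroup.mem_centralizer_singleton_iff.1 hyc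
  have hin : ∀ r, r < 48 → inW r = true → ∀ t : F, X r t ∈ M := fun r h1 h2 t =>
    hM ▸ xg_mem_genS hg (S := {r | r < 48 ∧ inW r = true}) ⟨h1, h2⟩ t
  have hpos : genS hg F (Set.Ico T.N T.n) ≤ M := hM ▸ genS_mono hg (fun r hr =>
    ⟨hr.2, by rw [inW, Bool.or_eq_true]; exact Or.inl (nat_ble.2 hr.1)⟩)
  have hsimp : ∀ j, (j = 1 ∨ j = 2) → ∀ a : F, X (T.smp j) a ∈ M ∧ X (T.neg (T.smp j)) a ∈ M := by
    rintro j (rfl | rfl) a
    · exact ⟨hin _ (hg.smp_lt (by decide)) hs1 a, hin _ (neg_lt (hg.smp_lt (by decide))) hn1 a⟩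
    · exact ⟨hin _ (hg.smp_lt (by decide)) hs2 a, hin _ (neg_lt (hg.smp_lt (by decide))) hn2 a⟩
  obtain ⟨b, hb, _, -, L, hL, ⟨c, rfl⟩, u, hu, rfl⟩ := bruhat_exists gA hy
  obtain ⟨u', hu', c', rfl⟩ := (mem_borel_iff hg).1 hb
  have hu1 := hpos hu'
  have hu2 := hpos (uMinus_le_pos hg L hu)
  have e0 : u' * tor T F c' * (tor T F c * nWd hg F L) * u = u' * (tor T F (c' * c) * nWd hg F L) * u := by
    rw [map_mul]; group
  rw [e0] at hyx ⊢
  have hmid : Commute (tor T F (c' * c) * nWd hg F L) (X 47 (1 : F) * X 44 (1 : F)) := by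
    have h := ((hx _ hu1 1 1).inv_left.mul_left hyx).mul_left (hx _ hu2 1 1).inv_left
    rwa [show u'⁻¹ * (u' * (tor T F (c' * c) * nWd hg F L) * u) * u⁻¹ =
      tor T F (c' * c) * nWd hg F L by group] at h
  have hfix : ∀ R ∈ [47, 44], T.rw' L R = R := by
    have hs := (mono_supp hL (c' * c) (f := fW (1 : F) 1) (g := fW (1 : F) 1) (by
      rw [P6_fW, hmid.eq, mul_inv_cancel_right])).1
    have key : ∀ R ∈ [47, 44], ∀ s ∈ A6, s ≠ R → lng s = lng R → s ≠ 47 ∧ s ≠ 44 := by decide +kernel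
    intro R hR
    have hR6 : R ∈ A6 := by simp only [List.mem_cons, List.not_mem_nil, or_false] at hR; rcases hR with rfl | rfl <;> decide
    have hne : fW (1 : F) 1 R ≠ 0 := by
      simp only [List.mem_cons, List.not_mem_nil, or_false] at hR
      rcases hR with rfl | rfl <;> simp [fW]
    obtain ⟨hin6, hg1⟩ := hs R hR6 hne
    by_contra hne'
    obtain ⟨h47, h44⟩ := key R hR _ hin6 hne' (rw'_inv hL (A6_bounds hR6).2).1
    exact hg1 (by simp [fW, Pi.single_apply, h47, h44])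
  obtain ⟨d, z, hz, he⟩ := stab_word hstab M (fun j hj _ a => hsimp j (by simpa using hj) a) _ L le_rfl hL hfix
  rw [he, ← mul_assoc (tor T F _), ← map_mul] at hmid ⊢
  obtain ⟨e, hed⟩ : ∃ e, e = c' * c * d := ⟨_, rfl⟩
  rw [← hed] at hmid ⊢
  refine mul_mem (mul_mem hu1 (mul_mem ?_ hz)) hu2
  have hte : Commute (tor T F e) (X 47 (1 : F) * X 44 (1 : F)) := by
    have h := hmid.mul_left (hx _ hz 1 1).inv_left
    rwa [mul_inv_cancel_right] at h
  have hχ : P6 (fW (wt T F e 47 : F) (wt T F e 44)) = P6 (fW (1 : F) 1) := by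
    rw [P6_fW, P6_fW]
    calc _ = (tor T F e * X 47 (1 : F) * (tor T F e)⁻¹) * (tor T F e * X 44 (1 : F) * (tor T F e)⁻¹) := by
          rw [tor_xg hg e (s := 47) (by decide), tor_xg hg e (s := 44) (by decide), mul_one, mul_one]
      _ = tor T F e * (X 47 (1 : F) * X 44 (1 : F)) * (tor T F e)⁻¹ := by group
      _ = _ := by rw [hte.eq, mul_inv_cancel_right]
  have h47 := P6_inj hχ (r := 47) (by decide)
  have h44 := P6_inj hχ (r := 44) (by decide)
  simp [fW, Pi.single_apply, Units.val_eq_one, wt_eq, show T.A 0 47 = 0 by decide +kernel,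
    show T.A 1 47 = 0 by decide +kernel, show T.A 2 47 = 0 by decide +kernel, show T.A 3 47 = 1 by decide +kernel,
    show T.A 0 44 = 1 by decide +kernel, show T.A 1 44 = 0 by decide +kernel, show T.A 2 44 = 0 by decide +kernel,
    show T.A 3 44 = 0 by decide +kernel] at h47 h44
  refine tor_mem e fun j hj => ?_
  interval_cases j
  · exact Or.inl h44
  · exact Or.inr (hsimp 1 (Or.inl rfl))
  · exact Or.inr (hsimp 2 (Or.inr rfl))
  · exact Or.inl h47

theorem v_centralizer [Finite F] :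
    T.D.group F ⊓ Subgroup.centralizer {X 39 (1 : F) * X 45 (1 : F)} =
      genS gA.toGood F {r | r < 48 ∧ inV r = true} := by
  have hg := gA.toGood
  obtain ⟨M, hM⟩ : ∃ M, M = genS gA.toGood F {r | r < 48 ∧ inV r = true} := ⟨_, rfl⟩
  rw [← hM]
  have hchk := checksOK
  simp only [Bool.and_eq_true, allBelow_eq_true, Bool.or_eq_true, Bool.not_eq_true'] at hchk
  obtain ⟨hcomm, -, hstab⟩ := hchk
  obtain ⟨-, hs0, hn0, hs3, hn3⟩ := simpOK
  have hx : ∀ y ∈ M, ∀ a b : F, Commute y (P6 (fV a b)) := fun y hy a b => by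
    have hev : ∀ r ∈ {r | r < 48 ∧ inV r = true}, r < 48 ∧ evComm r 39 = true ∧ evComm r 45 = true :=
      fun r hr => ⟨hr.1, ((hcomm r hr.1).2).resolve_left (by rw [hr.2]; decide)⟩
    rw [P6_fV]
    exact Commute.mul_right (cent_list (by decide) (fun r hr => ⟨(hev r hr).1, (hev r hr).2.1⟩) (hM ▸ hy) a)
      (cent_list (by decide) (fun r hr => ⟨(hev r hr).1, (hev r hr).2.2⟩) (hM ▸ hy) b)
  rw [← P6_fV]
  refine le_antisymm ?_ fun y hy => ⟨mem_inter_group (hM ▸ hy),
    Subgroup.mem_centralizer_singleton_iff.2 (hx y hy 1 1).eq⟩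
  rintro y ⟨hy, hyc⟩
  have hyx : Commute y (P6 (fV (1 : F) 1)) := Subgroup.mem_centralizer_singleton_iff.1 hyc
  have hin : ∀ r, r < 48 → inV r = true → ∀ t : F, X r t ∈ M := fun r h1 h2 t =>
    hM ▸ xg_mem_genS hg (S := {r | r < 48 ∧ inV r = true}) ⟨h1, h2⟩ t
  have hsimp : ∀ j, (j = 0 ∨ j = 3) → ∀ a : F, X (T.smp j) a ∈ M ∧ X (T.neg (T.smp j)) a ∈ M := by
    rintro j (rfl | rfl) a
    · exact ⟨hin _ (hg.smp_lt (by decide)) hs0 a, hin _ (neg_lt (hg.smp_lt (by decide))) hn0 a⟩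
    · exact ⟨hin _ (hg.smp_lt (by decide)) hs3 a, hin _ (neg_lt (hg.smp_lt (by decide))) hn3 a⟩
  obtain ⟨b, hb, _, -, L, hL, ⟨c, rfl⟩, u, hu, rfl⟩ := bruhat_exists gA hy
  obtain ⟨u', hu', c', rfl⟩ := (mem_borel_iff hg).1 hb
  have e0 : u' * tor T F c' * (tor T F c * nWd hg F L) * u = u' * (tor T F (c' * c) * nWd hg F L) * u := by
    rw [map_mul]; group
  rw [e0] at hyx ⊢
  obtain ⟨f, hf, hf39, hf45⟩ := conj_pos (uMinus_le_pos hg L hu) (fV (1 : F) 1)
  obtain ⟨g, hg', hg39, hg45⟩ := conj_pos (inv_mem hu') (fV (1 : F) 1)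
  rw [inv_inv] at hg'
  have hmid : (tor T F (c' * c) * nWd hg F L) * P6 f * (tor T F (c' * c) * nWd hg F L)⁻¹ = P6 g := by
    rw [← hf, ← hg']
    calc _ = u'⁻¹ * ((u' * (tor T F (c' * c) * nWd hg F L) * u) * P6 (fV (1 : F) 1)) *
          (u' * (tor T F (c' * c) * nWd hg F L) * u)⁻¹ * u' := by group
      _ = _ := by rw [hyx.eq]; group
  have h39 : fV (1 : F) 1 39 = 1 := by simp [fV]
  have h45 : fV (1 : F) 1 45 = 1 := by simp [fV]
  rw [h39] at hf39 hg39
  rw [h45] at hf45 hg45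
  have hfix : ∀ R ∈ [39, 45], T.rw' L R = R := by
    obtain ⟨hs, hs'⟩ := mono_supp hL (c' * c) hmid
    obtain ⟨hc6, -⟩ := hs 39 (by decide) (by rw [hf39]; exact one_ne_zero)
    obtain ⟨hd6, -⟩ := hs 45 (by decide) (by rw [hf45]; exact one_ne_zero)
    obtain ⟨a, ha, ea, -⟩ := hs' 39 (by decide) (by rw [hg39]; exact one_ne_zero)
    obtain ⟨b, hb', eb, -⟩ := hs' 45 (by decide) (by rw [hg45]; exact one_ne_zero)
    have h := v_cand
    simp only [List.all_eq_true] at h
    have h' := h a ha b hb' _ hc6 _ hd6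
    simp only [Bool.or_eq_true, Bool.not_eq_true', Bool.and_eq_true, nat_beq] at h'
    rcases h' with h' | ⟨h1, h2⟩
    · exfalso
      obtain ⟨hl, hp⟩ := rw'_inv hL (r := 39) (by decide)
      obtain ⟨hl', hp'⟩ := rw'_inv hL (r := 45) (by decide)
      have q1 := hp (s := 45) (by decide)
      have q2 := hp' (s := 39) (by decide)
      have q3 := hp (s := a) (A6_bounds ha).2
      have q4 := hp (s := b) (A6_bounds hb').2
      have q5 := hp' (s := a) (A6_bounds ha).2
      have q6 := hp' (s := b) (A6_bounds hb').2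
      rw [ea] at q3 q5
      rw [eb] at q4 q6
      simp [q1, q2, q3, q4, q5, q6, hl, hl'] at h'
    · intro R hR
      simp only [List.mem_cons, List.not_mem_nil, or_false] at hR
      rcases hR with rfl | rfl
      · exact h1
      · exact h2
  have huM : u ∈ M := by
    refine (genS_le hg (K := M) ?_) hu
    rintro r ⟨h1, h2, h3⟩ t
    refine hin r h2 ?_ t
    have hx : r ∉ [25, 26, 27, 34] := stab_roots hstab hL hfix h2 h3
    rw [inV, Bool.or_eq_true, Bool.and_eq_true, nat_ble, Bool.not_eq_true']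
    exact Or.inl ⟨h1, by simpa using hx⟩
  obtain ⟨d, z, hz, he⟩ := stab_word hstab M (fun j hj _ a => hsimp j (by simpa using hj) a) _ L le_rfl hL hfix
  rw [he, ← mul_assoc (tor T F _), ← map_mul] at hyx ⊢
  obtain ⟨e, hed⟩ : ∃ e, e = c' * c * d := ⟨_, rfl⟩
  rw [← hed] at hyx ⊢
  have hte : Commute (u' * tor T F e) (P6 (fV (1 : F) 1)) := by
    have h := (hyx.mul_left (hx _ huM 1 1).inv_left).mul_left (hx _ hz 1 1).inv_left
    rwa [show u' * (tor T F e * z) * u * u⁻¹ * z⁻¹ = u' * tor T F e by group] at h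
  obtain ⟨g₁, hg₁, h139, h145⟩ := conj_pos hu' (fV (wt T F e 39 : F) (wt T F e 45))
  have hg₁' : P6 g₁ = P6 (fV (1 : F) 1) := by
    rw [← hg₁]
    calc _ = (u' * tor T F e) * P6 (fV (1 : F) 1) * (u' * tor T F e)⁻¹ := by
          rw [P6_fV, P6_fV]
          calc _ = u' * ((tor T F e * X 39 (1 : F) * (tor T F e)⁻¹) *
              (tor T F e * X 45 (1 : F) * (tor T F e)⁻¹)) * u'⁻¹ := by
                rw [tor_xg hg e (s := 39) (by decide), tor_xg hg e (s := 45) (by decide), mul_one, mul_one]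
            _ = _ := by group
      _ = _ := by rw [hte.eq, mul_inv_cancel_right]
  have k39 := h139.symm.trans (P6_inj hg₁' (r := 39) (by decide))
  have k45 := h145.symm.trans (P6_inj hg₁' (r := 45) (by decide))
  simp [fV, Pi.single_apply, Units.val_eq_one] at k39 k45
  refine mul_mem (mul_mem ?_ (mul_mem ?_ hz)) huM
  swap
  · simp [wt_eq, show T.A 0 39 = 0 by decide +kernel, show T.A 1 39 = -1 by decide +kernel,
      show T.A 2 39 = 1 by decide +kernel, show T.A 3 39 = 0 by decide +kernel] at k39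
    simp [wt_eq, show T.A 0 45 = 0 by decide +kernel, show T.A 1 45 = 2 by decide +kernel,
      show T.A 2 45 = -1 by decide +kernel, show T.A 3 45 = 0 by decide +kernel] at k45
    have e21 : e 2 = e 1 := by rwa [inv_mul_eq_one, eq_comm] at k39
    have e1 : e 1 = 1 := by
      rw [e21, pow_two, mul_inv_cancel_right] at k45
      exact k45
    refine tor_mem e fun j hj => ?_
    interval_cases j
    · exact Or.inr (hsimp 0 (Or.inl rfl))
    · exact Or.inl e1
    · exact Or.inl (e21.trans e1)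
    · exact Or.inr (hsimp 3 (Or.inr rfl))
  · -- the unipotent part
    have htor : Commute (tor T F e) (P6 (fV (1 : F) 1)) := by
      show _ = _
      refine mul_inv_eq_iff_eq_mul.1 ?_
      rw [P6_fV]
      calc tor T F e * (X 39 (1 : F) * X 45 1) * (tor T F e)⁻¹
          = (tor T F e * X 39 (1 : F) * (tor T F e)⁻¹) * (tor T F e * X 45 (1 : F) * (tor T F e)⁻¹) := by group
        _ = _ := by
          rw [tor_xg hg e (s := 39) (by decide), tor_xg hg e (s := 45) (by decide), mul_one, mul_one, k39, k45]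
          simp
    have hc : Commute u' (P6 (fV (1 : F) 1)) := by
      have h := hte.mul_left htor.inv_left
      rwa [mul_inv_cancel_right] at h
    exact cent_pos hin (fun y hy => hx y hy 1 1) hu' hc

end Cfsg.Agent.ChevAut.F4Inv
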