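/-
Char 2 commutator formulas in the unipotent group of type G2, and the Weyl group images.
-/
import Cfsg.Agent.Lib.Lie.TabG2
import Cfsg.Agent.Lib.Lie.ChevSylow
import Cfsg.Agent.Lib.Lie.TwGraph
import Cfsg.Agent.Lib.Lie.TwCount

set_option autoImplicit false
set_option maxRecDepth 8000

namespace Cfsg.Agent.ChevAut.G2Inv

open Cfsg.Lie Cfsg.Agent.Chev Cfsg.Agent.Chev.Tab

/-- The table. -/
abbrev T : Tab := G2Data.tab

theorem gA : T.GoodA := ⟨G2Data.good, by decide +kernel⟩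

variable {F : Type*} [Field F]

/-- Root elements. -/
noncomputable abbrev X (r : ℕ) (t : F) : GL T.D.Idx F := xg gA.toGood r t

variable (F) in
/-- The terms of the lower central series. -/
noncomputable abbrev W (k : ℕ) : Subgroup (GL T.D.Idx F) := genS gA.toGood F (Set.Ico k T.n)

theorem X_mem {r k : ℕ} (h : k ≤ r) (hr : r < 12) (t : F) : X r t ∈ W F k :=
  xg_mem_genS gA.toGood (show r ∈ Set.Ico k T.n from ⟨h, hr⟩) t

theorem W_mono {j k : ℕ} (h : j ≤ k) : W F k ≤ W F j :=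
  genS_mono gA.toGood fun _ hr => ⟨h.trans hr.1, hr.2⟩

theorem X_add (r : ℕ) (s t : F) : X r s * X r t = X r (s + t) := xg_add _ _ _ _

theorem X_zero (r : ℕ) : X r (0 : F) = 1 := xg_zero _ _

theorem X_comm {r s : ℕ} (hr : r < 12) (hs : s < 12) (h : T.cTerms r s = []) (hrs : s ≠ T.neg r)
    (t u : F) : Commute (X r t) (X s u) := by
  by_cases e : s = r
  · subst e; show _ = _; rw [X_add, X_add, add_comm]
  · exact xg_commute gA hr hs e hrs h t u

theorem norm_W {r k : ℕ} (hk : 6 ≤ k) (hr : r < 12) (hr6 : 6 ≤ r) (t : F) {y : GL T.D.Idx F}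
    (hy : y ∈ W F k) : X r t * y * (X r t)⁻¹ ∈ W F k :=
  (Subgroup.mem_normalizer_iff.1 (xg_normalizes_Ico gA hk hr hr6 t) y).1 hy

theorem W_coord {k : ℕ} (hk : 6 ≤ k) (hk' : k < 12) {y : GL T.D.Idx F} (hy : y ∈ W F k) :
    ∃ t : F, ∃ z ∈ W F (k + 1), y = X k t * z := exists_split gA hk hy

theorem W_twelve {y : GL T.D.Idx F} (hy : y ∈ W F 12) : y = 1 :=
  genS_induction gA.toGood (p := fun x => x = 1) rfl
    (fun r hr => absurd hr.2 (by have := hr.1; change ¬ r < 12; omega)) hy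

theorem X_coeff {k : ℕ} (hk : 6 ≤ k) (hk' : k < 12) {t : F} (h : X k t ∈ W F (k + 1)) : t = 0 :=
  lowest_coeff gA.toGood hk hk' h

variable [CharP F 2]

theorem X_inv (r : ℕ) (t : F) : (X r t)⁻¹ = X r t := by rw [xg_inv, CharTwo.neg_eq]

theorem sq_X (r : ℕ) (t : F) : X r t * X r t = 1 := by rw [X_add, CharTwo.add_self_eq_zero, X_zero]

theorem two_zero : (2 : F) = 0 := CharTwo.two_eq_zero

theorem three_one : (3 : F) = 1 := by
  rw [show (3 : F) = 2 + 1 by norm_num, two_zero, zero_add]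

theorem c67 (s t : F) : X 7 s * X 6 t = X 6 t * X 7 s * X 8 (t * s) * X 9 (t * s ^ 2) * X 10 (t * s ^ 3) := by
  have h := xg_comm gA (r := 6) (s := 7) (by decide) (by decide) (by decide) (by decide) t s
  rw [show cVal T F 6 7 t s = [(8, (1 : F) * (-t) ^ 1 * s ^ 1), (9, (1 : F) * (-t) ^ 1 * s ^ 2),
    (10, (-1 : F) * (-t) ^ 1 * s ^ 3), (11, (-2 : F) * (-t) ^ 2 * s ^ 3)] by
    rw [cVal, show T.cTerms 6 7 = [(8, 1, 1, 1), (9, 1, 1, 2), (10, -1, 1, 3), (11, -2, 2, 3)] by decide +kernel]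
    simp] at h
  simpa [CharTwo.neg_eq, two_zero, X_zero, mul_assoc] using h

theorem c78 (s t : F) : X 8 s * X 7 t = X 7 t * X 8 s * X 10 (t ^ 2 * s) * X 11 (t * s ^ 2) := by
  have h := xg_comm gA (r := 7) (s := 8) (by decide) (by decide) (by decide) (by decide) t s
  rw [show cVal T F 7 8 t s = [(9, (-2 : F) * (-t) ^ 1 * s ^ 1), (10, (-3 : F) * (-t) ^ 2 * s ^ 1),
    (11, (3 : F) * (-t) ^ 1 * s ^ 2)] by
    rw [cVal, show T.cTerms 7 8 = [(9, -2, 1, 1), (10, -3, 2, 1), (11, 3, 1, 2)] by decide +kernel]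
    simp] at h
  simpa [CharTwo.neg_eq, two_zero, three_one, X_zero, mul_assoc] using h

theorem c79 (s t : F) : X 9 s * X 7 t = X 7 t * X 9 s * X 10 (t * s) := by
  have h := xg_comm gA (r := 7) (s := 9) (by decide) (by decide) (by decide) (by decide) t s
  rw [show cVal T F 7 9 t s = [(10, (3 : F) * (-t) ^ 1 * s ^ 1)] by
    rw [cVal, show T.cTerms 7 9 = [(10, 3, 1, 1)] by decide +kernel]
    simp] at h
  simpa [CharTwo.neg_eq, three_one, mul_assoc] using h

theorem c89 (s t : F) : X 9 s * X 8 t = X 8 t * X 9 s * X 11 (t * s) := by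
  have h := xg_comm gA (r := 8) (s := 9) (by decide) (by decide) (by decide) (by decide) t s
  rw [show cVal T F 8 9 t s = [(11, (3 : F) * (-t) ^ 1 * s ^ 1)] by
    rw [cVal, show T.cTerms 8 9 = [(11, 3, 1, 1)] by decide +kernel]
    simp] at h
  simpa [CharTwo.neg_eq, three_one, mul_assoc] using h

theorem c6a (s t : F) : X 10 s * X 6 t = X 6 t * X 10 s * X 11 (t * s) := by
  have h := xg_comm gA (r := 6) (s := 10) (by decide) (by decide) (by decide) (by decide) t s
  rw [show cVal T F 6 10 t s = [(11, (1 : F) * (-t) ^ 1 * s ^ 1)] by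
    rw [cVal, show T.cTerms 6 10 = [(11, 1, 1, 1)] by decide +kernel]
    simp] at h
  simpa [CharTwo.neg_eq, mul_assoc] using h

/-- The twelve elements of the Weyl group. -/
def words : List (List ℕ) :=
  [[], [0], [1], [0, 1], [1, 0], [0, 1, 0], [1, 0, 1], [0, 1, 0, 1], [1, 0, 1, 0], [0, 1, 0, 1, 0],
    [1, 0, 1, 0, 1], [0, 1, 0, 1, 0, 1]]

theorem words_closed : ∀ A ∈ words, ∀ i < 2, ∃ B ∈ words, ∀ s < 12, T.rw' (A ++ [i]) s = T.rw' B s := by
  decide +kernel

theorem exists_word : ∀ {L : List ℕ}, T.Wd L → ∃ B ∈ words, ∀ s < 12, T.rw' L s = T.rw' B s := by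
  intro L
  induction L using List.reverseRecOn with
  | nil => exact fun _ => ⟨[], by decide, fun _ _ => rfl⟩
  | append_singleton L i ih =>
    intro hL
    obtain ⟨hL', hi⟩ := Wd.append_iff.1 hL
    obtain ⟨A, hA, e⟩ := ih hL'
    obtain ⟨B, hB, e'⟩ := words_closed A hA i (hi i List.mem_cons_self)
    refine ⟨B, hB, fun s hs => ?_⟩
    rw [← e' s hs, rw'_append, rw'_append]
    exact e _ (rw'_lt gA.toGood (L := [i]) hi hs)

end Cfsg.Agent.ChevAut.G2Inv
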