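/-
The centraliser of a short root involution of G2 in characteristic two.
-/
import Cfsg.Agent.Lib.ChevAut.G2InvBase

set_option autoImplicit false
set_option maxRecDepth 8000

namespace Cfsg.Agent.ChevAut.G2Inv

open Cfsg.Lie Cfsg.Agent.Chev Cfsg.Agent.Chev.Tab

variable {F : Type*} [Field F]

/-- A product in the abelian group of the three last roots. -/
noncomputable def sp (a b c : F) : GL T.D.Idx F := X 9 a * X 10 b * X 11 c

theorem sp_add (a b c a' b' c' : F) : sp a b c * sp a' b' c' = sp (a + a') (b + b') (c + c') := by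
  have h1 : Commute (X 10 b) (X 9 a') := X_comm (by decide) (by decide) (by decide +kernel) (by decide) _ _
  have h2 : Commute (X 11 c) (X 9 a') := X_comm (by decide) (by decide) (by decide +kernel) (by decide) _ _
  have h3 : Commute (X 11 c) (X 10 b') := X_comm (by decide) (by decide) (by decide +kernel) (by decide) _ _
  calc sp a b c * sp a' b' c' = X 9 a * (X 10 b * (X 11 c * X 9 a')) * X 10 b' * X 11 c' := by
        simp only [sp, mul_assoc]
    _ = X 9 a * ((X 10 b * X 9 a') * X 11 c) * X 10 b' * X 11 c' := by rw [h2.eq, mul_assoc (X 10 b)]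
    _ = X 9 a * X 9 a' * (X 10 b * (X 11 c * X 10 b')) * X 11 c' := by rw [h1.eq]; simp only [mul_assoc]
    _ = (X 9 a * X 9 a') * (X 10 b * X 10 b') * (X 11 c * X 11 c') := by rw [h3.eq]; simp only [mul_assoc]
    _ = _ := by rw [X_add, X_add, X_add]; rfl

theorem sp_eq_one {a b c : F} (h : sp a b c = 1) : a = 0 ∧ b = 0 ∧ c = 0 := by
  have h10 : X 10 b * X 11 c ∈ W F 10 := mul_mem (X_mem le_rfl (by decide) _) (X_mem (by decide) (by decide) _)
  have ha : a = 0 := by
    refine X_coeff (k := 9) (by decide) (by decide) ?_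
    rw [show X 9 a = (X 10 b * X 11 c)⁻¹ from eq_inv_of_mul_eq_one_left (by rw [← h, sp, mul_assoc])]
    exact inv_mem h10
  subst ha
  rw [sp, X_zero, one_mul] at h
  have hb : b = 0 := by
    refine X_coeff (k := 10) (by decide) (by decide) ?_
    rw [eq_inv_of_mul_eq_one_left h]
    exact inv_mem (X_mem le_rfl (by decide) _)
  subst hb
  rw [X_zero, one_mul] at h
  exact ⟨rfl, rfl, xg_injective gA.toGood (show 11 < T.n by decide) (h.trans (X_zero 11).symm)⟩

theorem long_zero {p : F} (hp : X 6 p ∈ W F 7) : p = 0 := X_coeff le_rfl (by decide) hp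

variable [CharP F 2]

/-- Conjugating the short root involution inside `U`. -/
theorem conj_short {α : F} {y : GL T.D.Idx F} (hy : y ∈ W F 6) :
    y * X 9 α * y⁻¹ * X 9 α ∈ W F 10 := by
  refine genS_induction gA.toGood (p := fun y => y * X 9 α * y⁻¹ * X 9 α ∈ W F 10) ?_ ?_ hy
  · simp [sq_X]
  rintro r hr s y hy
  have hy' : y * X 9 α * y⁻¹ = (y * X 9 α * y⁻¹ * X 9 α) * X 9 α := by
    rw [mul_assoc _ (X 9 α) (X 9 α), sq_X, mul_one]
  have e : X r s * y * X 9 α * (X r s * y)⁻¹ * X 9 α =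
      X r s * (y * X 9 α * y⁻¹ * X 9 α) * (X r s)⁻¹ * (X r s * X 9 α * (X r s)⁻¹ * X 9 α) := by
    conv_lhs => rw [show X r s * y * X 9 α * (X r s * y)⁻¹ = X r s * (y * X 9 α * y⁻¹) * (X r s)⁻¹ by group, hy']
    group
  rw [e]
  refine mul_mem (norm_W (by decide) hr.2 hr.1 s hy) ?_
  have h6 : 6 ≤ r := hr.1
  have h12 : r < 12 := hr.2
  by_cases hc : r = 7 ∨ r = 8
  · rcases hc with rfl | rfl
    · rw [show X 7 s * X 9 α * (X 7 s)⁻¹ * X 9 α = X 10 (s * α) by
        have h := c79 α s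
        have h' : X 7 s * X 9 α = X 9 α * X 7 s * X 10 (s * α) := by
          rw [h, mul_assoc, sq_X, mul_one]
        rw [h', mul_assoc _ (X 10 _), (X_comm (r := 10) (s := 7) (by decide) (by decide) (by decide +kernel)
          (by decide) _ s).inv_right.eq, ← mul_assoc, mul_inv_cancel_right,
          mul_assoc, (X_comm (r := 10) (s := 9) (by decide) (by decide) (by decide +kernel) (by decide) _ α).eq,
          ← mul_assoc, sq_X, one_mul]]
      exact X_mem le_rfl (by decide) _
    · rw [show X 8 s * X 9 α * (X 8 s)⁻¹ * X 9 α = X 11 (s * α) by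
        have h := c89 α s
        have h' : X 8 s * X 9 α = X 9 α * X 8 s * X 11 (s * α) := by
          rw [h, mul_assoc, sq_X, mul_one]
        rw [h', mul_assoc _ (X 11 _), (X_comm (r := 11) (s := 8) (by decide) (by decide) (by decide +kernel)
          (by decide) _ s).inv_right.eq, ← mul_assoc, mul_inv_cancel_right,
          mul_assoc, (X_comm (r := 11) (s := 9) (by decide) (by decide) (by decide +kernel) (by decide) _ α).eq,
          ← mul_assoc, sq_X, one_mul]]
      exact X_mem (by decide) (by decide) _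
  · have hcm : Commute (X r s) (X 9 α) := by
      interval_cases r <;> first
        | exact absurd hc (by decide)
        | exact X_comm (by decide) (by decide) (by decide +kernel) (by decide) _ _
    rw [hcm.eq, mul_inv_cancel_right, sq_X]
    exact one_mem _

/-- An element `x₉(α) W₁₀` has the form `sp α b c`. -/
theorem exists_sp {α : F} {y : GL T.D.Idx F} (hy : y * X 9 α ∈ W F 10) : ∃ b c, y = sp α b c := by
  obtain ⟨b, z, hz, e⟩ := W_coord (k := 10) (by decide) (by decide) hy
  obtain ⟨c, z', hz', rfl⟩ := W_coord (k := 11) (by decide) (by decide) hz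
  rw [W_twelve hz', mul_one] at e
  refine ⟨b, c, ?_⟩
  calc y = y * X 9 α * X 9 α := by rw [mul_assoc, sq_X, mul_one]
    _ = X 10 b * (X 11 c * X 9 α) := by rw [e, mul_assoc]
    _ = X 10 b * X 9 α * X 11 c := by
      rw [(X_comm (r := 11) (s := 9) (by decide) (by decide) (by decide +kernel) (by decide) c α).eq, mul_assoc]
    _ = sp α b c := by
      rw [(X_comm (r := 10) (s := 9) (by decide) (by decide) (by decide +kernel) (by decide) b α).eq]; rfl

/-- A monomial element taking a short root element into the class `x₉ W₁₀` fixes the root. -/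
theorem mono_fix {L : List ℕ} (hL : T.Wd L) (c : ℕ → Fˣ) {α b e : F} (hα : α ≠ 0)
    (h : (tor T F c * nWd gA.toGood F L) * sp α b e * (tor T F c * nWd gA.toGood F L)⁻¹ ∈ W F 9) :
    T.rw' L 9 = 9 := by
  obtain ⟨m, hm⟩ : ∃ m, m = tor T F c * nWd gA.toGood F L := ⟨_, rfl⟩
  rw [← hm] at h
  have himg : ∀ r < 12, ∀ t : F, ∃ v : F, m * X r t * m⁻¹ = X (T.rw' L r) v ∧ (t ≠ 0 → v ≠ 0) := by
    intro r hr t
    obtain ⟨v, hv⟩ := mono_conj (F := F) gA.toGood hL c (s := r) hr
    exact ⟨(v : F) * t, hm ▸ hv t, fun ht => mul_ne_zero v.ne_zero ht⟩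
  have hconj : ∀ x y z : F, m * sp x y z * m⁻¹ =
      (m * X 9 x * m⁻¹) * (m * X 10 y * m⁻¹) * (m * X 11 z * m⁻¹) := fun x y z => by
    rw [sp]; group
  -- the part sent to negative roots is trivial
  obtain ⟨P, hP⟩ : ∃ P : ℕ → Prop, P = fun r => T.rw' L r < T.N := ⟨_, rfl⟩
  classical
  obtain ⟨sN, hsN⟩ : ∃ s, s = sp (if P 9 then α else 0) (if P 10 then b else 0) (if P 11 then e else 0) := ⟨_, rfl⟩
  obtain ⟨sP, hsP⟩ : ∃ s, s = sp (if P 9 then 0 else α) (if P 10 then 0 else b) (if P 11 then 0 else e) := ⟨_, rfl⟩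
  have hsplit : sp α b e = sN * sP := by
    rw [hsN, hsP, sp_add]
    split_ifs <;> simp
  have hU : ∀ (r : ℕ), r < 12 → ¬ P r → ∀ t : F, m * X r t * m⁻¹ ∈ W F 6 := by
    intro r hr hp t
    obtain ⟨v, hv, -⟩ := himg r hr t
    rw [hv]
    rw [hP] at hp
    exact X_mem (Nat.le_of_not_lt hp) (rw'_lt gA.toGood hL hr) _
  have hPmem : m * sP * m⁻¹ ∈ W F 6 := by
    rw [hsP, hconj]
    refine mul_mem (mul_mem ?_ ?_) ?_ <;> split_ifs with hp <;>
      first
      | (rw [X_zero, mul_one, mul_inv_cancel]; exact one_mem _)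
      | exact hU _ (by decide) hp _
  have hNmem : m * sN * m⁻¹ ∈ genS gA.toGood F (Set.Iio T.N) := by
    have hneg : ∀ (r : ℕ), r < 12 → P r → ∀ t : F, m * X r t * m⁻¹ ∈ genS gA.toGood F (Set.Iio T.N) := by
      intro r hr hp t
      obtain ⟨v, hv, -⟩ := himg r hr t
      rw [hv]
      rw [hP] at hp
      exact xg_mem_genS gA.toGood (S := Set.Iio T.N) hp _
    rw [hsN, hconj]
    refine mul_mem (mul_mem ?_ ?_) ?_ <;> split_ifs with hp <;>
      first
      | (rw [X_zero, mul_one, mul_inv_cancel]; exact one_mem _)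
      | exact hneg _ (by decide) hp _
  have hN1 : sN = 1 := by
    have h6 : m * sN * m⁻¹ ∈ W F 6 := by
      have e1 : m * sN * m⁻¹ = (m * sp α b e * m⁻¹) * (m * sP * m⁻¹)⁻¹ := by rw [hsplit]; group
      rw [e1]
      exact mul_mem (W_mono (by decide) h) (inv_mem hPmem)
    have := borel_inf_neg gA.toGood (genS_pos_le_borel gA.toGood (fun _ h => h) h6) hNmem
    rwa [conj_eq_one_iff] at this
  obtain ⟨n9, n10, n11⟩ := sp_eq_one (hsN.symm.trans hN1)
  have hp9 : ¬ P 9 := fun hp => hα (by rwa [if_pos hp] at n9)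
  simp only [hP] at hp9 n10 n11
  obtain ⟨B, hB, eB⟩ := exists_word hL
  have htab : ∀ B ∈ words, ¬ T.rw' B 9 < T.N → T.rw' B 9 = 9 ∨
      (T.rw' B 9, T.rw' B 10, T.rw' B 11) ∈ [(8, 6, 11), (8, 11, 6), (7, 5, 10), (7, 10, 5)] := by
    decide +kernel
  rw [eB 9 (by decide)] at hp9 ⊢
  refine (htab B hB hp9).resolve_right fun hmem => ?_
  rw [← eB 9 (by decide), ← eB 10 (by decide), ← eB 11 (by decide)] at hmem
  obtain ⟨v, hv, hv0⟩ := himg 9 (by decide) α
  obtain ⟨p, hp, -⟩ := himg 10 (by decide) b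
  obtain ⟨q, hq, -⟩ := himg 11 (by decide) e
  rw [hconj] at h
  simp only [List.mem_cons, List.not_mem_nil, or_false, Prod.mk.injEq] at hmem
  refine hv0 hα ?_
  rcases hmem with ⟨e9, e10, e11⟩ | ⟨e9, e10, e11⟩ | ⟨e9, e10, e11⟩ | ⟨e9, e10, e11⟩
  · rw [hv, hp, hq, e9, e10, e11,
      (X_comm (r := 8) (s := 6) (by decide) (by decide) (by decide +kernel) (by decide) v p).eq] at h
    have h6 : p = 0 := long_zero (by
      rw [show X 6 p = X 6 p * X 8 v * X 11 q * (X 8 v * X 11 q)⁻¹ by group]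
      exact mul_mem (W_mono (by decide) h)
        (inv_mem (mul_mem (X_mem (by decide) (by decide) _) (X_mem (by decide) (by decide) _))))
    rw [h6, X_zero, one_mul] at h
    refine X_coeff (k := 8) (by decide) (by decide) ?_
    rw [show X 8 v = X 8 v * X 11 q * (X 11 q)⁻¹ by group]
    exact mul_mem h (inv_mem (X_mem (by decide) (by decide) _))
  · rw [hv, hp, hq, e9, e10, e11, mul_assoc,
      (X_comm (r := 11) (s := 6) (by decide) (by decide) (by decide +kernel) (by decide) p q).eq,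
      ← mul_assoc,
      (X_comm (r := 8) (s := 6) (by decide) (by decide) (by decide +kernel) (by decide) v q).eq] at h
    have h6 : q = 0 := long_zero (by
      rw [show X 6 q = X 6 q * X 8 v * X 11 p * (X 8 v * X 11 p)⁻¹ by group]
      exact mul_mem (W_mono (by decide) h)
        (inv_mem (mul_mem (X_mem (by decide) (by decide) _) (X_mem (by decide) (by decide) _))))
    rw [h6, X_zero, one_mul] at h
    refine X_coeff (k := 8) (by decide) (by decide) ?_
    rw [show X 8 v = X 8 v * X 11 p * (X 11 p)⁻¹ by group]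
    exact mul_mem h (inv_mem (X_mem (by decide) (by decide) _))
  · have hb : b = 0 := by rwa [if_pos (show T.rw' L 10 < T.N by rw [e10]; decide)] at n10
    rw [hb, X_zero, mul_one, mul_inv_cancel, mul_one, hv, hq, e9, e11] at h
    refine X_coeff (k := 7) (by decide) (by decide) ?_
    rw [show X 7 v = X 7 v * X 10 q * (X 10 q)⁻¹ by group]
    exact mul_mem (W_mono (by decide) h) (inv_mem (X_mem (by decide) (by decide) _))
  · have he : e = 0 := by rwa [if_pos (show T.rw' L 11 < T.N by rw [e11]; decide)] at n11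
    rw [he, X_zero, mul_one, mul_inv_cancel, mul_one, hv, hp, e9, e10] at h
    refine X_coeff (k := 7) (by decide) (by decide) ?_
    rw [show X 7 v = X 7 v * X 10 p * (X 10 p)⁻¹ by group]
    exact mul_mem (W_mono (by decide) h) (inv_mem (X_mem (by decide) (by decide) _))

/-- The monomial elements fixing the root. -/
theorem stab_word {L : List ℕ} (hL : T.Wd L) (h : T.rw' L 9 = 9) {u : GL T.D.Idx F}
    (hu : u ∈ uMinus gA.toGood F L) :
    ∃ d, ∃ y ∈ genS gA.toGood F ({5, 6, 9, 10, 11} : Set ℕ), nWd gA.toGood F L * u = tor T F d * y := by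
  obtain ⟨B, hB, eB⟩ := exists_word hL
  have htab : ∀ B ∈ words, T.rw' B 9 = 9 → B = [] ∨ B = [1] := by decide +kernel
  have hB' := htab B hB (by rw [← eB 9 (by decide)]; exact h)
  have hu6 : u ∈ genS gA.toGood F ({5, 6, 9, 10, 11} : Set ℕ) := by
    refine genS_mono gA.toGood ?_ hu
    rintro r ⟨h1, h2, h3⟩
    rw [eB r h2] at h3
    have : ∀ r < 12, ∀ B ∈ [([] : List ℕ), [1]], 6 ≤ r → T.rw' B r < 6 → r = 6 := by decide +kernel
    exact Or.inr (Or.inl (this r h2 B (by simpa using hB') h1 h3))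
  rcases hB' with rfl | rfl
  · obtain ⟨⟨d, hd⟩, -⟩ := nWd_torus_of_pos (F := F) gA.toGood L.length le_rfl hL fun s h1 h2 => by
      rw [eB s h2, rw'_nil]; exact h1
    exact ⟨d, u, hu6, by rw [hd]⟩
  · have hL1 : T.Wd (L ++ [1]) := Wd.append_iff.2 ⟨hL, fun i hi => by
      simp only [List.mem_singleton] at hi; subst hi; decide⟩
    obtain ⟨⟨d, hd⟩, -⟩ := nWd_torus_of_pos (F := F) gA.toGood (L ++ [1]).length le_rfl hL1 fun s h1 h2 => by
      have h11 : T.Wd [1] := fun i hi => by simp only [List.mem_singleton] at hi; subst hi; decide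
      rw [rw'_append, eB _ (rw'_lt gA.toGood h11 h2)]
      have : ∀ s < 12, T.rw' [1] (T.rw' [1] s) = s := by decide +kernel
      rw [this s h2]
      exact h1
    rw [nWd_snoc, ← eq_mul_inv_iff_mul_eq] at hd
    refine ⟨d, (nG gA.toGood F 1)⁻¹ * u, mul_mem (inv_mem ?_) hu6, by rw [hd, mul_assoc]⟩
    have h6 : ∀ t : F, X 6 t ∈ genS gA.toGood F ({5, 6, 9, 10, 11} : Set ℕ) := fun t =>
      xg_mem_genS gA.toGood (S := ({5, 6, 9, 10, 11} : Set ℕ)) (by simp) t
    exact mul_mem (mul_mem (h6 1) (xg_mem_genS gA.toGood (S := ({5, 6, 9, 10, 11} : Set ℕ)) (r := 5) (by simp) _)) (h6 1)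

/-- The centraliser of the short root involution. -/
theorem short_centralizer [Finite F] :
    T.D.group F ⊓ Subgroup.centralizer {X 9 (1 : F)} = genS gA.toGood F ({5, 6, 9, 10, 11} : Set ℕ) := by
  obtain ⟨M, hM⟩ : ∃ M, M = genS gA.toGood F ({5, 6, 9, 10, 11} : Set ℕ) := ⟨_, rfl⟩
  rw [← hM]
  have hMc : ∀ m ∈ M, Commute m (X 9 (1 : F)) := by
    intro m hm
    refine genS_induction gA.toGood (p := fun m => Commute m (X 9 (1 : F))) (Commute.one_left _) ?_ (hM ▸ hm)
    rintro r hr a y hy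
    refine Commute.mul_left ?_ hy
    simp only [Set.mem_insert_iff, Set.mem_singleton_iff] at hr
    rcases hr with rfl | rfl | rfl | rfl | rfl <;>
      exact X_comm (by decide) (by decide) (by decide +kernel) (by decide) _ _
  have hin : ∀ r ∈ ({5, 6, 9, 10, 11} : Set ℕ), ∀ t : F, X r t ∈ M := fun r hr t =>
    hM ▸ xg_mem_genS gA.toGood hr t
  refine le_antisymm ?_ fun y hy => ⟨genS_le gA.toGood (fun r _ t => xg_mem_group _ r t) (hM ▸ hy),
    Subgroup.mem_centralizer_singleton_iff.2 (hMc y hy).eq⟩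
  rintro y ⟨hy, hyc⟩
  have hyx : Commute y (X 9 (1 : F)) := Subgroup.mem_centralizer_singleton_iff.1 hyc
  obtain ⟨b, hb, _, -, L, hL, ⟨c, rfl⟩, u, hu, rfl⟩ := bruhat_exists gA hy
  obtain ⟨u', hu', c', rfl⟩ := (mem_borel_iff gA.toGood).1 hb
  obtain ⟨b₀, e₀, hU⟩ := exists_sp (conj_short (α := (1 : F)) (uMinus_le_pos gA.toGood L hu))
  have e0 : u' * tor T F c' * (tor T F c * nWd gA.toGood F L) * u =
      u' * (tor T F (c' * c) * nWd gA.toGood F L) * u := by
    rw [map_mul]; group
  rw [e0] at hyx ⊢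
  have hfix : T.rw' L 9 = 9 := by
    refine mono_fix hL (c' * c) one_ne_zero (b := b₀) (e := e₀) ?_
    have e1 : (tor T F (c' * c) * nWd gA.toGood F L) * sp 1 b₀ e₀ * (tor T F (c' * c) * nWd gA.toGood F L)⁻¹ =
        u'⁻¹ * X 9 (1 : F) * u' := by
      have h := hyx.eq
      rw [← hU]
      calc _ = u'⁻¹ * ((u' * (tor T F (c' * c) * nWd gA.toGood F L) * u) * X 9 (1 : F)) *
            (u' * (tor T F (c' * c) * nWd gA.toGood F L) * u)⁻¹ * u' := by group
        _ = _ := by rw [h]; group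
    rw [e1]
    have h := norm_W (F := F) (k := 9) (r := 9) (by decide) (by decide) (by decide) 0 (y := 1) (one_mem _)
    have h2 := conj_short (α := (1 : F)) (inv_mem hu')
    rw [inv_inv] at h2
    rw [show u'⁻¹ * X 9 (1 : F) * u' = u'⁻¹ * X 9 (1 : F) * u' * X 9 (1 : F) * X 9 (1 : F) by
      rw [mul_assoc _ (X 9 (1 : F)) (X 9 (1 : F)), sq_X, mul_one]]
    exact mul_mem (W_mono (by decide) h2) (X_mem le_rfl (by decide) _)
  obtain ⟨d, z, hz, hd⟩ := stab_word hL hfix hu
  rw [← hM] at hz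
  have e2 : u' * (tor T F (c' * c) * nWd gA.toGood F L) * u = u' * tor T F (c' * c * d) * z := by
    calc _ = u' * tor T F (c' * c) * (nWd gA.toGood F L * u) := by group
      _ = _ := by rw [hd, map_mul (tor T F) (c' * c) d]; group
  rw [e2] at hyx ⊢
  refine mul_mem ?_ hz
  have hut : Commute (u' * tor T F (c' * c * d)) (X 9 (1 : F)) := by
    have h := hyx.mul_left (hMc z hz).inv_left
    rwa [mul_inv_cancel_right] at h
  obtain ⟨χ, hχ⟩ : ∃ χ : F, χ = (wt T F (c' * c * d) 9 : F) := ⟨_, rfl⟩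
  have htor : tor T F (c' * c * d) * X 9 (1 : F) * (tor T F (c' * c * d))⁻¹ = X 9 χ := by
    rw [tor_xg gA.toGood _ (show 9 < T.n by decide), mul_one, hχ]
  have hu9 : u' * X 9 χ * u'⁻¹ = X 9 (1 : F) := by
    rw [← htor]
    calc _ = (u' * tor T F (c' * c * d)) * X 9 (1 : F) * (u' * tor T F (c' * c * d))⁻¹ := by group
      _ = _ := by rw [hut.eq, mul_inv_cancel_right]
  have hχ1 : χ = 1 := by
    have h := conj_short (α := χ) hu'
    rw [hu9, X_add] at h
    have := X_coeff (k := 9) (by decide) (by decide) h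
    rw [CharTwo.add_eq_zero] at this
    exact this.symm
  rw [hχ1] at hu9
  refine mul_mem ?_ ?_
  · -- the unipotent part
    obtain ⟨p, z₁, hz₁, rfl⟩ := W_coord (k := 6) le_rfl (by decide) hu'
    obtain ⟨q, z₂, hz₂, rfl⟩ := W_coord (k := 7) (by decide) (by decide) hz₁
    obtain ⟨r, z₃, hz₃, rfl⟩ := W_coord (k := 8) (by decide) (by decide) hz₂
    have hz3M : z₃ ∈ M := hM ▸ genS_mono gA.toGood (fun s hs => by
      have h1 : 9 ≤ s := hs.1
      have h2 : s < 12 := hs.2
      simp only [Set.mem_insert_iff, Set.mem_singleton_iff]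
      omega) hz₃
    have h6 : X 6 p ∈ M := hin 6 (by simp) p
    have hcom : Commute (X 7 q * X 8 r) (X 9 (1 : F)) := by
      have h : Commute (X 6 p * (X 7 q * (X 8 r * z₃))) (X 9 (1 : F)) := mul_inv_eq_iff_eq_mul.1 hu9
      have h' := ((hMc _ h6).inv_left.mul_left h).mul_left (hMc _ hz3M).inv_left
      rwa [show (X 6 p)⁻¹ * (X 6 p * (X 7 q * (X 8 r * z₃))) * z₃⁻¹ = X 7 q * X 8 r by group] at h'
    have hqr : sp 1 q r = sp 1 0 0 := by
      rw [show sp 1 (0 : F) 0 = X 9 (1 : F) by simp [sp, X_zero]]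
      have h1 : X 9 (1 : F) * X 7 q = X 7 q * X 9 (1 : F) * X 10 q := by simpa using c79 (1 : F) q
      have h2 : X 9 (1 : F) * X 8 r = X 8 r * X 9 (1 : F) * X 11 r := by simpa using c89 (1 : F) r
      have h3 : Commute (X 10 q) (X 8 r) := X_comm (by decide) (by decide) (by decide +kernel) (by decide) _ _
      have h4 : X 9 (1 : F) * (X 7 q * X 8 r) = (X 7 q * X 8 r) * sp 1 q r := by
        calc X 9 (1 : F) * (X 7 q * X 8 r) = X 7 q * X 9 (1 : F) * (X 10 q * X 8 r) := by
              rw [← mul_assoc, h1]; simp only [mul_assoc]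
          _ = X 7 q * (X 9 (1 : F) * X 8 r) * X 10 q := by rw [h3.eq]; simp only [mul_assoc]
          _ = X 7 q * X 8 r * X 9 (1 : F) * (X 11 r * X 10 q) := by rw [h2]; simp only [mul_assoc]
          _ = _ := by
            rw [(X_comm (r := 11) (s := 10) (by decide) (by decide) (by decide +kernel) (by decide) r q).eq, sp]
            simp only [mul_assoc]
      exact mul_left_cancel (h4.symm.trans hcom.eq.symm)
    obtain ⟨-, hq, hr⟩ := sp_eq_one (a := (1 : F) + 1) (b := q + 0) (c := r + 0) (by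
      rw [← sp_add, hqr, sp_add, CharTwo.add_self_eq_zero, add_zero]; simp [sp, X_zero])
    rw [add_zero] at hq hr
    rw [hq, hr, X_zero, one_mul, X_zero, one_mul]
    exact mul_mem h6 hz3M
  · -- the torus part
    obtain ⟨e, he⟩ : ∃ e, e = c' * c * d := ⟨_, rfl⟩
    rw [← he] at hχ ⊢
    have h0 : e 0 = 1 := by
      have h := hχ.symm.trans hχ1
      rw [Units.val_eq_one, wt, show (T.l : ℕ) = 2 from rfl, Finset.prod_range_succ, Finset.prod_range_one,
        show T.A 0 9 = 1 by decide +kernel, show T.A 1 9 = 0 by decide +kernel, zpow_one, zpow_zero,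
        mul_one] at h
      exact h
    rw [tor_eq_prod gA.toGood, show T.l = 2 from rfl]
    simp only [List.range_succ, List.range_zero, List.nil_append, List.cons_append, List.map_cons, List.map_nil,
      List.prod_cons, List.prod_nil, mul_one, h0, hS_one, one_mul]
    have h := nE_simple (F := F) gA.toGood (show 1 < T.l by decide) (e 1)
    rw [eq_mul_inv_iff_mul_eq.2 h.symm]
    exact mul_mem (mul_mem (mul_mem (hin 6 (by simp) _) (hin 5 (by simp) _)) (hin 6 (by simp) _))
      (inv_mem (mul_mem (mul_mem (hin 6 (by simp) _) (hin 5 (by simp) _)) (hin 6 (by simp) _)))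

end Cfsg.Agent.ChevAut.G2Inv
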