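/-
The two classes of involutions of G2 in characteristic two.
-/
import Cfsg.Agent.Lib.ChevAut.G2InvCent
import Mathlib.FieldTheory.Perfect

set_option autoImplicit false
set_option maxRecDepth 8000

namespace Cfsg.Agent.ChevAut.G2Inv

open Cfsg.Lie Cfsg.Agent.Chev Cfsg.Agent.Chev.Tab

variable {F : Type*} [Field F]

/-- Conjugate to one of the two representatives. -/
def Cls (x : GL T.D.Idx F) : Prop :=
  ∃ h ∈ T.D.group F, h * x * h⁻¹ = X 11 (1 : F) ∨ h * x * h⁻¹ = X 9 (1 : F)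

theorem cls_of_conj {x g : GL T.D.Idx F} (hg : g ∈ T.D.group F) (h : Cls (g * x * g⁻¹)) : Cls x := by
  obtain ⟨k, hk, e⟩ := h
  refine ⟨k * g, mul_mem hk hg, ?_⟩
  rwa [show k * g * x * (k * g)⁻¹ = k * (g * x * g⁻¹) * k⁻¹ by group]

theorem X_group (r : ℕ) (t : F) : X r t ∈ T.D.group F := xg_mem_group gA.toGood r t

theorem nG_group (i : ℕ) : nG gA.toGood F i ∈ T.D.group F :=
  mul_mem (mul_mem (X_group _ _) (X_group _ _)) (X_group _ _)

theorem tor_group (c : ℕ → Fˣ) : tor T F c ∈ T.D.group F := by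
  rw [tor_eq_prod gA.toGood]
  refine Subgroup.list_prod_mem _ fun w hw => ?_
  obtain ⟨j, hj, rfl⟩ := List.mem_map.1 hw
  have h := nE_simple (F := F) gA.toGood (List.mem_range.1 hj) (c j)
  rw [eq_mul_inv_iff_mul_eq.2 h.symm]
  exact mul_mem (mul_mem (mul_mem (X_group _ _) (X_group _ _)) (X_group _ _)) (inv_mem (nG_group j))

theorem nG_conj {i : ℕ} (hi : i < 2) {r : ℕ} (hr : r < 12) (t : F) :
    ∃ v : F, nG gA.toGood F i * X r t * (nG gA.toGood F i)⁻¹ = X (T.ref i r) v ∧ (t ≠ 0 → v ≠ 0) := by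
  have hL : T.Wd [i] := fun j hj => by simp only [List.mem_singleton] at hj; subst hj; exact hi
  obtain ⟨v, hv⟩ := mono_conj (F := F) gA.toGood hL 1 (s := r) hr
  refine ⟨(v : F) * t, ?_, fun ht => mul_ne_zero v.ne_zero ht⟩
  have h := hv t
  simpa [nWd, rw'_cons, rw'_nil] using h

theorem cls_long {c : F} (hc : c ≠ 0) : Cls (X 11 c) := by
  refine ⟨_, tor_group (Pi.mulSingle 1 (Units.mk0 c hc)⁻¹), Or.inl ?_⟩
  rw [tor_xg gA.toGood _ (show 11 < T.n by decide), wt, show (T.l : ℕ) = 2 from rfl, Finset.prod_range_succ,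
    Finset.prod_range_one, show T.A 0 11 = 0 by decide +kernel, show T.A 1 11 = 1 by decide +kernel]
  simp [hc]

theorem cls_short {c : F} (hc : c ≠ 0) : Cls (X 9 c) := by
  refine ⟨_, tor_group (Pi.mulSingle 0 (Units.mk0 c hc)⁻¹), Or.inr ?_⟩
  rw [tor_xg gA.toGood _ (show 9 < T.n by decide), wt, show (T.l : ℕ) = 2 from rfl, Finset.prod_range_succ,
    Finset.prod_range_one, show T.A 0 9 = 1 by decide +kernel, show T.A 1 9 = 0 by decide +kernel]
  simp [hc]

variable [CharP F 2]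

theorem conj_a (s t : F) {r : ℕ} (hr : r < 12) {q : ℕ} (hq : q < 12) {m : ℕ} (hm : m < 12) {w : F}
    (h : X r t * X q s = X q s * X r t * X m w) (hcm : T.cTerms m q = []) (hne : q ≠ T.neg m) :
    X q s * X r t * (X q s)⁻¹ = X r t * X m w := by
  have hc : Commute (X m w) (X q s) := X_comm hm hq hcm hne _ _
  rw [mul_inv_eq_iff_eq_mul, mul_assoc (X r t), hc.eq, ← mul_assoc, h, mul_assoc _ (X m w) (X m w), sq_X,
    mul_one]

/-- Long part only. -/
theorem cls_sp_long {e f : F} (h : e ≠ 0 ∨ f ≠ 0) : Cls (X 10 e * X 11 f) := by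
  rcases eq_or_ne e 0 with rfl | he
  · rw [X_zero, one_mul]
    exact cls_long (h.resolve_left fun h => h rfl)
  refine cls_of_conj (X_group 6 (f / e)) ?_
  have h1 : X 6 (f / e) * X 10 e * (X 6 (f / e))⁻¹ = X 10 e * X 11 f := by
    rw [conj_a (f / e) e (r := 10) (q := 6) (m := 11) (w := f / e * e) (by decide) (by decide) (by decide)
      (c6a e (f / e)) (by decide +kernel) (by decide), div_mul_cancel₀ f he]
  have h2 : Commute (X 6 (f / e)) (X 11 f) := X_comm (by decide) (by decide) (by decide +kernel) (by decide) _ _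
  rw [show X 6 (f / e) * (X 10 e * X 11 f) * (X 6 (f / e))⁻¹ =
    (X 6 (f / e) * X 10 e * (X 6 (f / e))⁻¹) * (X 6 (f / e) * X 11 f * (X 6 (f / e))⁻¹) by group,
    h1, h2.eq, mul_inv_cancel_right, mul_assoc, sq_X, mul_one]
  refine cls_of_conj (nG_group 1) ?_
  obtain ⟨v, hv, hv0⟩ := nG_conj (i := 1) (by decide) (r := 10) (by decide) e
  rw [hv, show T.ref 1 10 = 11 by decide +kernel]
  exact cls_long (hv0 he)

theorem c10 (r : ℕ) (hr : r = 7 ∨ r = 8 ∨ r = 9) (s e f : F) :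
    X r s * (X 10 e * X 11 f) * (X r s)⁻¹ = X 10 e * X 11 f := by
  have h1 : Commute (X r s) (X 10 e) := by
    rcases hr with rfl | rfl | rfl <;> exact X_comm (by decide) (by decide) (by decide +kernel) (by decide) _ _
  have h2 : Commute (X r s) (X 11 f) := by
    rcases hr with rfl | rfl | rfl <;> exact X_comm (by decide) (by decide) (by decide +kernel) (by decide) _ _
  rw [(h1.mul_right h2).eq, mul_inv_cancel_right]

variable [Finite F]

theorem exists_sqrt (a : F) : ∃ s : F, s ^ 2 = a := by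
  obtain ⟨s, hs⟩ := FiniteField.isSquare_of_char_two (F := F) (ringChar.eq F 2) a
  exact ⟨s, by rw [hs, pow_two]⟩

/-- The root `a + b`. -/
theorem cls_eight {c : F} (hc : c ≠ 0) (e f : F) : Cls (X 8 c * (X 10 e * X 11 f)) := by
  -- remove the root `3a + b`
  obtain ⟨s, hs⟩ := exists_sqrt (e / c)
  refine cls_of_conj (X_group 7 s) ?_
  have h : X 7 s * X 8 c * (X 7 s)⁻¹ = X 8 c * (X 10 e * X 11 (s * c ^ 2)) := by
    have h0 := c78 c s
    rw [hs, div_mul_cancel₀ e hc] at h0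
    have hcm : Commute (X 10 e * X 11 (s * c ^ 2)) (X 7 s) :=
      (X_comm (by decide) (by decide) (by decide +kernel) (by decide) _ _).mul_left
        (X_comm (by decide) (by decide) (by decide +kernel) (by decide) _ _)
    rw [mul_inv_eq_iff_eq_mul, mul_assoc (X 8 c), hcm.eq, ← mul_assoc, h0]
    calc X 7 s * X 8 c = X 7 s * X 8 c * ((X 10 e * X 10 e) * (X 11 (s * c ^ 2) * X 11 (s * c ^ 2))) := by
          rw [sq_X, sq_X, mul_one, mul_one]
      _ = X 7 s * X 8 c * X 10 e * X 11 (s * c ^ 2) * (X 10 e * X 11 (s * c ^ 2)) := by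
          have hd : Commute (X 10 e) (X 11 (s * c ^ 2)) :=
            X_comm (by decide) (by decide) (by decide +kernel) (by decide) _ _
          simp only [mul_assoc]
          rw [← mul_assoc (X 11 (s * c ^ 2)) (X 10 e), ← hd.eq, mul_assoc]
  rw [show X 7 s * (X 8 c * (X 10 e * X 11 f)) * (X 7 s)⁻¹ =
    (X 7 s * X 8 c * (X 7 s)⁻¹) * (X 7 s * (X 10 e * X 11 f) * (X 7 s)⁻¹) by group, h, c10 7 (Or.inl rfl)]
  obtain ⟨g, hg⟩ : ∃ g, g = s * c ^ 2 + f := ⟨_, rfl⟩
  have e1 : X 8 c * (X 10 e * X 11 (s * c ^ 2)) * (X 10 e * X 11 f) = X 8 c * X 11 g := by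
    have hd : Commute (X 11 (s * c ^ 2)) (X 10 e) := X_comm (by decide) (by decide) (by decide +kernel) (by decide) _ _
    calc _ = X 8 c * (X 10 e * (X 11 (s * c ^ 2) * X 10 e) * X 11 f) := by simp only [mul_assoc]
      _ = X 8 c * (X 10 e * X 10 e * (X 11 (s * c ^ 2) * X 11 f)) := by rw [hd.eq]; simp only [mul_assoc]
      _ = _ := by rw [sq_X, one_mul, X_add, hg]
  rw [e1]
  -- remove the root `3a + 2b`
  refine cls_of_conj (X_group 9 (g / c)) ?_
  have h9 : X 9 (g / c) * X 8 c * (X 9 (g / c))⁻¹ = X 8 c * X 11 g := by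
    have h0 := c89 (g / c) c
    rw [mul_div_cancel₀ g hc] at h0
    rw [h0, mul_assoc (X 8 c) (X 9 (g / c)), (X_comm (r := 9) (s := 11) (by decide) (by decide) (by decide +kernel)
      (by decide) (g / c) g).eq, ← mul_assoc, mul_inv_cancel_right]
  rw [show X 9 (g / c) * (X 8 c * X 11 g) * (X 9 (g / c))⁻¹ =
    (X 9 (g / c) * X 8 c * (X 9 (g / c))⁻¹) * (X 9 (g / c) * X 11 g * (X 9 (g / c))⁻¹) by group, h9,
    (X_comm (r := 9) (s := 11) (by decide) (by decide) (by decide +kernel) (by decide) (g / c) g).eq,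
    mul_inv_cancel_right, mul_assoc, sq_X, mul_one]
  refine cls_of_conj (nG_group 0) ?_
  obtain ⟨v, hv, hv0⟩ := nG_conj (i := 0) (by decide) (r := 8) (by decide) c
  rw [hv, show T.ref 0 8 = 9 by decide +kernel]
  exact cls_short (hv0 hc)

/-- The root `2a + b`. -/
theorem cls_nine {d : F} (hd : d ≠ 0) (e f : F) : Cls (X 9 d * (X 10 e * X 11 f)) := by
  refine cls_of_conj (X_group 7 (e / d)) ?_
  rw [show X 7 (e / d) * (X 9 d * (X 10 e * X 11 f)) * (X 7 (e / d))⁻¹ =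
    (X 7 (e / d) * X 9 d * (X 7 (e / d))⁻¹) * (X 7 (e / d) * (X 10 e * X 11 f) * (X 7 (e / d))⁻¹) by group,
    c10 7 (Or.inl rfl), conj_a (e / d) d (r := 9) (q := 7) (m := 10) (w := e) (by decide) (by decide) (by decide)
      (by rw [c79, div_mul_cancel₀ e hd]) (by decide +kernel) (by decide)]
  rw [show X 9 d * X 10 e * (X 10 e * X 11 f) = X 9 d * (X 10 e * X 10 e) * X 11 f by simp only [mul_assoc],
    sq_X, mul_one]
  refine cls_of_conj (X_group 8 (f / d)) ?_
  rw [show X 8 (f / d) * (X 9 d * X 11 f) * (X 8 (f / d))⁻¹ =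
    (X 8 (f / d) * X 9 d * (X 8 (f / d))⁻¹) * (X 8 (f / d) * X 11 f * (X 8 (f / d))⁻¹) by group,
    conj_a (f / d) d (r := 9) (q := 8) (m := 11) (w := f) (by decide) (by decide) (by decide)
      (by rw [c89, div_mul_cancel₀ f hd]) (by decide +kernel) (by decide),
    (X_comm (r := 8) (s := 11) (by decide) (by decide) (by decide +kernel) (by decide) (f / d) f).eq,
    mul_inv_cancel_right, mul_assoc, sq_X, mul_one]
  exact cls_short hd

omit [Finite F] in
theorem w9_form {y : GL T.D.Idx F} (hy : y ∈ W F 9) : ∃ d e f : F, y = X 9 d * (X 10 e * X 11 f) := by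
  obtain ⟨d, z, hz, rfl⟩ := W_coord (k := 9) (by decide) (by decide) hy
  obtain ⟨e, z', hz', rfl⟩ := W_coord (k := 10) (by decide) (by decide) hz
  obtain ⟨f, z'', hz'', rfl⟩ := W_coord (k := 11) (by decide) (by decide) hz'
  exact ⟨d, e, f, by rw [W_twelve hz'', mul_one]⟩

theorem cls_w9 {y : GL T.D.Idx F} (hy : y ∈ W F 9) (h1 : y ≠ 1) : Cls y := by
  obtain ⟨d, e, f, rfl⟩ := w9_form hy
  rcases eq_or_ne d 0 with rfl | hd
  · rw [X_zero, one_mul] at h1 ⊢
    exact cls_sp_long (by by_contra h; push Not at h; exact h1 (by rw [h.1, h.2, X_zero, X_zero, one_mul]))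
  · exact cls_nine hd e f

theorem cls_w8 {y : GL T.D.Idx F} (hy : y ∈ W F 8) (h2 : y * y = 1) (h1 : y ≠ 1) : Cls y := by
  obtain ⟨c, z, hz, rfl⟩ := W_coord (k := 8) (by decide) (by decide) hy
  rcases eq_or_ne c 0 with rfl | hc
  · rw [X_zero, one_mul] at h1 ⊢
    exact cls_w9 hz h1
  obtain ⟨d, e, f, rfl⟩ := w9_form hz
  suffices hd : d = 0 by
    rw [hd, X_zero, one_mul]; exact cls_eight hc e f
  obtain ⟨q, hq⟩ : ∃ q, q = X 10 e * X 11 f := ⟨_, rfl⟩
  rw [← hq] at h2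
  have hq8 : Commute q (X 8 c) := hq ▸ (X_comm (by decide) (by decide) (by decide +kernel) (by decide) _ _).mul_left
    (X_comm (by decide) (by decide) (by decide +kernel) (by decide) _ _)
  have hq9 : Commute q (X 9 d) := hq ▸ (X_comm (by decide) (by decide) (by decide +kernel) (by decide) _ _).mul_left
    (X_comm (by decide) (by decide) (by decide +kernel) (by decide) _ _)
  have hqq : q * q = 1 := by
    have hd : Commute (X 11 f) (X 10 e) := X_comm (by decide) (by decide) (by decide +kernel) (by decide) _ _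
    rw [hq, show X 10 e * X 11 f * (X 10 e * X 11 f) = X 10 e * (X 11 f * X 10 e) * X 11 f by group, hd.eq,
      ← mul_assoc, sq_X, one_mul, sq_X]
  have h : X 11 (c * d) = 1 := by
    calc X 11 (c * d) = X 8 c * X 8 c * (X 9 d * X 11 (c * d) * X 9 d) := by
          rw [sq_X, one_mul, (X_comm (r := 11) (s := 9) (by decide) (by decide) (by decide +kernel) (by decide)
            (c * d) d).symm.eq, mul_assoc, sq_X, mul_one]
      _ = X 8 c * (X 9 d * X 8 c) * X 9 d := by rw [c89]; simp only [mul_assoc]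
      _ = X 8 c * (X 9 d * X 8 c) * X 9 d * (q * q) := by rw [hqq, mul_one]
      _ = X 8 c * (X 9 d * q) * (X 8 c * (X 9 d * q)) := by
          simp only [mul_assoc]
          rw [← mul_assoc q (X 8 c), hq8.eq, mul_assoc (X 8 c) q, ← mul_assoc q (X 9 d), hq9.eq, mul_assoc]
      _ = 1 := h2
  have := xg_injective gA.toGood (show 11 < T.n by decide) (h.trans (X_zero 11).symm)
  exact (mul_eq_zero.1 this).resolve_left hc

omit [Finite F] in
theorem conj_sq {g x : GL T.D.Idx F} (h : x * x = 1) : (g * x * g⁻¹) * (g * x * g⁻¹) = 1 := by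
  rw [show g * x * g⁻¹ * (g * x * g⁻¹) = g * (x * x) * g⁻¹ by group, h, mul_one, mul_inv_cancel]

omit [Finite F] in
theorem conj_ne {g x : GL T.D.Idx F} (h : x ≠ 1) : g * x * g⁻¹ ≠ 1 := fun e => h (conj_eq_one_iff.1 e)

theorem w78 (c s : F) : (X 8 c)⁻¹ * (X 7 s * X 8 c * (X 7 s)⁻¹) ∈ W F 9 := by
  obtain ⟨R, hR⟩ : ∃ R, R = X 10 (s ^ 2 * c) * X 11 (s * c ^ 2) := ⟨_, rfl⟩
  have hRm : R ∈ W F 9 := by
    rw [hR]; exact mul_mem (X_mem (by decide) (by decide) _) (X_mem (by decide) (by decide) _)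
  have h : X 8 c * X 7 s = X 7 s * X 8 c * R := by rw [c78, hR, mul_assoc]
  rw [show (X 8 c)⁻¹ * (X 7 s * X 8 c * (X 7 s)⁻¹) =
    (X 8 c)⁻¹ * (X 7 s * X 8 c * R) * R⁻¹ * (X 7 s)⁻¹ by group, ← h,
    show (X 8 c)⁻¹ * (X 8 c * X 7 s) * R⁻¹ * (X 7 s)⁻¹ = X 7 s * R⁻¹ * (X 7 s)⁻¹ by group]
  exact norm_W (by decide) (by decide) (by decide) s (inv_mem hRm)

theorem cls_six {a : F} (ha : a ≠ 0) {z : GL T.D.Idx F} (hz : z ∈ W F 8)
    (h2 : (X 6 a * z) * (X 6 a * z) = 1) (h1 : X 6 a * z ≠ 1) : Cls (X 6 a * z) := by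
  -- remove the root `a + b`
  obtain ⟨c, z₉, hz₉, rfl⟩ := W_coord (k := 8) (by decide) (by decide) hz
  refine cls_of_conj (X_group 7 (c / a)) ?_
  obtain ⟨s, hs⟩ : ∃ s, s = c / a := ⟨_, rfl⟩
  rw [← hs]
  obtain ⟨R, hR⟩ : ∃ R, R = X 9 (a * s ^ 2) * X 10 (a * s ^ 3) := ⟨_, rfl⟩
  have hRm : R ∈ W F 9 := by
    rw [hR]; exact mul_mem (X_mem le_rfl (by decide) _) (X_mem (by decide) (by decide) _)
  obtain ⟨v, hv⟩ : ∃ v, v = (X 8 c)⁻¹ * (X 7 s * X 8 c * (X 7 s)⁻¹) := ⟨_, rfl⟩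
  have hvm : v ∈ W F 9 := hv ▸ w78 c s
  obtain ⟨w, hw⟩ : ∃ w, w = v * (X 7 s * R * (X 7 s)⁻¹) := ⟨_, rfl⟩
  have hwm : w ∈ W F 9 := hw ▸ mul_mem hvm (norm_W (by decide) (by decide) (by decide) s hRm)
  have h7 : X 7 s * X 6 a * (X 7 s)⁻¹ = X 6 a * X 8 c * w := by
    rw [c67 s a, show a * s = c by rw [hs, mul_div_cancel₀ c ha], mul_assoc (X 6 a * X 7 s * X 8 c), ← hR,
      hw, hv]
    group
  obtain ⟨y, hy⟩ : ∃ y, y = (X 8 c * w * (X 8 c)⁻¹) * v * (X 7 s * z₉ * (X 7 s)⁻¹) := ⟨_, rfl⟩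
  have hy9 : y ∈ W F 9 := by
    rw [hy]
    exact mul_mem (mul_mem (norm_W (by decide) (by decide) (by decide) c hwm) hvm)
      (norm_W (by decide) (by decide) (by decide) s hz₉)
  have hu : X 7 s * (X 6 a * (X 8 c * z₉)) * (X 7 s)⁻¹ = X 6 a * y := by
    rw [show X 7 s * (X 6 a * (X 8 c * z₉)) * (X 7 s)⁻¹ = (X 7 s * X 6 a * (X 7 s)⁻¹) *
      (X 7 s * X 8 c * (X 7 s)⁻¹) * (X 7 s * z₉ * (X 7 s)⁻¹) by group, h7,
      show X 7 s * X 8 c * (X 7 s)⁻¹ = X 8 c * v by rw [hv, mul_inv_cancel_left], hy]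
    conv_rhs => rw [X_inv]
    simp only [mul_assoc]
  have h2' := conj_sq (g := X 7 s) h2
  have h1' := conj_ne (g := X 7 s) h1
  rw [hu] at h2' h1' ⊢
  obtain ⟨d, e, f, rfl⟩ := w9_form hy9
  -- the root `3a + b` is absent
  have c69 : Commute (X 6 a) (X 9 d) := X_comm (by decide) (by decide) (by decide +kernel) (by decide) _ _
  have c6b : Commute (X 6 a) (X 11 f) := X_comm (by decide) (by decide) (by decide +kernel) (by decide) _ _
  have c9a : Commute (X 9 d) (X 10 e) := X_comm (by decide) (by decide) (by decide +kernel) (by decide) _ _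
  have c9b : Commute (X 9 d) (X 11 f) := X_comm (by decide) (by decide) (by decide +kernel) (by decide) _ _
  have cab : Commute (X 10 e) (X 11 f) := X_comm (by decide) (by decide) (by decide +kernel) (by decide) _ _
  have he : e = 0 := by
    obtain ⟨k, hk⟩ : ∃ k, k = X 9 d * X 11 f := ⟨_, rfl⟩
    have hk6 : Commute k (X 6 a) := hk ▸ c69.symm.mul_left c6b.symm
    have hka : Commute k (X 10 e) := hk ▸ c9a.mul_left cab.symm
    have hkk : k * k = 1 := by
      rw [hk, show X 9 d * X 11 f * (X 9 d * X 11 f) = X 9 d * (X 11 f * X 9 d) * X 11 f by group,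
        c9b.symm.eq, ← mul_assoc, sq_X, one_mul, sq_X]
    have hx : X 6 a * (X 9 d * (X 10 e * X 11 f)) = X 6 a * X 10 e * k := by
      rw [hk, cab.eq, ← mul_assoc (X 9 d), mul_assoc (X 6 a), (c9a.mul_left cab.symm).eq]
    rw [hx] at h2'
    have h3 : (X 6 a * X 10 e) * (X 6 a * X 10 e) = 1 := by
      calc _ = (X 6 a * X 10 e) * (X 6 a * X 10 e) * (k * k) := by rw [hkk, mul_one]
        _ = X 6 a * X 10 e * k * (X 6 a * X 10 e * k) := by
          have hc : Commute k (X 6 a * X 10 e) := hk6.mul_right hka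
          rw [mul_assoc (X 6 a * X 10 e) k, ← mul_assoc k (X 6 a * X 10 e) k, hc.eq]
          simp only [mul_assoc]
        _ = 1 := h2'
    have h4 : X 11 (a * e) = 1 := by
      calc X 11 (a * e) = X 6 a * X 6 a * (X 10 e * X 11 (a * e) * X 10 e) := by
            rw [sq_X, one_mul, (X_comm (r := 10) (s := 11) (by decide) (by decide) (by decide +kernel) (by decide)
              e (a * e)).eq, mul_assoc, sq_X, mul_one]
        _ = (X 6 a * X 10 e) * (X 6 a * X 10 e) := by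
            rw [show X 6 a * X 10 e * (X 6 a * X 10 e) = X 6 a * (X 10 e * X 6 a) * X 10 e by group, c6a]
            simp only [mul_assoc]
        _ = 1 := h3
    exact (mul_eq_zero.1 (xg_injective gA.toGood (show 11 < T.n by decide) (h4.trans (X_zero 11).symm))).resolve_left ha
  subst he
  rw [X_zero, one_mul]
  -- remove the root `3a + 2b`
  refine cls_of_conj (X_group 10 (f / a)) ?_
  have h10 : X 10 (f / a) * X 6 a * (X 10 (f / a))⁻¹ = X 6 a * X 11 f := by
    rw [c6a, mul_div_cancel₀ f ha, mul_assoc (X 6 a) (X 10 _),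
      (X_comm (r := 10) (s := 11) (by decide) (by decide) (by decide +kernel) (by decide) (f / a) f).eq,
      ← mul_assoc, mul_inv_cancel_right]
  rw [show X 10 (f / a) * (X 6 a * (X 9 d * X 11 f)) * (X 10 (f / a))⁻¹ =
    (X 10 (f / a) * X 6 a * (X 10 (f / a))⁻¹) * (X 10 (f / a) * (X 9 d * X 11 f) * (X 10 (f / a))⁻¹) by group,
    h10, ((X_comm (r := 10) (s := 9) (by decide) (by decide) (by decide +kernel) (by decide) (f / a) d).mul_right
      (X_comm (r := 10) (s := 11) (by decide) (by decide) (by decide +kernel) (by decide) (f / a) f)).eq,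
    mul_inv_cancel_right, c9b.eq, mul_assoc, ← mul_assoc (X 11 f), sq_X, one_mul]
  -- apply the short simple reflection
  refine cls_of_conj (nG_group 0) ?_
  obtain ⟨v, hv, hv0⟩ := nG_conj (i := 0) (by decide) (r := 6) (by decide) a
  obtain ⟨w, hw, -⟩ := nG_conj (i := 0) (by decide) (r := 9) (by decide) d
  rw [show nG gA.toGood F 0 * (X 6 a * X 9 d) * (nG gA.toGood F 0)⁻¹ =
    (nG gA.toGood F 0 * X 6 a * (nG gA.toGood F 0)⁻¹) * (nG gA.toGood F 0 * X 9 d * (nG gA.toGood F 0)⁻¹) by group,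
    hv, hw, show T.ref 0 6 = 10 by decide +kernel, show T.ref 0 9 = 8 by decide +kernel,
    (X_comm (r := 10) (s := 8) (by decide) (by decide) (by decide +kernel) (by decide) v w).eq]
  rcases eq_or_ne w 0 with rfl | hw0
  · rw [X_zero, one_mul]
    simpa [X_zero] using cls_sp_long (e := v) (f := 0) (Or.inl (hv0 ha))
  · simpa [X_zero] using cls_eight hw0 v 0

theorem cls_seven {b : F} (hb : b ≠ 0) {z : GL T.D.Idx F} (hz : z ∈ W F 8)
    (h2 : (X 7 b * z) * (X 7 b * z) = 1) : Cls (X 7 b * z) := by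
  -- remove the root `a + b`
  obtain ⟨c, z₉, hz₉, rfl⟩ := W_coord (k := 8) (by decide) (by decide) hz
  refine cls_of_conj (X_group 6 (c / b)) ?_
  obtain ⟨s, hs⟩ : ∃ s, s = c / b := ⟨_, rfl⟩
  rw [← hs]
  obtain ⟨R, hR⟩ : ∃ R, R = X 9 (s * b ^ 2) * X 10 (s * b ^ 3) := ⟨_, rfl⟩
  have hRm : R ∈ W F 9 := by
    rw [hR]; exact mul_mem (X_mem le_rfl (by decide) _) (X_mem (by decide) (by decide) _)
  have h6 : X 7 b * X 6 s = X 6 s * X 7 b * X 8 c * R := by
    rw [c67 b s, show s * b = c by rw [hs, div_mul_cancel₀ c hb], hR]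
    simp only [mul_assoc]
  obtain ⟨y, hy, hu⟩ : ∃ y ∈ W F 9, X 6 s * (X 7 b * (X 8 c * z₉)) * (X 6 s)⁻¹ = X 7 b * y := by
    refine ⟨X 6 s * (R⁻¹ * z₉) * (X 6 s)⁻¹, norm_W (by decide) (by decide) le_rfl s (mul_mem (inv_mem hRm) hz₉), ?_⟩
    rw [show X 6 s * (X 7 b * (X 8 c * z₉)) * (X 6 s)⁻¹ = (X 6 s * X 7 b) * X 8 c * z₉ * (X 6 s)⁻¹ by group,
      show X 6 s * X 7 b = X 7 b * X 6 s * R⁻¹ * (X 8 c)⁻¹ by rw [h6]; group]
    group
  have h2' := conj_sq (g := X 6 s) h2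
  rw [hu] at h2' ⊢
  obtain ⟨d, e, f, rfl⟩ := w9_form hy
  have c9b : Commute (X 9 d) (X 11 f) := X_comm (by decide) (by decide) (by decide +kernel) (by decide) _ _
  have hd : d = 0 := by
    obtain ⟨k, hk⟩ : ∃ k, k = X 10 e * X 11 f := ⟨_, rfl⟩
    rw [← hk] at h2'
    have hk7 : Commute k (X 7 b) := hk ▸ (X_comm (by decide) (by decide) (by decide +kernel) (by decide) _ _).mul_left
      (X_comm (by decide) (by decide) (by decide +kernel) (by decide) _ _)
    have hk9 : Commute k (X 9 d) := hk ▸ (X_comm (by decide) (by decide) (by decide +kernel) (by decide) _ _).mul_left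
      c9b.symm
    have hkk : k * k = 1 := by
      have hd : Commute (X 11 f) (X 10 e) := X_comm (by decide) (by decide) (by decide +kernel) (by decide) _ _
      rw [hk, show X 10 e * X 11 f * (X 10 e * X 11 f) = X 10 e * (X 11 f * X 10 e) * X 11 f by group, hd.eq,
        ← mul_assoc, sq_X, one_mul, sq_X]
    have h : X 10 (b * d) = 1 := by
      calc X 10 (b * d) = X 7 b * X 7 b * (X 9 d * X 10 (b * d) * X 9 d) := by
            rw [sq_X, one_mul, (X_comm (r := 10) (s := 9) (by decide) (by decide) (by decide +kernel) (by decide)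
              (b * d) d).symm.eq, mul_assoc, sq_X, mul_one]
        _ = X 7 b * (X 9 d * X 7 b) * X 9 d := by rw [c79]; simp only [mul_assoc]
        _ = X 7 b * (X 9 d * X 7 b) * X 9 d * (k * k) := by rw [hkk, mul_one]
        _ = X 7 b * (X 9 d * k) * (X 7 b * (X 9 d * k)) := by
            simp only [mul_assoc]
            rw [← mul_assoc k (X 7 b), hk7.eq, mul_assoc (X 7 b) k, ← mul_assoc k (X 9 d), hk9.eq, mul_assoc]
        _ = 1 := h2'
    exact (mul_eq_zero.1 (xg_injective gA.toGood (show 10 < T.n by decide) (h.trans (X_zero 10).symm))).resolve_left hb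
  subst hd
  rw [X_zero, one_mul]
  refine cls_of_conj (nG_group 1) ?_
  obtain ⟨v, hv, hv0⟩ := nG_conj (i := 1) (by decide) (r := 7) (by decide) b
  obtain ⟨p, hp, -⟩ := nG_conj (i := 1) (by decide) (r := 10) (by decide) e
  obtain ⟨q, hq, -⟩ := nG_conj (i := 1) (by decide) (r := 11) (by decide) f
  rw [show nG gA.toGood F 1 * (X 7 b * (X 10 e * X 11 f)) * (nG gA.toGood F 1)⁻¹ =
    (nG gA.toGood F 1 * X 7 b * (nG gA.toGood F 1)⁻¹) * ((nG gA.toGood F 1 * X 10 e * (nG gA.toGood F 1)⁻¹) *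
      (nG gA.toGood F 1 * X 11 f * (nG gA.toGood F 1)⁻¹)) by group,
    hv, hp, hq, show T.ref 1 7 = 8 by decide +kernel, show T.ref 1 10 = 11 by decide +kernel,
    show T.ref 1 11 = 10 by decide +kernel,
    (X_comm (r := 11) (s := 10) (by decide) (by decide) (by decide +kernel) (by decide) p q).eq]
  exact cls_eight (hv0 hb) q p

end Cfsg.Agent.ChevAut.G2Inv

namespace Cfsg.Agent.ChevAut.G2Inv

open Cfsg.Lie Cfsg.Agent.Chev Cfsg.Agent.Chev.Tab

variable {F : Type*} [Field F] [CharP F 2]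

/-- Every involution of `U` is conjugate to a representative. -/
theorem cls_U [Finite F] {u : GL T.D.Idx F} (hu : u ∈ W F 6) (h2 : u * u = 1) (h1 : u ≠ 1) : Cls u := by
  obtain ⟨a, z, hz, rfl⟩ := W_coord (k := 6) le_rfl (by decide) hu
  obtain ⟨b, z₈, hz₈, rfl⟩ := W_coord (k := 7) (by decide) (by decide) hz
  rcases eq_or_ne a 0 with rfl | ha
  · rw [X_zero, one_mul] at h1 h2 ⊢
    rcases eq_or_ne b 0 with rfl | hb
    · rw [X_zero, one_mul] at h1 h2 ⊢
      exact cls_w8 hz₈ h2 h1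
    · exact cls_seven hb hz₈ h2
  suffices hb : b = 0 by
    subst hb; rw [X_zero, one_mul] at h1 h2 ⊢
    exact cls_six ha hz₈ h2 h1
  obtain ⟨R, hR⟩ : ∃ R, R = X 9 (a * b ^ 2) * X 10 (a * b ^ 3) := ⟨_, rfl⟩
  have hRm : R ∈ W F 9 := by rw [hR]; exact mul_mem (X_mem le_rfl (by decide) _) (X_mem (by decide) (by decide) _)
  have h67 : X 7 b * X 6 a = X 6 a * X 7 b * X 8 (a * b) * R := by rw [c67, hR]; simp only [mul_assoc]
  obtain ⟨w, hw⟩ : ∃ w, w = (X 8 (a * b))⁻¹ * (X 7 b * X 8 (a * b) * (X 7 b)⁻¹) := ⟨_, rfl⟩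
  have hwm : w ∈ W F 9 := hw ▸ w78 (a * b) b
  -- conjugation inside `W 6` is trivial on `W 8 / W 9`
  have key : ∀ y ∈ W F 8, ∀ x ∈ W F 9, (X 6 a * X 7 b * y) * (X 6 a * X 7 b * y) = x → a * b = 0 := by
    intro y hy x hx e
    obtain ⟨p, y₉, hy₉, rfl⟩ := W_coord (k := 8) (by decide) (by decide) hy
    obtain ⟨w6, hw6⟩ : ∃ w, w = (X 8 p)⁻¹ * (X 6 a * X 8 p * (X 6 a)⁻¹) := ⟨_, rfl⟩
    have h6 : w6 = 1 := by
      rw [hw6, (X_comm (r := 6) (s := 8) (by decide) (by decide) (by decide +kernel) (by decide) a p).eq,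
        mul_inv_cancel_right, inv_mul_cancel]
    obtain ⟨w7, hw7⟩ : ∃ w, w = (X 8 p)⁻¹ * (X 7 b * X 8 p * (X 7 b)⁻¹) := ⟨_, rfl⟩
    have h7 : w7 ∈ W F 9 := hw7 ▸ w78 p b
    have c8 : ∀ q : F, ∀ y ∈ W F 9, X 8 q * y * (X 8 q)⁻¹ ∈ W F 9 :=
      fun q y hy => norm_W (by decide) (by decide) (by decide) q hy
    have c7 : ∀ y ∈ W F 9, X 7 b * y * (X 7 b)⁻¹ ∈ W F 9 :=
      fun y hy => norm_W (by decide) (by decide) (by decide) b hy
    -- the square is `x₈(a b) W₉`
    have s1 : (X 6 a * X 7 b) * (X 6 a * X 7 b) = X 8 (a * b) * (w * (X 7 b * R * (X 7 b)⁻¹)) := by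
      calc _ = X 6 a * (X 7 b * X 6 a) * X 7 b := by group
        _ = X 6 a * X 6 a * (X 7 b * (X 8 (a * b) * R) * (X 7 b)⁻¹) := by
            rw [h67]; conv_rhs => rw [X_inv]
            simp only [mul_assoc]
        _ = _ := by rw [sq_X, one_mul, hw]; group
    obtain ⟨n, hn, hs1⟩ : ∃ n ∈ W F 9, (X 6 a * X 7 b) * (X 6 a * X 7 b) = X 8 (a * b) * n :=
      ⟨_, mul_mem hwm (c7 R hRm), s1⟩
    obtain ⟨y6, hy6, e6⟩ : ∃ y ∈ W F 9, X 6 a * y₉ * (X 6 a)⁻¹ = y :=
      ⟨_, norm_W (by decide) (by decide) le_rfl a hy₉, rfl⟩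
    obtain ⟨v, hv, ev⟩ : ∃ v ∈ W F 9, (X 6 a * X 7 b)⁻¹ * (X 8 p * y₉) * (X 6 a * X 7 b) = X 8 p * v := by
      obtain ⟨u, hu⟩ : ∃ u, u = (X 8 p)⁻¹ * ((X 7 b)⁻¹ * X 8 p * X 7 b) := ⟨_, rfl⟩
      have hum : u ∈ W F 9 := by
        have h := w78 p (-b)
        rw [show X 7 (-b) = (X 7 b)⁻¹ from (xg_inv _ _ _).symm, inv_inv] at h
        exact hu ▸ h
      refine ⟨u * ((X 7 b)⁻¹ * ((X 6 a)⁻¹ * y₉ * X 6 a) * X 7 b), mul_mem hum ?_, ?_⟩
      · rw [show ∀ (r : ℕ) (t : F) (Y : GL T.D.Idx F), (X r t)⁻¹ * Y * X r t = X r t * Y * (X r t)⁻¹ from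
          fun r t Y => by rw [X_inv]]
        rw [show ∀ (r : ℕ) (t : F) (Y : GL T.D.Idx F), (X r t)⁻¹ * Y * X r t = X r t * Y * (X r t)⁻¹ from
          fun r t Y => by rw [X_inv]]
        exact c7 _ (norm_W (by decide) (by decide) le_rfl a hy₉)
      · have h6' : (X 6 a)⁻¹ * X 8 p * X 6 a = X 8 p := by
          rw [mul_assoc, ← (X_comm (r := 6) (s := 8) (by decide) (by decide) (by decide +kernel) (by decide) a p).eq,
            inv_mul_cancel_left]
        rw [hu]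
        calc _ = (X 7 b)⁻¹ * ((X 6 a)⁻¹ * X 8 p * X 6 a) * X 7 b *
              ((X 7 b)⁻¹ * ((X 6 a)⁻¹ * y₉ * X 6 a) * X 7 b) := by group
          _ = _ := by rw [h6']; group
    have e' : X 8 (a * b) * (n * (X 8 p * (v * (X 8 p * y₉)))) = x := by
      rw [← e]
      calc _ = (X 6 a * X 7 b) * (X 6 a * X 7 b) * (X 8 p * v) * (X 8 p * y₉) := by rw [hs1]; group
        _ = _ := by rw [← ev]; group
    have hrest : n * (X 8 p * (v * (X 8 p * y₉))) ∈ W F 9 := by
      rw [show X 8 p * (v * (X 8 p * y₉)) = X 8 p * v * (X 8 p)⁻¹ * y₉ by rw [X_inv]; simp only [mul_assoc]]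
      exact mul_mem hn (mul_mem (c8 p v hv) hy₉)
    refine X_coeff (k := 8) (by decide) (by decide) ?_
    rw [eq_mul_inv_iff_mul_eq.2 e']
    exact mul_mem hx (inv_mem hrest)
  exact (mul_eq_zero.1 (key z₈ hz₈ 1 (one_mem _) (by rw [← h2]; simp only [mul_assoc]))).resolve_left ha

variable [Fintype F]

/-- Every involution of the group is conjugate to a representative. -/
theorem cls_group {g : GL T.D.Idx F} (hg : g ∈ T.D.group F) (h2 : g * g = 1) (h1 : g ≠ 1) : Cls g := by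
  classical
  haveI : Fact (Nat.Prime 2) := ⟨Nat.prime_two⟩
  obtain ⟨P, hP⟩ := exists_sylow_posU (F := F) gA 2
  let y : ↥(T.D.group F) := ⟨g, hg⟩
  have hy : y ^ 2 = 1 := Subtype.ext (by simpa [pow_two] using h2)
  have hp : IsPGroup 2 (Subgroup.zpowers y) := by
    refine IsPGroup.of_card (n := if y = 1 then 0 else 1) ?_
    rw [Nat.card_zpowers]
    split_ifs with h
    · rw [h, orderOf_one, pow_zero]
    · rw [orderOf_eq_prime hy h, pow_one]
  obtain ⟨Q, hQ⟩ := hp.exists_le_sylow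
  obtain ⟨h, hh⟩ := MulAction.exists_smul_eq ↥(T.D.group F) Q P
  have hm : h * y * h⁻¹ ∈ (P : Subgroup ↥(T.D.group F)) := by
    rw [← hh, Sylow.coe_subgroup_smul]
    exact Subgroup.mem_pointwise_smul_iff_inv_smul_mem.2 (by
      simpa [MulAut.smul_def, mul_assoc] using hQ (Subgroup.mem_zpowers y))
  rw [hP, Subgroup.mem_subgroupOf, posUnipotent_eq gA.toGood] at hm
  exact cls_of_conj h.2 (cls_U hm (conj_sq h2) (conj_ne h1))

omit [Fintype F] in
/-- The two representatives are not conjugate. -/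
theorem not_conj {h : GL T.D.Idx F} (hh : h ∈ T.D.group F) : h * X 11 (1 : F) * h⁻¹ ≠ X 9 (1 : F) := by
  intro e
  obtain ⟨b, hb, _, -, L, hL, ⟨c, rfl⟩, u, hu, rfl⟩ := bruhat_exists gA hh
  obtain ⟨u', hu', c', rfl⟩ := (mem_borel_iff gA.toGood).1 hb
  have hu11 : u * X 11 (1 : F) * u⁻¹ = X 11 (1 : F) := by
    suffices h : Commute u (X 11 (1 : F)) by rw [h.eq, mul_inv_cancel_right]
    refine genS_induction gA.toGood (p := fun y => Commute y (X 11 (1 : F))) (Commute.one_left _) ?_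
      (uMinus_le_pos gA.toGood L hu)
    rintro r ⟨h6, h12⟩ s y hy
    change 6 ≤ r at h6
    change r < 12 at h12
    refine Commute.mul_left ?_ hy
    interval_cases r <;> exact X_comm (by decide) (by decide) (by decide +kernel) (by decide) _ _
  obtain ⟨v, hv⟩ := mono_conj (F := F) gA.toGood hL (c' * c) (show 11 < T.n by decide)
  obtain ⟨r, hr⟩ : ∃ r, r = T.rw' L 11 := ⟨_, rfl⟩
  have hr12 : r < 12 := hr ▸ rw'_lt gA.toGood hL (show 11 < T.n by decide)
  have e1 : X r (v : F) = u'⁻¹ * X 9 (1 : F) * u' := by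
    have := hv 1
    rw [mul_one, ← hr] at this
    refine this.symm.trans ?_
    rw [← e, map_mul]
    conv_lhs => rw [show (xg gA.toGood 11 (1 : F)) = u * X 11 (1 : F) * u⁻¹ from hu11.symm]
    group
  have h2 := conj_short (α := (1 : F)) (inv_mem hu')
  rw [inv_inv, ← e1] at h2
  have h9 : X r (v : F) ∈ W F 9 := by
    rw [show X r (v : F) = X r (v : F) * X 9 (1 : F) * X 9 (1 : F) by rw [mul_assoc _ (X 9 _), sq_X, mul_one]]
    exact mul_mem (W_mono (by decide) h2) (X_mem le_rfl (by decide) _)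
  rcases lt_or_ge r 6 with hlt | hge
  · exact v.ne_zero (xg_injective gA.toGood hr12 ((borel_inf_neg gA.toGood
      (genS_pos_le_borel gA.toGood (fun _ h => h) (W_mono (by decide) h9))
      (xg_mem_genS gA.toGood (S := Set.Iio T.N) (show r ∈ Set.Iio T.N from hlt) _)).trans (X_zero r).symm))
  rcases lt_or_ge r 9 with hlt | hge'
  · exact v.ne_zero (X_coeff (k := r) hge (by omega) (W_mono (by omega) h9))
  have hne : ∀ B ∈ words, T.rw' B 11 ≠ 9 := by decide +kernel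
  obtain ⟨B, hB, eB⟩ := exists_word hL
  have hr9 : r ≠ 9 := fun h => hne B hB (by rw [← eB 11 (by decide), ← hr, h])
  refine one_ne_zero (X_coeff (F := F) (k := 9) (by decide) (by decide) ?_)
  rw [show X 9 (1 : F) = (X r (v : F))⁻¹ * (X r (v : F) * X 9 (1 : F)) by group]
  exact mul_mem (inv_mem (X_mem (by omega) hr12 _)) h2

omit [Fintype F] in
theorem not_conj' {h : GL T.D.Idx F} (hh : h ∈ T.D.group F) : h * X 9 (1 : F) * h⁻¹ ≠ X 11 (1 : F) :=
  fun e => not_conj (inv_mem hh) (by rw [← e]; group)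

omit [Fintype F] in
theorem order_two {r : ℕ} (hr : r < 12) : orderOf (X r (1 : F)) = 2 :=
  orderOf_eq_prime (by rw [pow_two, sq_X]) fun h =>
    one_ne_zero (xg_injective gA.toGood hr (h.trans (X_zero r).symm))

end Cfsg.Agent.ChevAut.G2Inv
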