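import Cfsg.Agent.Lib.Lie.ChevBruhat

/-! The centraliser of a root element of the highest root, and diagonal elements of the group. -/

set_option autoImplicit false
set_option maxRecDepth 8000

namespace Cfsg.Agent.ChevAut

open Cfsg.Lie Cfsg.Agent.Chev Cfsg.Agent.Chev.Tab

/-- The commutator word of `(R, s)` is a single `x(±1)`, or empty. -/
def singleTerm : List (ℕ × ℤ × ℕ × ℕ) → Bool
  | [(_, C, 1, 1)] => Nat.beq C.natAbs 1
  | _ => false

/-- `i₀` is the only fundamental root not orthogonal to `R`; `S` lists the negatives of the others. -/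
def checkCent (T : Tab) (R : ℕ) (S : List ℕ) (i₀ : ℕ) : Bool :=
  (Nat.ble T.N R && Nat.blt R T.n) &&
  ((T.A i₀ R == 1 && singleTerm (T.cTerms R (T.neg (T.smp i₀))) &&
    !Nat.beq (T.neg (T.smp i₀)) R && !Nat.beq (T.neg (T.smp i₀)) (T.neg R)) &&
  (Nat.blt i₀ T.l &&
  (allBelow (fun j => Nat.beq j i₀ ||
      (T.A j R == 0 && (S.elem (T.neg (T.smp j)) && Nat.beq (T.ref j R) R))) T.l &&
  allBelow (fun r => !(Nat.ble T.N r || S.elem r) || (Nat.beq r R ||
      (!Nat.beq r (T.neg R) && (T.cTerms R r).all (fun c => Nat.beq (c.2.1.natAbs % 2) 0)))) T.n)))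

variable {T : Tab} {F : Type*} [Field F]

theorem xg_root_inj (g : T.GoodA) {r s : ℕ} (hr : T.N ≤ r) (hrn : r < T.n) (hs : s < T.n) {u v : F} (hu : u ≠ 0)
    (hv : v ≠ 0) (h : xg g.toGood r u = xg g.toGood s v) : r = s := by
  have hg := g.toGood
  rcases lt_or_ge s T.N with hsN | hsN
  · refine absurd (xg_injective hg hrn ((borel_inf_neg hg ?_ ?_).trans (xg_zero hg r).symm)) hu
    · exact genS_pos_le_borel hg (fun _ h => h) (xg_mem_genS hg (show r ∈ Set.Ico T.N T.n from ⟨hr, hrn⟩) u)
    · rw [h]; exact xg_mem_genS hg (show s ∈ Set.Iio T.N from hsN) v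
  rcases lt_trichotomy r s with h' | h' | h'
  · refine absurd (lowest_coeff hg hr hrn ?_) hu
    rw [h]; exact xg_mem_genS hg (show s ∈ Set.Ico (r + 1) T.n from ⟨h', hs⟩) v
  · exact h'
  · refine absurd (lowest_coeff hg hsN hs ?_) hv
    rw [← h]; exact xg_mem_genS hg (show r ∈ Set.Ico (s + 1) T.n from ⟨h', hrn⟩) u

/-- `C_G(x_R(1)) = ⟨X_r : r positive or r ∈ S⟩` in characteristic two, for `R` commuting with these root groups. -/
theorem long_centralizer (g : T.GoodA) [CharP F 2] {R : ℕ} {S : List ℕ} {i₀ : ℕ}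
    (hc : checkCent T R S i₀ = true) :
    T.D.group F ⊓ Subgroup.centralizer {xg g.toGood (R) (1 : F)} =
      genS g.toGood F {r | r < T.n ∧ (T.N ≤ r ∨ r ∈ S)} := by
  have hg := g.toGood
  have hn := n_def (T := T)
  have hN := hg.N_pos
  set x := xg hg (R) (1 : F) with hx
  set M := genS hg F {r | r < T.n ∧ (T.N ≤ r ∨ r ∈ S)} with hM
  simp only [checkCent, Bool.and_eq_true, beq_iff_eq, Bool.not_eq_true', Bool.or_eq_true, allBelow_eq_true,
    nat_beq, nat_ble, nat_blt, List.elem_eq_mem, decide_eq_true_eq, List.all_eq_true] at hc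
  obtain ⟨⟨hRN, hR⟩, ⟨⟨⟨hA, hterm⟩, hne1⟩, hne2⟩, hi₀, hJ, hcomm⟩ := hc
  replace hne1 : T.neg (T.smp i₀) ≠ R := fun e => by
    have := nat_beq.2 e; rw [hne1] at this; exact Bool.noConfusion this
  replace hne2 : T.neg (T.smp i₀) ≠ T.neg (R) := fun e => by
    have := nat_beq.2 e; rw [hne2] at this; exact Bool.noConfusion this
  have hMc : ∀ m ∈ M, Commute m x := by
    intro m hm
    refine genS_induction hg (p := fun m => Commute m x) (Commute.one_left _) ?_ hm
    rintro r ⟨hrn, hr⟩ a y hy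
    refine Commute.mul_left ?_ hy
    have h := hcomm r hrn
    simp only [Bool.or_eq_false_iff, decide_eq_false_iff_not] at h
    rcases h with h | h | ⟨h1, h2⟩
    · obtain ⟨ha, hb⟩ := h
      rcases hr with hr | hr
      · rw [nat_ble.2 hr] at ha; exact Bool.noConfusion ha
      · exact absurd hr hb
    · subst h; rw [hx]; show _ = _; rw [xg_add, xg_add, add_comm]
    · show _ = _
      by_cases hre : r = R
      · subst hre; rw [hx, xg_add, xg_add, add_comm]
      rw [hx, xg_comm g hR hrn hre fun e => by rw [nat_beq.2 e] at h1; exact Bool.noConfusion h1]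
      rw [List.prod_eq_one, mul_one]
      intro z hz
      simp only [cVal, List.map_map, List.mem_map, Function.comp_apply] at hz
      obtain ⟨q, hq, rfl⟩ := hz
      have hC : ((q.2.1 : ℤ) : F) = 0 :=
        (CharP.intCast_eq_zero_iff F 2 _).2 (Int.natCast_dvd.2 (Nat.dvd_of_mod_eq_zero (h2 q hq)))
      rw [hC, zero_mul, zero_mul, xg_zero]
  have hpos : genS hg F (Set.Ico T.N T.n) ≤ M := genS_mono hg fun r hr => ⟨hr.2, Or.inl hr.1⟩
  have hnegS : ∀ j < T.l, j ≠ i₀ → ∀ a : F, xg hg (T.neg (T.smp j)) a ∈ M := fun j hj hne a =>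
    xg_mem_genS hg (show T.neg (T.smp j) ∈ {r | r < T.n ∧ (T.N ≤ r ∨ r ∈ S)} from
      ⟨neg_lt (hg.smp_lt hj), Or.inr ((hJ j hj).resolve_left hne).2.1⟩) a
  have hsmp : ∀ j < T.l, ∀ a : F, xg hg (T.smp j) a ∈ M := fun j hj a =>
    hpos (xg_mem_genS hg (show T.smp j ∈ Set.Ico T.N T.n from ⟨hg.smp_ge hj, hg.smp_lt hj⟩) a)
  have hnG : ∀ j < T.l, j ≠ i₀ → nG hg F j ∈ M := fun j hj hne =>
    mul_mem (mul_mem (hsmp j hj 1) (hnegS j hj hne _)) (hsmp j hj 1)
  have descent : ∀ m, ∀ L : List ℕ, L.length ≤ m → T.Wd L → T.rw' L (R) = R →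
      ∃ c, ∃ y ∈ M, nWd hg F L = tor T F c * y := by
    intro m
    induction m with
    | zero =>
      intro L hlen _ _
      obtain rfl := List.length_eq_zero_iff.1 (Nat.le_zero.1 hlen)
      exact ⟨1, 1, one_mem _, by simp⟩
    | succ m ih =>
      intro L hlen hL hLR
      rcases List.eq_nil_or_concat L with rfl | ⟨L', k, hLe⟩
      · exact ⟨1, 1, one_mem _, by simp⟩
      rw [List.concat_eq_append] at hLe
      subst hLe
      obtain ⟨hL', hk'⟩ := Wd.append_iff.1 hL
      have hk : k < T.l := hk' k List.mem_cons_self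
      simp only [List.length_append, List.length_singleton] at hlen
      by_cases hneg : T.rw' L' (T.smp k) < T.N
      · obtain ⟨A, j, B, rfl, -, c, hc⟩ := deletion (F := F) hg hL' hk hneg
        obtain ⟨hA', hjB⟩ := Wd.append_iff.1 hL'
        have hAB : T.Wd (A ++ B) := Wd.append_iff.2 ⟨hA', (Wd.cons_iff.1 hjB).2⟩
        have e : nWd hg F (A ++ j :: B ++ [k]) = tor T F c * nWd hg F (A ++ B) := by
          rw [nWd_snoc, hc]
        have hfix : T.rw' (A ++ B) (R) = R := by
          rw [← rw'_of_nWd_eq hg hL hAB (c := 1) (d := c) (by rw [map_one, one_mul, e]) hR]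
          exact hLR
        obtain ⟨d, y, hy, he⟩ := ih (A ++ B) (by
          simp only [List.length_append, List.length_cons] at hlen ⊢; omega) hAB hfix
        exact ⟨c * d, y, hy, by rw [e, he, map_mul, mul_assoc]⟩
      have hki : k ≠ i₀ := by
        rintro rfl
        -- the positive root `q` commutes with the highest one
        set q := T.rw' (L' ++ [k]) (T.neg (T.smp k)) with hq
        have hqN : T.N ≤ q := by
          rw [hq, rw'_append, rw'_cons, rw'_nil, hg.ref_neg hk (hg.smp_lt hk), hg.ref_smp hk,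
            neg_neg (hg.smp_lt hk)]
          exact not_lt.1 hneg
        have hqn : q < T.n := rw'_lt hg hL (neg_lt (hg.smp_lt hk))
        obtain ⟨ε, -, h1⟩ := nWd_conj (F := F) hg hL (neg_lt (hg.smp_lt hk))
        obtain ⟨δ, -, h2⟩ := nWd_conj (F := F) hg hL hR
        have hq1 := hMc _ (hpos (xg_mem_genS hg (show q ∈ Set.Ico T.N T.n from ⟨hqN, hqn⟩)
          ((ε : F) * ((↑ε⁻¹ : F) * 1))))
        have hxe : x = xg hg (R) ((δ : F) * ((↑δ⁻¹ : F) * 1)) := by
          rw [hx, ← mul_assoc, ← Units.val_mul, mul_inv_cancel, Units.val_one, one_mul]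
        have hq2 : Commute (xg hg q ((ε : F) * ((↑ε⁻¹ : F) * 1)))
            (xg hg (R) ((δ : F) * ((↑δ⁻¹ : F) * 1))) := hxe ▸ hq1
        have h2' := (h2 ((↑δ⁻¹ : F) * 1)).1
        rw [hLR] at h2'
        rw [← h2', ← (h1 ((↑ε⁻¹ : F) * 1)).1, Commute.conj_iff] at hq2
        have h := xg_comm g hR (neg_lt (hg.smp_lt hk)) hne1 hne2 ((↑δ⁻¹ : F) * 1) ((↑ε⁻¹ : F) * 1)
        rw [hq2.eq, eq_comm, mul_eq_left] at h
        revert h hterm
        rcases hct : T.cTerms (R) (T.neg (T.smp k)) with _ | ⟨⟨a, C, e1, e2⟩, _ | ⟨b, l⟩⟩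
        · simp [singleTerm]
        · intro hterm h
          obtain ⟨han, -, -, -, -⟩ := cTerms_mem hg hR (neg_lt (hg.smp_lt hk))
            (hct ▸ List.mem_cons_self : (a, C, e1, e2) ∈ T.cTerms (R) (T.neg (T.smp k)))
          rcases e1 with _ | _ | e1 <;> rcases e2 with _ | _ | e2 <;>
            simp only [singleTerm, Bool.false_eq_true, nat_beq] at hterm
          simp only [cVal, hct, List.map_cons, List.map_nil, List.prod_cons, List.prod_nil, mul_one]
            at h
          have h0 := xg_injective hg han (h.trans (xg_zero hg a).symm)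
          rcases Int.natAbs_eq C with hC | hC <;> rw [hterm] at hC <;> subst hC <;> simp at h0
        · rcases e1 with _ | _ | e1 <;> rcases e2 with _ | _ | e2 <;> simp [singleTerm]
      obtain ⟨d, y, hy, he⟩ := ih L' (by omega) hL' (by
        rw [rw'_append, rw'_cons, rw'_nil, ((hJ k hk).resolve_left hki).2.2] at hLR
        exact hLR)
      exact ⟨d, y * nG hg F k, mul_mem hy (hnG k hk hki), by rw [nWd_snoc, he, mul_assoc]⟩
  refine le_antisymm ?_ ?_
  · rintro y ⟨hy, hyc⟩
    have hyx : Commute y x := Subgroup.mem_centralizer_singleton_iff.1 hyc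
    obtain ⟨b, hb, _, -, L, hL, ⟨c, rfl⟩, u, hu, rfl⟩ := bruhat_exists g hy
    obtain ⟨u', hu', c', rfl⟩ := (mem_borel_iff hg).1 hb
    have hu'' := hpos (uMinus_le_pos hg L hu)
    have e0 : u' * tor T F c' * (tor T F c * nWd hg F L) * u = u' * (tor T F (c' * c) * nWd hg F L) * u := by
      rw [map_mul]; group
    rw [e0] at hyx ⊢
    have hmid : Commute (tor T F (c' * c) * nWd hg F L) x := by
      have h := (((hMc _ (hpos hu')).inv_left.mul_left hyx).mul_left (hMc _ hu'').inv_left)
      rwa [show u'⁻¹ * (u' * (tor T F (c' * c) * nWd hg F L) * u) * u⁻¹ =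
        tor T F (c' * c) * nWd hg F L by group] at h
    obtain ⟨v, hv⟩ := mono_conj (F := F) hg hL (c' * c) hR
    have hfix : T.rw' L (R) = R := by
      have h := hv 1
      rw [← hx, hmid.eq, mul_inv_cancel_right, mul_one, hx] at h
      exact (xg_root_inj g hRN hR (rw'_lt hg hL hR) one_ne_zero (Units.ne_zero v) h).symm
    obtain ⟨d, z, hz, he⟩ := descent _ L le_rfl hL hfix
    rw [he, ← mul_assoc (tor T F _), ← map_mul] at hmid ⊢
    set e := c' * c * d
    refine mul_mem (mul_mem (hpos hu') (mul_mem ?_ hz)) hu''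
    have hte : Commute (tor T F e) x := by
      have h := hmid.mul_left (hMc _ hz).inv_left
      rwa [mul_inv_cancel_right] at h
    have hw : e i₀ = 1 := by
      have h := tor_xg hg e hR (1 : F)
      rw [← hx, hte.eq, mul_inv_cancel_right, mul_one, hx] at h
      have h1 := (xg_injective hg hR h).symm
      rw [Units.val_eq_one, wt, Finset.prod_eq_single i₀] at h1
      · rwa [hA, zpow_one] at h1
      · intro j hj hne
        rw [((hJ j (Finset.mem_range.1 hj)).resolve_left hne).1, zpow_zero]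
      · exact fun h => absurd (Finset.mem_range.2 hi₀) h
    rw [tor_eq_prod hg]
    refine Subgroup.list_prod_mem _ fun w hw' => ?_
    obtain ⟨j, hj, rfl⟩ := List.mem_map.1 hw'
    replace hj := List.mem_range.1 hj
    by_cases hne : j = i₀
    · subst hne; rw [hw, hS_one]; exact one_mem _
    have h := nE_simple (F := F) hg hj (e j)
    rw [eq_mul_inv_iff_mul_eq.2 h.symm]
    exact mul_mem (mul_mem (mul_mem (hsmp j hj _) (hnegS j hj hne _)) (hsmp j hj _)) (inv_mem (hnG j hj hne))
  · intro y hy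
    exact ⟨genS_le hg (fun r _ t => xg_mem_group hg r t) hy,
      Subgroup.mem_centralizer_singleton_iff.2 (hMc y hy).eq⟩

/-- A diagonal matrix in the group lies in `H`. -/
theorem diag_mem (g : T.GoodA) {y : GL T.D.Idx F} (hy : y ∈ T.D.group F)
    (hd : ∀ a b, a ≠ b → (y : Matrix T.D.Idx T.D.Idx F) a b = 0) : y ∈ T.D.diagonalSubgroup F := by
  have hg := g.toGood
  have hn := n_def (T := T)
  obtain ⟨b, hb, _, -, L, hL, ⟨c, rfl⟩, u, hu, rfl⟩ := bruhat_exists g hy
  set y := b * (tor T F c * nWd hg F L) * u with hy'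
  set m := tor T F c * nWd hg F L with hm
  have hu' : u⁻¹ ∈ T.D.borelSubgroup F :=
    inv_mem (genS_pos_le_borel hg (fun _ h => h) (uMinus_le_pos hg L hu))
  have hlow : ∀ p q : T.D.Idx, T.rho p < T.rho q → (m : Matrix T.D.Idx T.D.Idx F) p q = 0 := by
    intro p q hpq
    have e : m = b⁻¹ * y * u⁻¹ := by rw [hy']; group
    rw [e, Units.val_mul, Units.val_mul, Matrix.mul_apply]
    refine Finset.sum_eq_zero fun k _ => ?_
    rcases lt_or_ge (T.rho k) (T.rho q) with h | h
    · rw [borel_upper hg hu' h, mul_zero]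
    · rw [Matrix.mul_apply, Finset.sum_eq_single k]
      · rw [borel_upper hg (inv_mem hb) (hpq.trans_le h), zero_mul, zero_mul]
      · intro l _ hl; rw [hd l k hl, mul_zero]
      · simp
  have hge : ∀ s < T.n, s ≤ T.rw' L s := by
    intro s hs
    by_contra hlt
    have ht := rw'_lt hg hL hs
    obtain ⟨v, hv⟩ := nWd_col (F := F) hg hL hs
    let p : T.D.Idx := Sum.inr ⟨T.rw' L s, by rw [hg.nroots_eq]; exact ht⟩
    let q : T.D.Idx := Sum.inr ⟨s, by rw [hg.nroots_eq]; exact hs⟩
    have h := hlow p q (by simp only [p, q, rho]; split_ifs <;> omega)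
    rw [apply_eq_col hg (m : Matrix T.D.Idx T.D.Idx F) p q, show T.code q = T.l + s from rfl, hm,
      Units.val_mul, ← Matrix.mulVec_mulVec, hv, Matrix.mulVec_smul, tor_apply, dg_col_root hg] at h
    simp [bas, code, p] at h
  have hfix : ∀ s < T.n, T.rw' L s = s := by
    intro s hs
    refine le_antisymm ?_ (hge s hs)
    have h := hge _ (neg_lt hs)
    rw [rw'_neg hg hL hs, neg_def, neg_def] at h
    have := rw'_lt hg hL hs
    omega
  obtain ⟨⟨d, hd'⟩, -⟩ := nWd_torus_of_pos (F := F) hg L.length le_rfl hL fun s h1 h2 => (hfix s h2).symm ▸ h1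
  have hyB : y ∈ T.D.borelSubgroup F := by
    rw [hy', hm, hd', ← map_mul]
    exact mul_mem (mul_mem hb (torus_le_borel hg _)) (by simpa using inv_mem hu')
  obtain ⟨w, hw, e, he⟩ := (mem_borel_iff hg).1 hyB
  have hw1 : w = 1 := by
    refine Units.ext ?_
    rw [Units.val_one]
    refine eq_one_of_UT_of_tri hg (pos_UT hg hw) fun p q hpq => ?_
    rw [show w = y * (tor T F e)⁻¹ by rw [he]; group, ← map_inv, Units.val_mul, Matrix.mul_apply]
    refine Finset.sum_eq_zero fun k _ => ?_
    by_cases hk : k = q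
    · subst hk; rw [hd p k (fun h => by subst h; omega), zero_mul]
    · rw [tor_apply_ne _ hk, mul_zero]
  rw [he, hw1, one_mul, diagonalSubgroup_eq hg]
  exact ⟨e, rfl⟩

end Cfsg.Agent.ChevAut
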