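import Cfsg.Agent.Lib.ChevAut.BruhatExist
import Mathlib.GroupTheory.PGroup

/-! Subgroups generated by two conjugates of the highest root group in characteristic two. -/

set_option autoImplicit false
set_option maxRecDepth 8000

namespace Cfsg.Agent.ChevAut

open Cfsg.Lie Cfsg.Agent.Chev Cfsg.Agent.Chev.Tab

/-- Raise `s` to a positive root by reflections keeping `R` positive. -/
def lift (T : Tab) : ℕ → ℕ → ℕ → Bool
  | 0, _, s => Nat.ble T.N s
  | fuel + 1, R, s => Nat.ble T.N s ||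
    anyBelow (fun i => Nat.blt s (T.ref i s) && (Nat.ble T.N (T.ref i R) && lift T fuel (T.ref i R) (T.ref i s))) T.l

/-- The highest root commutes with the positive ones and pairs with any other root but its negative into a positive pair. -/
def checkHighest (T : Tab) : Bool :=
  allBelow (fun s => Nat.beq s (T.neg (T.n - 1)) || lift T T.n (T.n - 1) s) T.n

variable {T : Tab} {F : Type*} [Field F]

theorem lift_spec (g : T.Good) : ∀ fuel R s, R < T.n → T.N ≤ R → s < T.n → lift T fuel R s = true →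
    ∃ ω ∈ wSub g F, ∃ R' s', T.N ≤ R' ∧ R' < T.n ∧ T.N ≤ s' ∧ s' < T.n ∧ Moves g ω R R' ∧ Moves g ω s s' := by
  intro fuel
  induction fuel with
  | zero =>
    intro R s hR hRN hs h
    exact ⟨1, one_mem _, R, s, hRN, hR, nat_ble.1 h, hs, moves_one g R, moves_one g s⟩
  | succ k ih =>
    intro R s hR hRN hs h
    simp only [lift, Bool.or_eq_true, anyBelow_eq_true, Bool.and_eq_true, nat_ble] at h
    rcases h with h | ⟨i, hi, -, hN, h⟩
    · exact ⟨1, one_mem _, R, s, hRN, hR, h, hs, moves_one g R, moves_one g s⟩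
    · obtain ⟨ω, hω, R', s', a, b, c, d, m1, m2⟩ := ih _ _ (g.ref_lt hi hR) hN (g.ref_lt hi hs) h
      exact ⟨ω * nG g F i, mul_mem hω (nG_mem_wSub g hi), R', s', a, b, c, d,
        (moves_nG g hi hR).trans m1, (moves_nG g hi hs).trans m2⟩

/-- In characteristic two the positive root elements generate a 2-group. -/
theorem pos_isPGroup (g : T.Good) [CharP F 2] : IsPGroup 2 (genS g F (Set.Ico T.N T.n)) := by
  rintro ⟨x, hx⟩
  refine ⟨T.l + T.n, Subtype.ext (Units.ext ?_)⟩
  have hn := g.N_pos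
  have : Nonempty T.D.Idx := ⟨Sum.inr ⟨0, by rw [g.nroots_eq, n_def]; omega⟩⟩
  have : CharP (Matrix T.D.Idx T.D.Idx F) 2 := inferInstance
  have : Fact (Nat.Prime 2) := ⟨Nat.prime_two⟩
  have h := pos_sub_one_pow g hx
  have h2 : ((x : Matrix T.D.Idx T.D.Idx F) - 1) ^ (2 ^ (T.l + T.n)) = 0 :=
    pow_eq_zero_of_le Nat.lt_two_pow_self.le h
  rw [sub_pow_char_pow_of_commute (p := 2) (h := Commute.one_right _), one_pow, sub_eq_zero] at h2
  simpa using h2

theorem highest_conj (g : T.GoodA) {b : GL T.D.Idx F} (hb : b ∈ T.D.borelSubgroup F) (t : F) :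
    ∃ t', b * xg g.toGood (T.n - 1) t * b⁻¹ = xg g.toGood (T.n - 1) t' := by
  have hn := n_def (T := T)
  have hN := g.toGood.N_pos
  obtain ⟨u, hu, c, rfl⟩ := (mem_borel_iff g.toGood).1 hb
  refine ⟨((wt T F c (T.n - 1) : Fˣ) : F) * t, ?_⟩
  have e : u * tor T F c * xg g.toGood (T.n - 1) t * (u * tor T F c)⁻¹ =
      u * (tor T F c * xg g.toGood (T.n - 1) t * (tor T F c)⁻¹) * u⁻¹ := by group
  rw [e, tor_xg g.toGood c (by omega)]
  generalize ((wt T F c (T.n - 1) : Fˣ) : F) * t = a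
  suffices h : Commute u (xg g.toGood (T.n - 1) a) by rw [h.eq, mul_inv_cancel_right]
  refine genS_induction g.toGood (p := fun u => Commute u (xg g.toGood (T.n - 1) a)) (Commute.one_left _) ?_ hu
  rintro r ⟨hrN, hrn⟩ w y hy
  refine Commute.mul_left ?_ hy
  by_cases hr : r = T.n - 1
  · subst hr; show _ = _; rw [xg_add, xg_add, add_comm]
  have h2 : r ≠ T.neg (T.n - 1) := by rw [neg_def]; omega
  show _ = _
  rw [xg_comm g (by omega) hrn hr h2]
  convert mul_one _
  refine List.prod_eq_one fun z hz => ?_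
  simp only [cVal, List.map_map, List.mem_map, Function.comp_apply] at hz
  obtain ⟨q, hq, -⟩ := hz
  exfalso
  obtain ⟨h1, -, -, -, h5⟩ := cTerms_mem g.toGood (by omega) hrn hq
  have := (h5 (by omega) hrN).1
  omega

/-- Two conjugates of the highest root group generate a 2-group or a conjugate of `⟨X_r, X_{-r}⟩`. -/
theorem root_pairs (g : T.GoodA) (hc : checkHighest T = true) [CharP F 2] {y : GL T.D.Idx F}
    (hy : y ∈ T.D.group F) :
    IsPGroup 2 ↥(T.D.rootSubgroup F (T.D.nroots - 1) ⊔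
        (T.D.rootSubgroup F (T.D.nroots - 1)).map (MulAut.conj y).toMonoidHom) ∨
    ∃ h ∈ T.D.group F, (T.D.rootSubgroup F (T.D.nroots - 1) ⊔
        (T.D.rootSubgroup F (T.D.nroots - 1)).map (MulAut.conj y).toMonoidHom).map (MulAut.conj h).toMonoidHom =
      T.D.rootSubgroup F (T.D.nroots - 1) ⊔ T.D.rootSubgroup F 0 := by
  rw [show T.D.nroots - 1 = T.n - 1 from congrArg (· - 1) g.toGood.nroots_eq]
  have hn := n_def (T := T)
  have hN := g.toGood.N_pos
  have hR : T.n - 1 < T.n := by omega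
  have hRN : T.N ≤ T.n - 1 := by omega
  set X := T.D.rootSubgroup F (T.n - 1) with hXdef
  have hmove : ∀ {ω : GL T.D.Idx F} {s s' : ℕ}, Moves g.toGood ω s s' →
      (T.D.rootSubgroup F s).map (MulAut.conj ω).toMonoidHom = T.D.rootSubgroup F s' := by
    intro ω s s' h
    refine le_antisymm ?_ fun z hz => ?_
    · rintro _ ⟨z, hz, rfl⟩
      obtain ⟨t, rfl⟩ := (mem_rootSubgroup_iff g.toGood).1 hz
      obtain ⟨ε, hε⟩ := h
      exact (mem_rootSubgroup_iff g.toGood).2 ⟨_, (hε t).1⟩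
    · obtain ⟨t, rfl⟩ := (mem_rootSubgroup_iff g.toGood).1 hz
      obtain ⟨δ, hδ⟩ := h.symm
      refine ⟨xg g.toGood s ((δ : F) * t), (mem_rootSubgroup_iff g.toGood).2 ⟨_, rfl⟩, ?_⟩
      rw [← (hδ t).1]
      simp [mul_assoc]
  have hB : ∀ b ∈ T.D.borelSubgroup F, X.map (MulAut.conj b).toMonoidHom = X := by
    intro b hb
    refine le_antisymm ?_ fun z hz => ?_
    · rintro _ ⟨z, hz, rfl⟩
      obtain ⟨t, rfl⟩ := (mem_rootSubgroup_iff g.toGood).1 hz
      exact (mem_rootSubgroup_iff g.toGood).2 (highest_conj g hb t)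
    · obtain ⟨t, rfl⟩ := (mem_rootSubgroup_iff g.toGood).1 hz
      obtain ⟨t', ht'⟩ := highest_conj g (inv_mem hb) t
      refine ⟨xg g.toGood (T.n - 1) t', (mem_rootSubgroup_iff g.toGood).2 ⟨_, rfl⟩, ?_⟩
      rw [← ht']
      simp [mul_assoc]
  have hgroup : T.D.borelSubgroup F ≤ T.D.group F := by
    intro b hb
    obtain ⟨u, hu, c, rfl⟩ := (mem_borel_iff g.toGood).1 hb
    exact mul_mem (genS_le g.toGood (fun r _ t => xg_mem_group g.toGood r t) hu) (tor_mem_group g.toGood c)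
  obtain ⟨b, hb, ω, hω, b', hb', rfl⟩ := mem_cells g hy
  obtain ⟨s, hs, hmv⟩ := exists_moves g.toGood hω _ hR
  have hcomp : ∀ (a c : GL T.D.Idx F) (K : Subgroup (GL T.D.Idx F)),
      K.map (MulAut.conj (a * c)).toMonoidHom =
        (K.map (MulAut.conj c).toMonoidHom).map (MulAut.conj a).toMonoidHom := by
    intro a c K
    rw [Subgroup.map_map]
    congr 1
    ext z; simp [mul_assoc]
  have hH : X ⊔ X.map (MulAut.conj (b * ω * b')).toMonoidHom =
      (X ⊔ T.D.rootSubgroup F s).map (MulAut.conj b).toMonoidHom := by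
    rw [Subgroup.map_sup, hB b hb, hcomp, hB b' hb', hcomp, hmove hmv]
  rw [hH]
  by_cases hsn : s = T.neg (T.n - 1)
  · refine Or.inr ⟨b⁻¹, inv_mem (hgroup hb), ?_⟩
    have hs0 : s = 0 := by rw [hsn, neg_def]; omega
    rw [← hcomp, inv_mul_cancel, hs0]
    ext z; simp
  · left
    have h := allBelow_eq_true.1 hc s hs
    simp only [Bool.or_eq_true, nat_beq] at h
    obtain ⟨ω₂, -, R', s', hR'N, hR', hs'N, hs', m1, m2⟩ := lift_spec (F := F) g.toGood _ _ _ hR hRN hs (h.resolve_left hsn)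
    refine IsPGroup.map ?_ _
    have e : (X ⊔ T.D.rootSubgroup F s).map (MulAut.conj ω₂).toMonoidHom ≤
        genS g.toGood F (Set.Ico T.N T.n) := by
      rw [Subgroup.map_sup, hXdef, hmove m1, hmove m2]
      refine sup_le ?_ ?_
      · intro z hz
        obtain ⟨t, rfl⟩ := (mem_rootSubgroup_iff g.toGood).1 hz
        exact xg_mem_genS g.toGood (show R' ∈ Set.Ico T.N T.n from ⟨hR'N, hR'⟩) t
      · intro z hz
        obtain ⟨t, rfl⟩ := (mem_rootSubgroup_iff g.toGood).1 hz
        exact xg_mem_genS g.toGood (show s' ∈ Set.Ico T.N T.n from ⟨hs'N, hs'⟩) t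
    exact ((pos_isPGroup (F := F) g.toGood).to_le e).of_equiv
      ((X ⊔ T.D.rootSubgroup F s).equivMapOfInjective _ (MulAut.conj ω₂).injective).symm

end Cfsg.Agent.ChevAut
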