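import Cfsg.Agent.Lib.ChevAut.TwAutG2Phi

/-! The outer automorphisms of `²G₂(q)`. -/

set_option autoImplicit false
set_option maxRecDepth 8000

namespace Cfsg.Agent.ChevAut.TwOutG2

open Cfsg.Lie Cfsg.Agent.Chev Cfsg.Agent.Chev.Tab Cfsg.Agent.ChevAut.Tw

variable {F : Type*} [Field F] [Fintype F] [CharP F 3] {m : ℕ}
  (hK : Fintype.card F = 3 ^ (2 * m + 1))

/-- the longest element through the orbit words -/
def opp : List ℕ := [0]

theorem opp_checks : (∀ b ∈ opp, b < 1) ∧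
    (allBelow (fun s => Nat.blt s G2Data.tab.N ||
      Nat.blt (G2Data.tab.rw' (flatW TwG2.wd opp) s) G2Data.tab.N) G2Data.tab.n) = true ∧
    (∀ b < 1, (G2Data.tab.invSet (TwG2.wd b)).image (G2Data.tab.rw' (flatW TwG2.wd opp)) =
      (G2Data.tab.invSet (TwG2.wd b)).image (G2Data.tab.rw' (TwG2.wd b))) := by decide +kernel

theorem setup : Setup (TwG2.X hK) opp where
  blocks := TwG2.blocks hK
  exQ := ⟨3 ^ (2 * m + 1), 2, TwG2.hq, TwG2.hblk hK⟩
  opp := by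
    obtain ⟨h1, h2, h3⟩ := opp_checks
    refine ⟨h1, fun s hs hsn => ?_, h3⟩
    have := allBelow_eq_true.1 h2 s hsn
    simp only [Bool.or_eq_true, nat_blt] at this
    exact this.resolve_left (by omega)
  sep := TwG2.sep hK

theorem rigid : Rigid (TwG2.X hK) := fun θ π _ _ b => by
  have l1 : (b : ℕ) < 1 := b.2
  have l2 : ((π b : Fin (TwG2.X hK).nb) : ℕ) < 1 := (π b).2
  exact Fin.ext (by omega)

/-- the normalised automorphism with given parameters -/
noncomputable def phi (p : Prm F) : MulAut ↥(TwG2.X hK).G1 := (exists_phi hK p).choose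

theorem phi_spec (p : Prm F) : phi hK p ∈ Tw.normAut (TwG2.X hK) ∧
    (∀ t u v, phi hK p (e hK t u v) = e hK ((p.1 : F) * p.2 t)
      ((p.1 : F) * ((p.1 : F) ^ 3 ^ m) ^ 3 * p.2 u)
      ((p.1 : F) ^ 2 * ((p.1 : F) ^ 3 ^ m) ^ 3 * p.2 v)) ∧
    ∀ t u v, phi hK p (e' hK t u v) = e' hK (((p.1⁻¹ : Fˣ) : F) * p.2 t)
      (((p.1⁻¹ : Fˣ) : F) * (((p.1⁻¹ : Fˣ) : F) ^ 3 ^ m) ^ 3 * p.2 u)
      (((p.1⁻¹ : Fˣ) : F) ^ 2 * (((p.1⁻¹ : Fˣ) : F) ^ 3 ^ m) ^ 3 * p.2 v) :=
  (exists_phi hK p).choose_spec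

theorem phi_injective : Function.Injective (phi hK) := by
  intro p p' h
  obtain ⟨-, h1, -⟩ := phi_spec hK p
  obtain ⟨-, h1', -⟩ := phi_spec hK p'
  have e0 : ∀ t, (p.1 : F) * p.2 t = (p'.1 : F) * p'.2 t := fun t =>
    (e_inj hK ((h1 t 0 0).symm.trans (h ▸ h1' t 0 0))).1
  have ea : p.1 = p'.1 := Units.ext (by simpa using e0 1)
  refine Prod.ext ea (RingEquiv.ext fun t => ?_)
  have := e0 t
  rw [ea] at this
  exact mul_left_cancel₀ (Units.ne_zero _) this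

omit [Fintype F] [CharP F 3] in
theorem tor_word (c : ℕ → Fˣ) (w : List (ℕ × F)) (hw : ∀ e ∈ w, e.1 < G2Data.tab.n) :
    tor G2Data.tab F c * (w.map fun e => xg TwG2.g0 e.1 e.2).prod * (tor G2Data.tab F c)⁻¹ =
      (w.map fun e => xg TwG2.g0 e.1 ((wt G2Data.tab F c e.1 : F) * e.2)).prod := by
  induction w with
  | nil => simp
  | cons e w ih =>
    simp only [List.map_cons, List.prod_cons]
    rw [← ih fun j hj => hw j (List.mem_cons_of_mem _ hj),
      ← tor_xg TwG2.g0 c (hw e List.mem_cons_self)]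
    group

/-- the parameter of the torus element scaling by `c` -/
def sU (m : ℕ) (c : Fˣ) : Fˣ := c ^ 2 * (c ^ 3 ^ m) ^ 3

/-- the fixed torus -/
noncomputable def pT (s : Fˣ) : ↥(TwG2.X hK).G1 :=
  ⟨tor G2Data.tab F (TwG2.par m s), TwG2.par_mem hK s⟩

include hK in
theorem sU_theta (c : F) : (c ^ 2 * (c ^ 3 ^ m) ^ 3) ^ 3 ^ m = c * (c ^ 3 ^ m) ^ 2 := by
  have h := theta_cube hK c
  simp only [← TwG2.psi_apply] at h ⊢
  simp only [map_mul, map_pow, h]
  ring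

include hK in
theorem wt_vals (c : Fˣ) :
    let w := fun r => (wt G2Data.tab F (TwG2.par m (sU m c)) r : F)
    w g2a = (c : F) ^ 3 ^ m ∧ w g2b = c ∧ w g2ab = c * (c : F) ^ 3 ^ m ∧
      w g2aab = c * ((c : F) ^ 3 ^ m) ^ 2 ∧ w g2aaab = c * ((c : F) ^ 3 ^ m) ^ 3 ∧
      w g2aaabb = (c : F) ^ 2 * ((c : F) ^ 3 ^ m) ^ 3 := by
  have hA : ([g2a, g2b, g2ab, g2aab, g2aaab, g2aaabb] : List ℕ).map (fun r => (List.range 2).map
      fun j => G2Data.tab.A j r) = [[2, -1], [-3, 2], [-1, 1], [1, 0], [3, -1], [0, 1]] := by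
    decide +kernel
  simp only [List.range_succ, List.range_zero, List.nil_append, List.cons_append, List.map_cons,
    List.map_nil, List.cons.injEq, and_true] at hA
  have hexp : ∀ r : ℕ, (wt G2Data.tab F (TwG2.par m (sU m c)) r : F) =
      ((c : F) * ((c : F) ^ 3 ^ m) ^ 2) ^ G2Data.tab.A 0 r *
        ((c : F) ^ 2 * ((c : F) ^ 3 ^ m) ^ 3) ^ G2Data.tab.A 1 r := fun r => by
    simp [wt, show G2Data.tab.l = 2 from rfl, Finset.prod_range_succ, TwG2.par, sU, sU_theta hK]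
  have hc : (c : F) ≠ 0 := c.ne_zero
  intro w
  refine ⟨?_, ?_, ?_, ?_, ?_, ?_⟩ <;> simp only [w, hexp, hA, zpow_neg,
    zpow_ofNat] <;> field_simp

theorem pT_conj (c : Fˣ) (t u v : F) :
    pT hK (sU m c) * e hK t u v * (pT hK (sU m c))⁻¹ =
      e hK ((c : F) * t) ((c : F) * ((c : F) ^ 3 ^ m) ^ 3 * u)
        ((c : F) ^ 2 * ((c : F) ^ 3 ^ m) ^ 3 * v) := by
  obtain ⟨w1, w2, w3, w4, w5, w6⟩ := wt_vals hK c
  refine Subtype.ext ?_
  rw [Subgroup.coe_mul, Subgroup.coe_mul, Subgroup.coe_inv]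
  refine (tor_word _ _ (word_lt (m := m) t u v).1).trans ?_
  show _ = ((reeWordU (3 ^ m) _ _ _).map fun e => xg TwG2.g0 e.1 e.2).prod
  conv_rhs => rw [← RingHom.id_apply t, ← RingHom.id_apply u, ← RingHom.id_apply v]
  rw [← class_scale hK (fun r => (wt G2Data.tab F (TwG2.par m (sU m c)) r : F)) w1 w2 w3 w4 w5 w6
    (RingHom.id F) t u v, List.map_map]
  rfl

include hK in
theorem sF_surj (v : F) : ∃ t, t ^ 2 * (t ^ 3 ^ m) ^ 3 = v := by
  refine Finite.injective_iff_surjective.1 (fun x y (h : x ^ 2 * (x ^ 3 ^ m) ^ 3 = y ^ 2 * (y ^ 3 ^ m) ^ 3) => ?_) v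
  have key : ∀ z : F, (z ^ 2 * (z ^ 3 ^ m) ^ 3) ^ 2 / ((z ^ 2 * (z ^ 3 ^ m) ^ 3) ^ 3 ^ m) ^ 3 = z := by
    intro z
    rw [sU_theta hK]
    rcases eq_or_ne z 0 with rfl | hz
    · simp
    · field_simp
  rw [← key x, h, key]

theorem e_zero : e hK 0 0 0 = 1 := by
  have h := e_mul hK 0 0 0 0 0 0
  simp only [mul_zero, zero_mul, add_zero, sub_zero, ne_eq, OfNat.ofNat_ne_zero, not_false_eq_true,
    zero_pow] at h
  exact mul_eq_left.1 h

theorem e_cube (t u v : F) :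
    e hK t u v * e hK t u v * e hK t u v = e hK 0 0 (-(t ^ 2 * (t ^ 3 ^ m) ^ 3)) := by
  have h3 := TwG2.three_zero (F := F)
  rw [e_mul, e_mul]
  congr 1
  · linear_combination t * h3
  · linear_combination (u - t * (t ^ 3 ^ m) ^ 3) * h3
  · linear_combination (v - t * u) * h3

theorem center_mul (v w : F) : e hK 0 0 v * e hK 0 0 w = e hK 0 0 (v + w) := by
  rw [e_mul]; simp

theorem split_e (t u v : F) : e hK t 0 0 * e hK 0 u v = e hK t u v := by
  rw [e_mul]; simp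

theorem split_mid (u v : F) : e hK 0 u 0 * e hK 0 0 v = e hK 0 u v := by
  rw [e_mul]; simp

theorem mid_mul (u w : F) : e hK 0 u 0 * e hK 0 w 0 = e hK 0 (u + w) 0 := by
  rw [e_mul]; simp

/-- the images of the one-parameter pieces -/
theorem torus_action {θ : MulAut ↥(TwG2.X hK).G1} (hθ : θ ∈ Tw.normAut (TwG2.X hK)) :
    ∃ (α : Fˣ) (σ : F ≃+* F) (β γ : F), ∀ t, θ (e hK t 0 0) = e hK ((α : F) * σ t)
      (σ t * (σ t ^ 3 ^ m) ^ 3 * β) (σ t ^ 2 * (σ t ^ 3 ^ m) ^ 3 * γ) := by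
  have hS := setup hK
  obtain ⟨hA, -⟩ := fix_blocks hS (rigid hK) hθ Nat.zero_lt_one
  have himg : ∀ t u v, ∃ t' u' v', θ (e hK t u v) = e hK t' u' v' := fun t u v =>
    mem_posB hK ((hA _).1 (e_mem hK t u v))
  -- the torus
  have htor : ∀ s : Fˣ, ∃ s', θ (pT hK s) = pT hK s' := by
    intro s
    have h1 : MulAut.conj (θ (pT hK s)) ∈ Tw.normAut (TwG2.X hK) := by
      have : MulAut.conj (θ (pT hK s)) = θ * MulAut.conj (pT hK s) * θ⁻¹ := by
        ext y : 1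
        simp [MulAut.mul_apply]
      rw [this]
      exact mul_mem (mul_mem hθ (tor_mem_normAut (c := TwG2.par m s) rfl)) (inv_mem hθ)
    obtain ⟨c, hc⟩ := Tw.conj_mem_normAut hS h1
    have hfix := (TwG2.twisted_fixed hK _ (θ (pT hK s)).2).2
    rw [hc, TwG2.sigma_tor] at hfix
    have h0 := TwG2.tor_inj hfix 0 (by norm_num)
    simp [G2Data.isog] at h0
    refine ⟨c 1, Subtype.ext (hc.trans (tor_congr TwG2.g0 fun j hj => ?_))⟩
    change j < 2 at hj
    interval_cases j <;> simp [TwG2.par, h0]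
  choose f hf using htor
  -- the cubes
  have hcen : ∀ v, ∃ w, θ (e hK 0 0 v) = e hK 0 0 w := by
    intro v
    obtain ⟨t, ht⟩ := sF_surj hK (-v)
    obtain ⟨t', u', v', h⟩ := himg t 0 0
    refine ⟨-(t' ^ 2 * (t' ^ 3 ^ m) ^ 3), ?_⟩
    rw [show v = -(t ^ 2 * (t ^ 3 ^ m) ^ 3) by rw [ht, _root_.neg_neg], ← e_cube hK t 0 0, map_mul,
      map_mul, h, e_cube]
  choose g hg using hcen
  have hadd : ∀ v w, g (v + w) = g v + g w := fun v w => by
    have := congrArg θ (center_mul hK v w)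
    rw [map_mul, hg, hg, hg, center_mul] at this
    exact (e_inj hK this).2.2.symm
  have hinj : Function.Injective g := fun v w h =>
    (e_inj hK (θ.injective (((hg v).trans (by rw [h])).trans (hg w).symm))).2.2
  have hg0 : g 0 = 0 := by simpa using hadd 0 0
  have hsF : ∀ x : Fˣ, ∃ c, sU m c = x := fun x => by
    obtain ⟨t, ht⟩ := sF_surj hK (x : F)
    have ht0 : t ≠ 0 := by rintro rfl; simp at ht; exact x.ne_zero ht.symm
    exact ⟨Units.mk0 t ht0, Units.ext (by simpa [sU] using ht)⟩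
  have hscale : ∀ (x : Fˣ) (v : F), g (x * v) = (f x : F) * g v := by
    intro x v
    obtain ⟨c, rfl⟩ := hsF x
    obtain ⟨d, hd⟩ := hsF (f (sU m c))
    have h := congrArg θ (pT_conj hK c 0 0 v)
    rw [map_mul, map_mul, map_inv, hf, ← hd, hg, mul_zero, mul_zero, pT_conj, hg, mul_zero,
      mul_zero] at h
    have h2 := (e_inj hK h).2.2
    rw [← hd]
    simpa [sU] using h2.symm
  have hg1 : g 1 ≠ 0 := fun h => one_ne_zero (hinj (h.trans hg0.symm))
  obtain ⟨a, σ, hσ⟩ := semilinear g hadd hinj (fun t b => by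
    rcases eq_or_ne t 0 with rfl | ht
    · simp [hg0]
    have e1 := hscale (Units.mk0 t ht) 1
    have e2 := hscale (Units.mk0 t ht * Units.mk0 t ht) b
    have e3 := hscale (Units.mk0 t ht) t
    simp only [Units.val_mk0, mul_one, Units.val_mul] at e1 e2 e3
    have e4 := hscale (Units.mk0 t ht * Units.mk0 t ht) 1
    simp only [Units.val_mk0, mul_one, Units.val_mul] at e4
    rw [pow_two, e2, e1, mul_div_cancel_right₀ _ hg1]
    rw [e4, e1, ← mul_assoc] at e3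
    rw [mul_right_cancel₀ hg1 e3, pow_two])
  have hfσ : ∀ x : Fˣ, (f x : F) = σ x := fun x => by
    have e1 := hscale x 1
    rw [mul_one, hσ, hσ, map_one, mul_one] at e1
    exact mul_right_cancel₀ a.ne_zero (e1.symm.trans (mul_comm _ _))
  have hTor : ∀ c : Fˣ, θ (pT hK (sU m c)) = pT hK (sU m (Units.map σ.toRingHom.toMonoidHom c)) :=
    fun c => by
    rw [hf]
    congr 1
    refine Units.ext ?_
    rw [hfσ]
    simp [sU, map_mul, map_pow]
  obtain ⟨α, β, γ, h1⟩ := himg 1 0 0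
  have hα : α ≠ 0 := by
    rintro rfl
    have h := congrArg θ (e_cube hK 1 0 0)
    rw [map_mul, map_mul, h1, e_cube, hg] at h
    have h2 := (e_inj hK h).2.2
    simp only [one_pow, mul_one, ne_eq, OfNat.ofNat_ne_zero, not_false_eq_true, zero_pow, zero_mul,
      neg_zero] at h2
    have := hinj (h2.symm.trans hg0.symm)
    exact one_ne_zero (neg_eq_zero.1 this)
  refine ⟨Units.mk0 α hα, σ, β, γ, fun t => ?_⟩
  rcases eq_or_ne t 0 with rfl | ht
  · simp [e_zero]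
  have h := congrArg θ (pT_conj hK (Units.mk0 t ht) 1 0 0)
  rw [map_mul, map_mul, map_inv, hTor, h1, pT_conj] at h
  simp only [Units.val_mk0, mul_zero, mul_one] at h
  rw [← h]
  congr 1
  simp [mul_comm]

/-- automorphisms fixing the parameters are trivial on the unipotent group -/
theorem fix_unipotent (hm : 1 ≤ m) {θ : MulAut ↥(TwG2.X hK).G1} {β γ : F}
    (h : ∀ t, θ (e hK t 0 0) = e hK t (t * (t ^ 3 ^ m) ^ 3 * β) (t ^ 2 * (t ^ 3 ^ m) ^ 3 * γ)) :
    ∀ t u v, θ (e hK t u v) = e hK t u v := by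
  have h3 := TwG2.three_zero (F := F)
  have hcen : ∀ v, θ (e hK 0 0 v) = e hK 0 0 v := fun v => by
    obtain ⟨t, ht⟩ := sF_surj hK (-v)
    rw [show v = -(t ^ 2 * (t ^ 3 ^ m) ^ 3) by rw [ht, _root_.neg_neg], ← e_cube hK t 0 0, map_mul,
      map_mul, h, e_cube, e_cube]
  have hneg : ∀ t : F, (-t) ^ 3 ^ m = -(t ^ 3 ^ m) := fun t => by
    rw [neg_eq_neg_one_mul, mul_pow, TwG2.neg_one_theta, neg_one_mul]
  have hpair : ∀ t : F, θ (e hK 0 (t * (t ^ 3 ^ m) ^ 3) (-(t ^ 2 * (t ^ 3 ^ m) ^ 3))) =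
      e hK 0 ((1 - β) * (t * (t ^ 3 ^ m) ^ 3)) ((β - 1) * (t ^ 2 * (t ^ 3 ^ m) ^ 3)) := by
    intro t
    have e1 : e hK t 0 0 * e hK (-t) 0 0 =
        e hK 0 (t * (t ^ 3 ^ m) ^ 3) (-(t ^ 2 * (t ^ 3 ^ m) ^ 3)) := by
      rw [e_mul, hneg]
      congr 1
      · ring
      · ring
      · linear_combination (t ^ 2 * (t ^ 3 ^ m) ^ 3) * h3
    rw [← e1, map_mul, h, h, e_mul, hneg]
    congr 1
    · ring
    · linear_combination (β * (t * (t ^ 3 ^ m) ^ 3)) * h3
    · linear_combination (t ^ 2 * (t ^ 3 ^ m) ^ 3) * h3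
  have hsplit : ∀ u v, θ (e hK 0 u v) = θ (e hK 0 u 0) * e hK 0 0 v := fun u v => by
    rw [← split_mid hK u v, map_mul, hcen]
  have hT : ∀ t : F, θ (e hK 0 (t * (t ^ 3 ^ m) ^ 3) 0) =
      e hK 0 ((1 - β) * (t * (t ^ 3 ^ m) ^ 3)) (β * (t ^ 2 * (t ^ 3 ^ m) ^ 3)) := by
    intro t
    have e1 := hpair t
    rw [hsplit, ← eq_mul_inv_iff_mul_eq] at e1
    have e2 : (e hK 0 0 (-(t ^ 2 * (t ^ 3 ^ m) ^ 3)))⁻¹ = e hK 0 0 (t ^ 2 * (t ^ 3 ^ m) ^ 3) :=
      inv_eq_of_mul_eq_one_right (by rw [center_mul, neg_add_cancel, e_zero])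
    rw [e1, e2, e_mul]
    congr 1
    · ring
    · simp
    · simp; ring
  have hβ : β = 0 := by
    have e1 := hT (-1)
    have e2 := hT 1
    rw [hneg, one_pow] at e1
    rw [one_pow] at e2
    norm_num at e1 e2
    have := (e_inj hK (e1.symm.trans e2)).2.2
    linear_combination β * h3 + this
  subst hβ
  simp only [mul_zero] at h
  have hmid : ∀ u, θ (e hK 0 u 0) = e hK 0 u 0 := by
    have hsq : ∀ w : F, θ (e hK 0 (w ^ 2) 0) = e hK 0 (w ^ 2) 0 := by
      intro w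
      have e1 : ((w ^ 3 ^ m) ^ 3 / w) * (((w ^ 3 ^ m) ^ 3 / w) ^ 3 ^ m) ^ 3 = w ^ 2 := by
        rcases eq_or_ne w 0 with rfl | hw
        · simp
        have hc : ((w ^ 3 ^ m) ^ 3) ^ 3 ^ m = w := by
          rw [← pow_mul, mul_comm, pow_mul, theta_cube hK w]
        rw [div_pow, hc]
        field_simp
      have e2 := hT ((w ^ 3 ^ m) ^ 3 / w)
      rw [e1] at e2
      simpa using e2
    intro u
    rcases eq_or_ne u 0 with rfl | hu
    · rw [e_zero, map_one]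
    obtain ⟨w, hw | hw⟩ := TwG2.pm_square hK (Units.mk0 u hu)
    · have hw' : (w : F) ^ 2 = u := by rw [pow_two, ← Units.val_mul, hw, Units.val_mk0]
      rw [← hw', hsq]
    · have hw' : (w : F) ^ 2 = -u := by rw [pow_two, ← Units.val_mul, hw, Units.val_neg, Units.val_mk0]
      have e2 : e hK 0 u 0 = (e hK 0 ((w : F) ^ 2) 0)⁻¹ := eq_inv_of_mul_eq_one_left
        (by rw [mid_mul, hw', add_neg_cancel, e_zero])
      rw [e2, map_inv, hsq]
  have hmc : ∀ u v, θ (e hK 0 u v) = e hK 0 u v := fun u v => by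
    rw [hsplit, hmid, split_mid]
  have hγ : γ = 0 := by
    classical
    obtain ⟨t, ht⟩ : ∃ t : F, t ∉ ({0, 1, -1} : Finset F) := by
      by_contra hne
      push Not at hne
      have h2 : Fintype.card F ≤ 3 :=
        le_trans (Finset.card_le_card (s := Finset.univ) fun x _ => hne x) Finset.card_le_three
      rw [hK] at h2
      have : 3 ^ 3 ≤ 3 ^ (2 * m + 1) := Nat.pow_le_pow_right (by norm_num) (by omega)
      omega
    simp only [Finset.mem_insert, Finset.mem_singleton, not_or] at ht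
    obtain ⟨ht0, ht1, ht2⟩ := ht
    have hθt : t - (t ^ 3 ^ m) ^ 3 ≠ 0 := by
      intro hh
      rw [sub_eq_zero] at hh
      have e1 : ((t ^ 3 ^ m) ^ 3) ^ 3 ^ m = t := by
        rw [← pow_mul, mul_comm, pow_mul, theta_cube hK t]
      rw [← hh] at e1
      rw [e1] at hh
      have e2 : (t - 1) * (t + 1) = 0 := by
        have : t * 1 = t * t ^ 2 := by rw [mul_one]; linear_combination hh
        linear_combination -(mul_left_cancel₀ ht0 this)
      rcases mul_eq_zero.1 e2 with e3 | e3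
      · exact ht1 (sub_eq_zero.1 e3)
      · exact ht2 (eq_neg_of_add_eq_zero_left e3)
    have e1 : e hK t 0 0 * e hK 1 0 0 = e hK (t + 1) 0 0 * e hK 0 (-t) (t - t ^ 2) := by
      rw [e_mul, e_mul]; congr 1 <;> simp
    have e2 := congrArg θ e1
    rw [map_mul, map_mul, h, h, h, hmc, e_mul, e_mul] at e2
    have e3 := (e_inj hK e2).2.2
    simp only [one_pow, mul_one, mul_zero, sub_zero, zero_mul, add_pow_char_pow] at e3
    have e4 : (t - 1) * (t - (t ^ 3 ^ m) ^ 3) * γ = 0 := by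
      simp at e3
      linear_combination -e3 - (γ * ((t + 1) ^ 2 * ((t ^ 3 ^ m) ^ 2 + t ^ 3 ^ m) +
        t * (t ^ 3 ^ m) ^ 3 + t)) * h3
    exact (mul_eq_zero.1 e4).resolve_left (mul_ne_zero (sub_ne_zero.2 ht1) hθt)
  subst hγ
  simp only [mul_zero] at h
  intro t u v
  rw [← split_e hK t u v, map_mul, h, hmc]

theorem phi_surjective (hm : 1 ≤ m) :
    ∀ θ ∈ Tw.normAut (TwG2.X hK), ∃ p, phi hK p = θ := by
  intro θ hθ
  have hS := setup hK
  obtain ⟨α, σ, β, γ, h⟩ := torus_action hK hθ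
  refine ⟨(α, σ), ?_⟩
  obtain ⟨hmem, f1, f2⟩ := phi_spec hK (α, σ)
  set χ := phi hK (α, σ) with hχ
  have hθ2 : χ⁻¹ * θ ∈ Tw.normAut (TwG2.X hK) := mul_mem (inv_mem hmem) hθ
  have hfix := fix_unipotent hK hm (θ := χ⁻¹ * θ)
    (β := σ.symm (β / ((α : F) * ((α : F) ^ 3 ^ m) ^ 3)))
    (γ := σ.symm (γ / ((α : F) ^ 2 * ((α : F) ^ 3 ^ m) ^ 3))) (fun t => by
      rw [MulAut.mul_apply, h, MulAut.inv_def, MulEquiv.symm_apply_eq, f1]
      simp only [map_mul, map_pow, RingEquiv.apply_symm_apply]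
      have hα := α.ne_zero
      congr 1 <;> field_simp)
  have hA : ∀ y : ↥(TwG2.X hK).G1, (y : GL G2Data.tab.D.Idx F) ∈ posB (TwG2.X hK) 0 →
      (χ⁻¹ * θ) y = y := fun y hy => by
    obtain ⟨t, u, v, rfl⟩ := mem_posB hK hy
    exact hfix t u v
  have hneg := fix_neg (TwG2.X hK) hS.blocks hS.nonTriv Nat.zero_lt_one
    (Tw.maps_borel (TwG2.X hK) hS.nonTriv hθ2.1) hA
    (fix_blocks hS (rigid hK) hθ2 Nat.zero_lt_one).2
  refine closure_ext (genSubgroup_eq TwG2.g0 (g2Words F (3 ^ m))) fun y hy => ?_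
  have key : (χ⁻¹ * θ) y = y := by
    obtain ⟨w, ⟨t, u, v, rfl | rfl⟩, he⟩ := hy
    · rw [show y = e hK t u v from Subtype.ext he]; exact hfix t u v
    · rw [show y = e' hK t u v from Subtype.ext he]; exact hneg _ (e'_mem hK t u v)
  rw [MulAut.mul_apply, MulAut.inv_def, MulEquiv.symm_apply_eq] at key
  exact key.symm

include hK in
theorem card_out (hm : 1 ≤ m) : Nat.card (Cfsg.Out ↥(TwG2.tw F (3 ^ m))) = 2 * m + 1 := by
  have h := Tw.card_out (setup hK) (phi hK) (phi_injective hK)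
    (fun p => (phi_spec hK p).1) (phi_surjective hK hm)
  have ht : Nat.card ↥(torus1 (TwG2.X hK)) = 3 ^ (2 * m + 1) - 1 := TwG2.card_torus hK
  rw [ht, Nat.card_prod, (ringAut_facts 3 (2 * m + 1) hK).2,
    TwField.card_units (q := 3 ^ (2 * m + 1)) (k := 1) (by rw [hK, pow_one]), pow_one,
    mul_comm (3 ^ (2 * m + 1) - 1) (2 * m + 1)] at h
  have := TwG2.hq (m := m)
  exact Nat.eq_of_mul_eq_mul_right (by omega) h

end Cfsg.Agent.ChevAut.TwOutG2
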