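import Cfsg.Agent.Lib.ChevAut.TwAutPerm
import Cfsg.Agent.Lib.ChevAut.TwAutSide
import Cfsg.Agent.Lib.ChevAut.AutData
import Cfsg.Agent.Lib.ChevAut.AutOut
import Cfsg.Agent.Lib.Lie.TwG2

/-! The diagonal and field automorphisms of `²G₂(q)` and the law of its unipotent group. -/

set_option autoImplicit false
set_option maxRecDepth 8000

namespace Cfsg.Agent.ChevAut.TwOutG2

open Cfsg.Lie Cfsg.Agent.Chev Cfsg.Agent.Chev.Tab Cfsg.Agent.ChevAut.Tw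

variable {F : Type*} [Field F] [Fintype F] [CharP F 3] {m : ℕ}
  (hK : Fintype.card F = 3 ^ (2 * m + 1))

include hK in
theorem theta_cube (t : F) : ((t ^ 3 ^ m) ^ 3 ^ m) ^ 3 = t := by
  rw [← pow_mul _ (3 ^ m) 3, mul_comm]
  exact TwG2.theta_sq hK t

/-- the unipotent elements -/
noncomputable def e (t u v : F) : ↥(TwG2.X hK).G1 :=
  ⟨((reeWordU (3 ^ m) t u v).map fun e => xg TwG2.g0 e.1 e.2).prod,
    word_mem TwG2.g0 (W := g2Words F (3 ^ m)) ⟨t, u, v, Or.inl rfl⟩⟩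

/-- the opposite unipotent elements -/
noncomputable def e' (t u v : F) : ↥(TwG2.X hK).G1 :=
  ⟨((reeWordV (3 ^ m) t u v).map fun e => xg TwG2.g0 e.1 e.2).prod,
    word_mem TwG2.g0 (W := g2Words F (3 ^ m)) ⟨t, u, v, Or.inr rfl⟩⟩

theorem coe_e (t u v : F) : (e hK t u v : GL G2Data.tab.D.Idx F) =
    TwG2.uP t (t ^ 3 ^ m) (u ^ 3 ^ m) (v ^ 3 ^ m) (t * (t ^ 3 ^ m) ^ 3 + u)
      (t ^ 2 * (t ^ 3 ^ m) ^ 3 + v) :=
  TwG2.uU_word t u v

theorem e_inj {t u v t' u' v' : F} (h : e hK t u v = e hK t' u' v') :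
    t = t' ∧ u = u' ∧ v = v' := by
  have h' : (e hK t u v : GL G2Data.tab.D.Idx F) = e hK t' u' v' := congrArg Subtype.val h
  rw [coe_e, coe_e] at h'
  obtain ⟨h1, -, h3, h4, -, -⟩ := TwG2.uP_inj h'
  exact ⟨h1, (TwG2.psi (F := F) m).injective h3, (TwG2.psi (F := F) m).injective h4⟩

theorem e_mem (t u v : F) : (e hK t u v : GL G2Data.tab.D.Idx F) ∈ posB (TwG2.X hK) 0 :=
  (TwG2.uU_mem t u v).1

theorem e'_mem (t u v : F) : (e' hK t u v : GL G2Data.tab.D.Idx F) ∈ negB (TwG2.X hK) 0 :=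
  ⟨_, (TwG2.uU_mem t u v).1, (TwG2.uV_word t u v).symm⟩

theorem mem_posB {y : ↥(TwG2.X hK).G1}
    (hy : (y : GL G2Data.tab.D.Idx F) ∈ posB (TwG2.X hK) 0) : ∃ t u v, y = e hK t u v := by
  obtain ⟨t, u, v, h⟩ := TwG2.fixed0 hK hy (TwG2.twisted_fixed hK _ y.2).2
  exact ⟨t, u, v, Subtype.ext h⟩

omit [Fintype F] in
theorem high_left {r : ℕ} (hr : r ∈ [8, 9, 10, 11]) (a c d e g : F) :
    xg TwG2.g0 r a * (xg TwG2.g0 8 c * xg TwG2.g0 9 d * xg TwG2.g0 10 e * xg TwG2.g0 11 g) =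
      (xg TwG2.g0 8 c * xg TwG2.g0 9 d * xg TwG2.g0 10 e * xg TwG2.g0 11 g) * xg TwG2.g0 r a :=
  ((((TwG2.comm_high hr (by simp) a c).mul_right (TwG2.comm_high hr (by simp) a d)).mul_right
    (TwG2.comm_high hr (by simp) a e)).mul_right (TwG2.comm_high hr (by simp) a g)).eq

omit [Fintype F] in
theorem regroup (c d e g c' d' e' g' : F) :
    xg TwG2.g0 8 c * xg TwG2.g0 9 d * xg TwG2.g0 10 e * xg TwG2.g0 11 g *
      (xg TwG2.g0 8 c' * xg TwG2.g0 9 d' * xg TwG2.g0 10 e' * xg TwG2.g0 11 g') =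
      xg TwG2.g0 8 (c + c') * xg TwG2.g0 9 (d + d') * xg TwG2.g0 10 (e + e') *
        xg TwG2.g0 11 (g + g') := by
  have k : ∀ {r s : ℕ}, r ∈ [8, 9, 10, 11] → s ∈ [8, 9, 10, 11] → ∀ a b : F,
      Commute (xg TwG2.g0 r a) (xg TwG2.g0 s b) := fun hr hs => TwG2.comm_high hr hs
  rw [regroup4, xg_add, xg_add, xg_add, xg_add]
  · exact ((k (by simp) (by simp) _ _).mul_left (k (by simp) (by simp) _ _)).mul_left
      (k (by simp) (by simp) _ _)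
  · exact (k (by simp) (by simp) _ _).mul_left (k (by simp) (by simp) _ _)
  · exact k (by simp) (by simp) _ _

omit [Fintype F] in
theorem swap8 (C t : F) :
    xg TwG2.g0 8 C * xg TwG2.g0 7 t = xg TwG2.g0 7 t * (xg TwG2.g0 8 C * xg TwG2.g0 9 (-(t * C))) := by
  have hc : G2Data.tab.cTerms 7 8 = [(9, -2, 1, 1), (10, -3, 2, 1), (11, 3, 1, 2)] := by
    decide +kernel
  rw [show xg TwG2.g0 8 C * xg TwG2.g0 7 t = _ from xg_comm TwG2.gA (r := 7) (s := 8)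
    (by decide +kernel) (by decide +kernel) (by decide) (by decide +kernel) t C]
  have h2 : (-2 : F) = 1 := by linear_combination -(TwG2.three_zero (F := F))
  simp [cVal, hc, h2, TwG2.three_zero, mul_assoc]

omit [Fintype F] [CharP F 3] in
theorem swap10 (E t : F) :
    xg TwG2.g0 10 E * xg TwG2.g0 6 t = xg TwG2.g0 6 t * (xg TwG2.g0 10 E * xg TwG2.g0 11 (-(t * E))) := by
  have hc : G2Data.tab.cTerms 6 10 = [(11, 1, 1, 1)] := by decide +kernel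
  rw [show xg TwG2.g0 10 E * xg TwG2.g0 6 t = _ from xg_comm TwG2.gA (r := 6) (s := 10)
    (by decide +kernel) (by decide +kernel) (by decide) (by decide +kernel) t E]
  simp [cVal, hc, mul_assoc]

omit [Fintype F] in
theorem high6 (t C D E G : F) :
    xg TwG2.g0 8 C * xg TwG2.g0 9 D * xg TwG2.g0 10 E * xg TwG2.g0 11 G * xg TwG2.g0 6 t =
      xg TwG2.g0 6 t *
        (xg TwG2.g0 8 C * xg TwG2.g0 9 D * xg TwG2.g0 10 E * xg TwG2.g0 11 (G - t * E)) := by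
  have hlt : ∀ r ∈ [6, 8, 9, 10, 11], r < G2Data.tab.n := by decide +kernel
  have hc : ∀ r ∈ [8, 9, 11], G2Data.tab.commOK 3 r 6 = true := by decide +kernel
  have cm : ∀ r ∈ [8, 9, 11], ∀ a : F, Commute (xg TwG2.g0 r a) (xg TwG2.g0 6 t) := fun r hr a =>
    TwG2.comm3 (hlt r (by simp at hr ⊢; tauto)) (hlt 6 (by simp)) (hc r hr) a t
  calc _ = xg TwG2.g0 8 C * xg TwG2.g0 9 D * (xg TwG2.g0 10 E * xg TwG2.g0 6 t) *
        xg TwG2.g0 11 G := by rw [mul_assoc _ (xg TwG2.g0 11 G), (cm 11 (by simp) G).eq]; group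
    _ = xg TwG2.g0 8 C * (xg TwG2.g0 9 D * xg TwG2.g0 6 t) *
        (xg TwG2.g0 10 E * (xg TwG2.g0 11 (-(t * E)) * xg TwG2.g0 11 G)) := by rw [swap10]; group
    _ = (xg TwG2.g0 8 C * xg TwG2.g0 6 t) * xg TwG2.g0 9 D *
        (xg TwG2.g0 10 E * xg TwG2.g0 11 (-(t * E) + G)) := by
          rw [(cm 9 (by simp) D).eq, ← xg_add TwG2.g0 11 (-(t * E)) G]; group
    _ = _ := by rw [(cm 8 (by simp) C).eq, neg_add_eq_sub]; group

omit [Fintype F] in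
theorem high7 (t C D E G : F) :
    xg TwG2.g0 8 C * xg TwG2.g0 9 D * xg TwG2.g0 10 E * xg TwG2.g0 11 G * xg TwG2.g0 7 t =
      xg TwG2.g0 7 t *
        (xg TwG2.g0 8 C * xg TwG2.g0 9 (D - t * C) * xg TwG2.g0 10 E * xg TwG2.g0 11 G) := by
  have hlt : ∀ r ∈ [7, 8, 9, 10, 11], r < G2Data.tab.n := by decide +kernel
  have hc : ∀ r ∈ [9, 10, 11], G2Data.tab.commOK 3 r 7 = true := by decide +kernel
  have cm : ∀ r ∈ [9, 10, 11], ∀ a : F, Commute (xg TwG2.g0 r a) (xg TwG2.g0 7 t) := fun r hr a =>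
    TwG2.comm3 (hlt r (by simp at hr ⊢; tauto)) (hlt 7 (by simp)) (hc r hr) a t
  have h3 := ((cm 9 (by simp) D).mul_left (cm 10 (by simp) E)).mul_left (cm 11 (by simp) G)
  calc _ = xg TwG2.g0 8 C * (xg TwG2.g0 9 D * xg TwG2.g0 10 E * xg TwG2.g0 11 G * xg TwG2.g0 7 t) := by
        group
    _ = xg TwG2.g0 8 C * xg TwG2.g0 7 t *
        (xg TwG2.g0 9 D * xg TwG2.g0 10 E * xg TwG2.g0 11 G) := by rw [h3.eq]; group
    _ = xg TwG2.g0 7 t * (xg TwG2.g0 8 C * (xg TwG2.g0 9 (-(t * C)) * xg TwG2.g0 9 D) *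
        xg TwG2.g0 10 E * xg TwG2.g0 11 G) := by rw [swap8]; group
    _ = _ := by rw [xg_add TwG2.g0 9 (-(t * C)) D, neg_add_eq_sub]

omit [Fintype F] in
theorem uP_mul (A B C D E G A' B' C' D' E' G' : F) :
    TwG2.uP A B C D E G * TwG2.uP A' B' C' D' E' G' =
      TwG2.uP (A + A') (B + B') (C + C' - A' * B) (D + D' - B' * C - A' * B ^ 2 + A' * B * B')
        (E + E' + A' * B ^ 3) (G + G' - A' * E + A' ^ 2 * B ^ 3) := by
  rw [TwG2.uP, TwG2.uP, TwG2.uP]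
  calc _ = xg TwG2.g0 6 A * xg TwG2.g0 7 B *
        (xg TwG2.g0 8 C * xg TwG2.g0 9 D * xg TwG2.g0 10 E * xg TwG2.g0 11 G * xg TwG2.g0 6 A') *
        xg TwG2.g0 7 B' *
        (xg TwG2.g0 8 C' * xg TwG2.g0 9 D' * xg TwG2.g0 10 E' * xg TwG2.g0 11 G') := by group
    _ = xg TwG2.g0 6 A * (xg TwG2.g0 7 B * xg TwG2.g0 6 A') *
        (xg TwG2.g0 8 C * xg TwG2.g0 9 D * xg TwG2.g0 10 E * xg TwG2.g0 11 (G - A' * E) *
          xg TwG2.g0 7 B') *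
        (xg TwG2.g0 8 C' * xg TwG2.g0 9 D' * xg TwG2.g0 10 E' * xg TwG2.g0 11 G') := by
          rw [high6]; group
    _ = xg TwG2.g0 6 A * xg TwG2.g0 6 A' * xg TwG2.g0 7 B *
        ((xg TwG2.g0 8 (-(A' * B)) * xg TwG2.g0 9 (-(A' * B ^ 2)) * xg TwG2.g0 10 (A' * B ^ 3) *
          xg TwG2.g0 11 (A' ^ 2 * B ^ 3)) * xg TwG2.g0 7 B') *
        ((xg TwG2.g0 8 C * xg TwG2.g0 9 (D - B' * C) * xg TwG2.g0 10 E *
          xg TwG2.g0 11 (G - A' * E)) *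
        (xg TwG2.g0 8 C' * xg TwG2.g0 9 D' * xg TwG2.g0 10 E' * xg TwG2.g0 11 G')) := by
          rw [TwG2.swap67, high7 B' C D E (G - A' * E)]; group
    _ = xg TwG2.g0 6 A * xg TwG2.g0 6 A' * (xg TwG2.g0 7 B * xg TwG2.g0 7 B') *
        ((xg TwG2.g0 8 (-(A' * B)) * xg TwG2.g0 9 (-(A' * B ^ 2) - B' * -(A' * B)) *
          xg TwG2.g0 10 (A' * B ^ 3) * xg TwG2.g0 11 (A' ^ 2 * B ^ 3)) *
        (xg TwG2.g0 8 (C + C') * xg TwG2.g0 9 (D - B' * C + D') * xg TwG2.g0 10 (E + E') *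
          xg TwG2.g0 11 (G - A' * E + G'))) := by
          rw [high7 B' (-(A' * B)), regroup C]; group
    _ = _ := by
          rw [regroup (-(A' * B)), ← xg_add TwG2.g0 6 A A', ← xg_add TwG2.g0 7 B B']
          congr! 2 <;> ring_nf

include hK in
theorem e_mul (t u v t' u' v' : F) :
    e hK t u v * e hK t' u' v' = e hK (t + t') (u + u' - t * (t' ^ 3 ^ m) ^ 3)
      (v + v' - t' * u + t * t' * (t' ^ 3 ^ m) ^ 3 - t ^ 2 * (t' ^ 3 ^ m) ^ 3) := by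
  refine Subtype.ext ?_
  rw [Subgroup.coe_mul, coe_e, coe_e, coe_e, uP_mul]
  have h := theta_cube hK t'
  simp only [← TwG2.psi_apply] at h ⊢
  simp only [map_add, map_sub, map_mul, map_pow, h]
  have h3 := TwG2.three_zero (F := F)
  congr 1 <;> first
    | ring1
    | linear_combination -((t + t') * (TwG2.psi m t ^ 2 * TwG2.psi m t' +
        TwG2.psi m t * TwG2.psi m t' ^ 2)) * h3
    | linear_combination -((t + t') ^ 2 * (TwG2.psi m t ^ 2 * TwG2.psi m t' +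
        TwG2.psi m t * TwG2.psi m t' ^ 2) + t * t' * (TwG2.psi m t ^ 3 + TwG2.psi m t' ^ 3)) * h3

include hK in
/-- scaling a word -/
theorem class_scale (χ : ℕ → F) {c : F} (h7 : χ g2a = c ^ 3 ^ m) (h6 : χ g2b = c)
    (h8 : χ g2ab = c * c ^ 3 ^ m) (h9 : χ g2aab = c * (c ^ 3 ^ m) ^ 2)
    (h10 : χ g2aaab = c * (c ^ 3 ^ m) ^ 3) (h11 : χ g2aaabb = c ^ 2 * (c ^ 3 ^ m) ^ 3)
    (σ : F →+* F) (t u v : F) :
    ((reeWordU (3 ^ m) t u v).map fun e => (e.1, χ e.1 * σ e.2)) =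
      reeWordU (3 ^ m) (c * σ t) (c * (c ^ 3 ^ m) ^ 3 * σ u) (c ^ 2 * (c ^ 3 ^ m) ^ 3 * σ v) := by
  have h : ((c ^ 3 ^ m) ^ 3) ^ 3 ^ m = c := by rw [← pow_mul, mul_comm, pow_mul, theta_cube hK c]
  have h2 : (c ^ 2) ^ 3 ^ m = (c ^ 3 ^ m) ^ 2 := by rw [← pow_mul, mul_comm, pow_mul]
  simp only [reeWordU, List.map_cons, List.map_nil, h7, h6, h8, h9, h10, h11, map_pow, map_add,
    mul_pow, h, h2]
  congr 1
  congr 2
  · congr 1; ring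
  · congr 2; ring

omit [Fintype F] [CharP F 3] in
theorem neg_map (χ : ℕ → F) (σ : F →+* F) (w : List (ℕ × F)) :
    (chevG2.negWord w).map (fun e => (e.1, χ e.1 * σ e.2)) =
      chevG2.negWord (w.map fun e => (e.1, χ (chevG2.negIdx.getD e.1 0) * σ e.2)) := by
  simp [ChevalleyDatum.negWord, Function.comp_def]

omit [Fintype F] [CharP F 3] in
theorem word_lt (t u v : F) : (∀ e ∈ reeWordU (3 ^ m) t u v, e.1 < G2Data.tab.n) ∧
    ∀ e ∈ reeWordV (3 ^ m) t u v, e.1 < G2Data.tab.n := by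
  have h : ∀ r ∈ [g2a, g2b, g2ab, g2aab, g2aaab, g2aaabb],
      r < G2Data.tab.n ∧ chevG2.negIdx.getD r 0 < G2Data.tab.n := by decide +kernel
  simp only [List.forall_mem_cons] at h
  obtain ⟨⟨h1, n1⟩, ⟨h2, n2⟩, ⟨h3, n3⟩, ⟨h4, n4⟩, ⟨h5, n5⟩, ⟨h6, n6⟩, -⟩ := h
  refine ⟨?_, ?_⟩ <;> simp [reeWordU, reeWordV, ChevalleyDatum.negWord]
  · exact ⟨h1, h2, h3, h4, h5, h6⟩
  · exact ⟨n1, n2, n3, n4, n5, n6⟩

/-- the diagonal parameters on the nodes -/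
def muOf (m : ℕ) (c : Fˣ) (j : ℕ) : Fˣ := if j = 0 then c ^ 3 ^ m else c

omit [Fintype F] [CharP F 3] in
theorem char_vals {χ : ℕ → Fˣ} {c : Fˣ} (hχ : G2Data.tab.D.IsRootCharacter χ)
    (hv : ∀ k < G2Data.tab.l, χ (G2Data.tab.smp k) = muOf m c k) :
    (χ g2a = c ^ 3 ^ m ∧ χ g2b = c ∧ χ g2ab = c * c ^ 3 ^ m ∧ χ g2aab = c * (c ^ 3 ^ m) ^ 2 ∧
      χ g2aaab = c * (c ^ 3 ^ m) ^ 3 ∧ χ g2aaabb = c ^ 2 * (c ^ 3 ^ m) ^ 3) ∧
    ∀ r ∈ [g2a, g2b, g2ab, g2aab, g2aaab, g2aaabb], χ (chevG2.negIdx.getD r 0) = (χ r)⁻¹ := by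
  obtain ⟨s0, s1, l0, l1, l2, l3, l4, c1, c2, c3, c4⟩ : G2Data.tab.smp 0 = g2a ∧
      G2Data.tab.smp 1 = g2b ∧ g2a < chevG2.nroots ∧ g2b < chevG2.nroots ∧ g2ab < chevG2.nroots ∧
      g2aab < chevG2.nroots ∧ g2aaab < chevG2.nroots ∧ chevG2.chainRoot g2a g2b 1 = some g2ab ∧
      chevG2.chainRoot g2a g2ab 1 = some g2aab ∧ chevG2.chainRoot g2a g2aab 1 = some g2aaab ∧
      chevG2.chainRoot g2b g2aaab 1 = some g2aaabb := by decide +kernel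
  have x0 := hv 0 (by decide)
  have x1 := hv 1 (by decide)
  simp only [s0, s1, muOf, if_neg one_ne_zero, ↓reduceIte] at x0 x1
  have eab : χ g2ab = c * c ^ 3 ^ m := by rw [hχ.2 g2a g2b g2ab l0 l1 c1, x0, x1, mul_comm]
  have e2 : χ g2aab = c * (c ^ 3 ^ m) ^ 2 := by
    rw [hχ.2 g2a g2ab g2aab l0 l2 c2, x0, eab, pow_two, mul_left_comm]
  have e3 : χ g2aaab = c * (c ^ 3 ^ m) ^ 3 := by
    rw [hχ.2 g2a g2aab g2aaab l0 l3 c3, x0, e2, pow_succ' _ 2, mul_left_comm]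
  have e4 : χ g2aaabb = c ^ 2 * (c ^ 3 ^ m) ^ 3 := by
    rw [hχ.2 g2b g2aaab g2aaabb l1 l4 c4, x1, e3, ← mul_assoc, pow_two]
  refine ⟨⟨x0, x1, eab, e2, e3, e4⟩, fun r hr => ?_⟩
  have h : ∀ r ∈ [g2a, g2b, g2ab, g2aab, g2aaab, g2aaabb],
      r < chevG2.nroots ∧ chevG2.negIdx.getD r 0 = chevG2.neg r := by decide +kernel
  rw [(h r hr).2]
  exact hχ.1 r (h r hr).1

/-- the parameters -/
abbrev Prm (F : Type*) [Field F] : Type _ := Fˣ × (F ≃+* F)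

theorem exists_phi (p : Prm F) :
    ∃ θ ∈ Tw.normAut (TwG2.X hK),
      (∀ t u v, θ (e hK t u v) = e hK ((p.1 : F) * p.2 t)
        ((p.1 : F) * ((p.1 : F) ^ 3 ^ m) ^ 3 * p.2 u)
        ((p.1 : F) ^ 2 * ((p.1 : F) ^ 3 ^ m) ^ 3 * p.2 v)) ∧
      ∀ t u v, θ (e' hK t u v) = e' hK (((p.1⁻¹ : Fˣ) : F) * p.2 t)
        (((p.1⁻¹ : Fˣ) : F) * (((p.1⁻¹ : Fˣ) : F) ^ 3 ^ m) ^ 3 * p.2 u)
        (((p.1⁻¹ : Fˣ) : F) ^ 2 * (((p.1⁻¹ : Fˣ) : F) ^ 3 ^ m) ^ 3 * p.2 v) := by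
  obtain ⟨a, χ, ha, hχ, hv, hword⟩ := exists_semi_word (F := F) autOK_G2
    (show G2Data.tab.D ∈ _ by simp [show G2Data.tab.D = chevG2 from rfl]) (muOf m p.1) p.2
  obtain ⟨⟨ca, cb, cab, c2, c3, c4⟩, hn⟩ := char_vals hχ fun k hk => (hv k hk).1
  simp only [List.forall_mem_cons] at hn
  obtain ⟨n1, n2, n3, n4, n5, n6, -⟩ := hn
  have hle := (TwG2.X hK).G1_le_group
  have himg : ∀ (w : List (ℕ × F)), (∀ e ∈ w, e.1 < G2Data.tab.n) → ∀ (y : ↥(G2Data.tab.D.group F)),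
      (y : GL G2Data.tab.D.Idx F) = (w.map fun e => xg TwG2.g0 e.1 e.2).prod →
      (a y : GL G2Data.tab.D.Idx F) =
        ((w.map fun e => (e.1, (χ e.1 : F) * p.2 e.2)).map fun e => xg TwG2.g0 e.1 e.2).prod :=
    fun w hw y hy => by rw [List.map_map]; exact hword w hw y hy
  have i1 : ∀ (t u v : F) (y : ↥(G2Data.tab.D.group F)),
      ((y : GL G2Data.tab.D.Idx F) = e hK t u v →
        (a y : GL G2Data.tab.D.Idx F) = e hK ((p.1 : F) * p.2 t)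
          ((p.1 : F) * ((p.1 : F) ^ 3 ^ m) ^ 3 * p.2 u)
          ((p.1 : F) ^ 2 * ((p.1 : F) ^ 3 ^ m) ^ 3 * p.2 v)) ∧
      ((y : GL G2Data.tab.D.Idx F) = e' hK t u v →
        (a y : GL G2Data.tab.D.Idx F) = e' hK (((p.1⁻¹ : Fˣ) : F) * p.2 t)
          (((p.1⁻¹ : Fˣ) : F) * (((p.1⁻¹ : Fˣ) : F) ^ 3 ^ m) ^ 3 * p.2 u)
          (((p.1⁻¹ : Fˣ) : F) ^ 2 * (((p.1⁻¹ : Fˣ) : F) ^ 3 ^ m) ^ 3 * p.2 v)) := by
    intro t u v y
    obtain ⟨l3, l4⟩ := word_lt (m := m) t u v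
    constructor <;> intro hy <;> rw [himg _ (by assumption) y hy]
    · rw [show (fun e : ℕ × F => (e.1, (χ e.1 : F) * p.2 e.2)) =
        fun e => (e.1, (χ e.1 : F) * (p.2 : F →+* F) e.2) from rfl,
        class_scale hK (fun r => (χ r : F)) (c := (p.1 : F)) (by simp [ca]) (by simp [cb])
          (by simp [cab]) (by simp [c2]) (by simp [c3]) (by simp [c4])]
      rfl
    · rw [show (fun e : ℕ × F => (e.1, (χ e.1 : F) * p.2 e.2)) =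
        fun e => (e.1, (χ e.1 : F) * (p.2 : F →+* F) e.2) from rfl, reeWordV, neg_map (fun r => (χ r : F)) (p.2 : F →+* F),
        class_scale hK (fun r => (χ (chevG2.negIdx.getD r 0) : F)) (c := ((p.1⁻¹ : Fˣ) : F))
          (by simp only [n1, ca]; simp) (by simp only [n2, cb])
          (by simp only [n3, cab]; simp [mul_comm]) (by simp only [n4, c2]; simp [mul_comm])
          (by simp only [n5, c3]; simp [mul_comm]) (by simp only [n6, c4]; simp [mul_comm])]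
      rfl
  obtain ⟨θ, hθ⟩ := exists_restrict (H := G2Data.tab.D.group F) (G1 := (TwG2.X hK).G1) a hle
    (S := {x | ∃ w ∈ g2Words F (3 ^ m), x = (w.map fun e => xg TwG2.g0 e.1 e.2).prod})
    (genSubgroup_eq TwG2.g0 _) (fun x hx => by
      obtain ⟨w, ⟨t, u, v, rfl | rfl⟩, h⟩ := hx
      · rw [(i1 t u v x).1 h]; exact SetLike.coe_mem _
      · rw [(i1 t u v x).2 h]; exact SetLike.coe_mem _)
  refine ⟨θ, ⟨fun y => ?_, fun y => ?_⟩, fun t u v => Subtype.ext ?_, fun t u v => Subtype.ext ?_⟩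
  · rw [hθ]; exact ha.1 ⟨(y : GL G2Data.tab.D.Idx F), hle y.2⟩
  · rw [hθ]; exact ha.2 ⟨(y : GL G2Data.tab.D.Idx F), hle y.2⟩
  all_goals rw [hθ]
  · exact (i1 t u v _).1 rfl
  · exact (i1 t u v _).2 rfl

end Cfsg.Agent.ChevAut.TwOutG2
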