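import Cfsg.Agent.Lib.ChevAut.ParabolicCharP
import Cfsg.Agent.Lib.Lie.ChevSylow
import Mathlib.FieldTheory.Finite.Basic

/-! Weakly closed subgroups of `U` are unipotent radicals. -/

set_option autoImplicit false

namespace Cfsg.Agent.ChevAut

open Cfsg.Lie Cfsg.Agent.Chev Cfsg.Agent.Chev.Tab

/-- Two fundamental roots are separated by a torus element; `wk` allows the square of the parameter. -/
def checkSep (T : Tab) (wk : Bool) : Bool :=
  allBelow (fun i => allBelow (fun k => Nat.beq i k || anyBelow (fun m => anyBelow (fun m' =>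
    anyBelow (fun a => anyBelow (fun b =>
      ((Int.ofNat a - 3) * T.A m (T.smp i) + (Int.ofNat b - 3) * T.A m' (T.smp i) == 0) &&
        (Nat.beq ((Int.ofNat a - 3) * T.A m (T.smp k) + (Int.ofNat b - 3) * T.A m' (T.smp k)).natAbs 1 ||
          (wk && Nat.beq ((Int.ofNat a - 3) * T.A m (T.smp k) + (Int.ofNat b - 3) * T.A m' (T.smp k)).natAbs 2)))
      7) 7) T.l) T.l) T.l) T.l

/-- the shapes of commutator words from which the last term is recovered -/
def goodShape (wk : Bool) (k : ℕ) : List (ℕ × ℤ × ℕ × ℕ) → Bool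
  | [(e, C, 1, 1)] => Nat.beq e k && Nat.beq C.natAbs 1
  | [(_, _, 1, 1), (e, C, 1, 2)] => Nat.beq e k && Nat.beq C.natAbs 1
  | [(_, _, 1, 1), (e, C, 2, 1)] => Nat.beq e k && Nat.beq C.natAbs 1
  | [(_, _, 1, 1), (_, _, 1, 2), (e, C, 1, 3)] => wk && (Nat.beq e k && Nat.beq C.natAbs 1)
  | [(_, _, 1, 1), (_, _, 2, 1), (e, C, 3, 1)] => wk && (Nat.beq e k && Nat.beq C.natAbs 1)
  | _ => false

/-- Every root which is not fundamental is the last relevant term of a commutator with a fundamental one. -/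
def checkShapes (T : Tab) (wk : Bool) : Bool :=
  allBelow (fun k => Nat.blt k T.N || anyBelow (fun j => Nat.beq k (T.smp j)) T.l ||
    anyBelow (fun i => anyBelow (fun b => Nat.ble T.N b && (!Nat.beq b (T.smp i) &&
      goodShape wk k ((T.cTerms (T.smp i) b).filter fun c => Nat.ble c.1 k))) T.n) T.l) T.n

variable {T : Tab} {K : List (List ℕ)} {F : Type*} [Field F]

theorem inJ_singleton (g : T.Good) {i : ℕ} (hi : i < T.l) :
    ∀ r, T.N ≤ r → r ∈ T.inJ {i} → r = T.smp i := by
  intro r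
  induction r using Nat.strong_induction_on with
  | _ r ih =>
    intro hr h
    rcases descent_inJ g hr h with ⟨j, -, hj, rfl⟩ | ⟨j, hj, hJ, h1, h2⟩
    · rw [Set.mem_singleton_iff.1 hj]
    · obtain rfl := Set.mem_singleton_iff.1 hJ
      have e := ih _ h2 h1 (ref_inJ g hj rfl h)
      have := congrArg (T.ref j) e
      rw [g.ref_ref hj h.1, g.ref_smp hj] at this
      have := (neg_lt_N_iff (g.smp_lt hj)).2 (g.smp_ge hj)
      omega

theorem phi_nonneg (g : T.GoodK K) {k r : ℕ} (hk : k < T.l) (hr : T.N ≤ r) (hn : r < T.n) :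
    0 ≤ T.phi K k r := by
  by_contra hh
  have := (phi_sign g hk hn).2.1 (not_le.1 hh)
  have := ((g.toGood.sign' hn).1 k hk).1 hr
  omega

theorem term_outJ (g : T.GoodK K) {J : Set ℕ} {a b : ℕ} (ha : T.N ≤ a) (han : a < T.n) (hb : T.N ≤ b)
    (hbn : b < T.n) (h : a ∈ T.outJ J ∨ b ∈ T.outJ J) {c : ℕ × ℤ × ℕ × ℕ} (hc : c ∈ T.cTerms a b) :
    c.1 ∈ T.outJ J := by
  rcases h with h | h
  swap
  · exact cTerms_outJ g ha han h hc
  obtain ⟨-, -, k, hk, hkJ, hne⟩ := h
  obtain ⟨q1, q2, q3, q4, q5⟩ := cTerms_mem g.toGood han hbn hc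
  have hak : 0 < T.phi K k a := by
    rw [(phi_sign g hk han).1]
    have := ((g.toGood.sign' han).1 k hk).1 ha
    omega
  have hbk := phi_nonneg g hk hb hbn
  have hck : 0 < T.phi K k c.1 := by
    rw [phi_linear q4 k]
    have : (0 : ℤ) < (c.2.2.1 : ℤ) := by exact_mod_cast q2
    have : (0 : ℤ) ≤ (c.2.2.2 : ℤ) := Int.natCast_nonneg _
    positivity
  refine ⟨le_trans ha (q5 ha hb).1.le, q1, k, hk, hkJ, ?_⟩
  have := (phi_sign g hk q1).1.1 hck
  omega

theorem term_nonsimple (g : T.GoodK K) {a b : ℕ} (ha : T.N ≤ a) (han : a < T.n) (hb : T.N ≤ b)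
    (hbn : b < T.n) (hne : a ≠ b) {c : ℕ × ℤ × ℕ × ℕ} (hc : c ∈ T.cTerms a b) :
    ∀ i < T.l, c.1 ≠ T.smp i := by
  intro i hi e
  obtain ⟨q1, q2, q3, q4, -⟩ := cTerms_mem g.toGood han hbn hc
  have key : ∀ m < T.l, m ≠ i → T.c a m = 0 ∧ T.c b m = 0 := by
    intro m hm hmi
    have h0 : T.c c.1 m = 0 := by rw [e, c_smp g.toGood hi hm, if_neg hmi]
    have := phi_sign g hm q1
    have h1 := phi_linear (K := K) q4 m
    have ha0 := phi_nonneg g hm ha han
    have hb0 := phi_nonneg g hm hb hbn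
    have h2 : (1 : ℤ) * T.phi K m a ≤ (c.2.2.1 : ℤ) * T.phi K m a :=
      mul_le_mul_of_nonneg_right (by exact_mod_cast q2) ha0
    have h3 : (1 : ℤ) * T.phi K m b ≤ (c.2.2.2 : ℤ) * T.phi K m b :=
      mul_le_mul_of_nonneg_right (by exact_mod_cast q3) hb0
    have := phi_sign g hm han
    have := phi_sign g hm hbn
    constructor <;> omega
  exact hne ((inJ_singleton g.toGood hi a ha ⟨han, fun m hm hmi => (key m hm hmi).1⟩).trans
    (inJ_singleton g.toGood hi b hb ⟨hbn, fun m hm hmi => (key m hm hmi).2⟩).symm)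

/-- The roots of `outJ` which are not fundamental, from index `k`. -/
def upper (T : Tab) (J : Set ℕ) (k : ℕ) : Set ℕ :=
  {r | r ∈ T.outJ J ∧ k ≤ r ∧ ∀ i < T.l, r ≠ T.smp i}

theorem upper_comm (g : T.GoodK K) {J : Set ℕ} {k r s : ℕ} (hr : T.N ≤ r) (hrn : r < T.n)
    (hs : s ∈ T.outJ J) (hne : s ≠ r) (hk : k ≤ s + 1) :
    ∀ c ∈ T.cTerms r s, c.1 ∈ upper T J k := by
  intro c hc
  have hc' := cTerms_mem g.toGood hrn hs.2.1 hc
  have := (hc'.2.2.2.2 hr hs.1).2
  exact ⟨term_outJ g hr hrn hs.1 hs.2.1 (Or.inr hs) hc, by omega,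
    term_nonsimple g hr hrn hs.1 hs.2.1 hne.symm hc⟩

theorem pos_normalizes (g : T.GoodK K) {J : Set ℕ} {S : Set ℕ} {k : ℕ} (hS : S ⊆ T.outJ J)
    (hk : ∀ s ∈ S, k ≤ s + 1) (hup : upper T J k ⊆ S) {u : GL T.D.Idx F}
    (hu : u ∈ genS g.toGood F (Set.Ico T.N T.n)) :
    u ∈ Subgroup.normalizer (genS g.toGood F S : Set (GL T.D.Idx F)) := by
  refine genS_le g.toGood (fun r hr t => xg_normalizes g.toGoodA hr.2 (fun s hs => ?_) t) hu
  have h1 := hS hs
  refine ⟨h1.2.1, ?_, fun hne c hc => hup (upper_comm g hr.1 hr.2 h1 hne (hk s hs) c hc)⟩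
  have := (neg_lt_N_iff hr.2).2 hr.1
  have := h1.1
  omega

/-- `u x_k(w) u⁻¹ ≡ x_k(w)` modulo the higher roots of `outJ` which are not fundamental. -/
theorem conj_low (g : T.GoodK K) {J : Set ℕ} {k : ℕ} (hk : k ∈ T.outJ J) {u : GL T.D.Idx F}
    (hu : u ∈ genS g.toGood F (Set.Ico T.N T.n)) :
    ∀ w : F, ∃ z ∈ genS g.toGood F (upper T J (k + 1)), u * xg g.toGood k w * u⁻¹ = xg g.toGood k w * z := by
  have hg := g.toGood
  refine genS_induction hg (p := fun u => ∀ w : F, ∃ z ∈ genS hg F (upper T J (k + 1)),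
    u * xg hg k w * u⁻¹ = xg hg k w * z) (fun w => ⟨1, one_mem _, by simp⟩) ?_ hu
  rintro r ⟨hrN, hrn⟩ a y hy w
  obtain ⟨z, hz, e⟩ := hy w
  have hnorm := Subgroup.mem_normalizer_iff.1 (pos_normalizes g (J := J) (S := upper T J (k + 1)) (k := k + 1) (fun s hs => hs.1)
    (fun s hs => by have := hs.2.1; omega) subset_rfl
    (xg_mem_genS hg (S := Set.Ico T.N T.n) (r := r) ⟨hrN, hrn⟩ a))
  obtain ⟨z', hz', e'⟩ : ∃ z' ∈ genS hg F (upper T J (k + 1)),
      xg hg r a * xg hg k w * (xg hg r a)⁻¹ = xg hg k w * z' := by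
    by_cases hrk : r = k
    · subst hrk
      exact ⟨1, one_mem _, by rw [mul_one, xg_add, xg_inv, xg_add]; ring_nf⟩
    have hne : r ≠ T.neg k := by have := (neg_lt_N_iff hk.2.1).2 hk.1; have := hk.1; omega
    set W := ((cVal T F k r w a).map fun e => xg hg e.1 e.2).prod with hW
    refine ⟨xg hg r a * W * (xg hg r a)⁻¹, (hnorm W).1 (Subgroup.list_prod_mem _ fun v hv => ?_), ?_⟩
    rotate_left
    · rw [xg_comm g.toGoodA hk.2.1 hrn hrk hne w a, ← hW]
      group
    simp only [cVal, List.map_map, List.mem_map, Function.comp_apply] at hv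
    obtain ⟨c, hc, rfl⟩ := hv
    exact xg_mem_genS hg (show c.1 ∈ upper T J (k + 1) from
      ⟨term_outJ g hk.1 hk.2.1 hrN hrn (Or.inl hk) hc,
        ((cTerms_mem hg hk.2.1 hrn hc).2.2.2.2 hk.1 hrN).1,
        term_nonsimple g hk.1 hk.2.1 hrN hrn (Ne.symm hrk) hc⟩) _
  refine ⟨z' * (xg hg r a * z * (xg hg r a)⁻¹), mul_mem hz' ((hnorm z).1 hz), ?_⟩
  calc _ = xg hg r a * (y * xg hg k w * y⁻¹) * (xg hg r a)⁻¹ := by group
    _ = (xg hg r a * xg hg k w * (xg hg r a)⁻¹) * (xg hg r a * z * (xg hg r a)⁻¹) := by rw [e]; group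
    _ = _ := by rw [e']; group

theorem genS_split (g : T.GoodK K) {S : Set ℕ} {k : ℕ}
    (hn : ∀ a : F, xg g.toGood k a ∈ Subgroup.normalizer (genS g.toGood F S : Set (GL T.D.Idx F)))
    {z : GL T.D.Idx F} (hz : z ∈ genS g.toGood F (insert k S)) :
    ∃ a : F, ∃ y ∈ genS g.toGood F S, z = xg g.toGood k a * y := by
  refine genS_induction g.toGood (p := fun z => ∃ a : F, ∃ y ∈ genS g.toGood F S, z = xg g.toGood k a * y)
    ⟨0, 1, one_mem _, by simp⟩ ?_ hz
  rintro r hr t _ ⟨a, y, hy, rfl⟩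
  by_cases hrk : r = k
  · subst hrk
    exact ⟨t + a, y, hy, by rw [← mul_assoc, xg_add]⟩
  · refine ⟨a, (xg g.toGood k a)⁻¹ * xg g.toGood r t * xg g.toGood k a * y, mul_mem ?_ hy, by group⟩
    have := (Subgroup.mem_normalizer_iff.1 (inv_mem (hn a)) (xg g.toGood r t)).1
      (xg_mem_genS g.toGood ((Set.mem_insert_iff.1 hr).resolve_left hrk) t)
    rwa [inv_inv] at this

/-- A subgroup of `U` invariant under the `n_j`, `j ∈ J`, lies in `U_J`. -/
theorem le_radical_of_invariant (g : T.GoodK K) {J : Set ℕ} {X : Subgroup (GL T.D.Idx F)}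
    (hX : X ≤ genS g.toGood F (Set.Ico T.N T.n))
    (hinv : ∀ j ∈ J, nG g.toGood F j ∈ Subgroup.normalizer (X : Set (GL T.D.Idx F))) :
    X ≤ genS g.toGood F (T.outJ J) := by
  have hg := g.toGood
  intro x hx
  obtain ⟨L, hL, hLJ, hLneg⟩ := exists_longest_J g J
  obtain ⟨v, hv, l, hl, rfl⟩ : ∃ v ∈ genS hg F (T.outJ J),
      ∃ l ∈ genS hg F {r | T.N ≤ r ∧ r ∈ T.inJ J}, x = v * l := by
    refine genS_induction hg (p := fun x => ∃ v ∈ genS hg F (T.outJ J),
        ∃ l ∈ genS hg F {r | T.N ≤ r ∧ r ∈ T.inJ J}, x = v * l)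
      ⟨1, one_mem _, 1, one_mem _, by simp⟩ ?_ (hX hx)
    rintro r ⟨hrN, hrn⟩ a y ⟨v, hv, l, hl, rfl⟩
    rcases outJ_or_inJ (J := J) hrN hrn with h | h
    · exact ⟨xg hg r a * v, mul_mem (xg_mem_genS hg h a) hv, l, hl, (mul_assoc _ _ _).symm⟩
    · refine ⟨xg hg r a * v * (xg hg r a)⁻¹,
        (Subgroup.mem_normalizer_iff.1 (outJ_normalized_pos g hrN hrn a) v).1 hv, xg hg r a * l,
        mul_mem (xg_mem_genS hg (show r ∈ {r | T.N ≤ r ∧ r ∈ T.inJ J} from ⟨hrN, h⟩) a) hl, by group⟩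
  have hnX : nWd hg F L ∈ Subgroup.normalizer (X : Set (GL T.D.Idx F)) := by
    refine Subgroup.list_prod_mem _ fun y hy => ?_
    obtain ⟨i, hi, rfl⟩ := List.mem_map.1 hy
    exact hinv i (hLJ i hi)
  have hnV : nWd hg F L ∈ Subgroup.normalizer (genS hg F (T.outJ J) : Set (GL T.D.Idx F)) := by
    refine Subgroup.list_prod_mem _ fun y hy => ?_
    obtain ⟨i, hi, rfl⟩ := List.mem_map.1 hy
    exact nG_normalizes hg (hL i hi) (fun r hr => hr.2.1) fun r hr => ref_outJ hg (hL i hi) (hLJ i hi) hr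
  have h1 := hX ((Subgroup.mem_normalizer_iff.1 hnX _).1 hx)
  have hvV := (Subgroup.mem_normalizer_iff.1 hnV v).1 hv
  have hl1 : nWd hg F L * l * (nWd hg F L)⁻¹ ∈ genS hg F (Set.Ico T.N T.n) := by
    have e : nWd hg F L * l * (nWd hg F L)⁻¹ =
        (nWd hg F L * v * (nWd hg F L)⁻¹)⁻¹ * (nWd hg F L * (v * l) * (nWd hg F L)⁻¹) := by group
    rw [e]
    exact mul_mem (inv_mem (genS_mono hg outJ_pos hvV)) h1
  have hl2 : nWd hg F L * l * (nWd hg F L)⁻¹ ∈ genS hg F (Set.Iio T.N) := by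
    have h := Subgroup.mem_map_of_mem (MulAut.conj (nWd hg F L)).toMonoidHom hl
    rw [genS_map_nWd hg hL fun r hr => hr.2.1] at h
    refine genS_mono hg ?_ h
    rintro _ ⟨r, hr, rfl⟩
    exact hLneg r hr.1 hr.2
  have hl0 : l = 1 := conj_eq_one_iff.1 (borel_inf_neg hg (genS_pos_le_borel hg (fun r hr => hr) hl1) hl2)
  rw [hl0, mul_one]
  exact hv

theorem eq_top_of_squares [Fintype F] {A : AddSubgroup F} {a : F} (ha : a ≠ 0) (haA : a ∈ A)
    (h : ∀ l : Fˣ, ∀ x ∈ A, (l : F) ^ 2 * x ∈ A) : ∀ x : F, x ∈ A := by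
  have hsq : ∀ y : F, y ^ 2 * a ∈ A := fun y => by
    by_cases hy : y = 0
    · simp [hy, A.zero_mem]
    · exact h (Units.mk0 y hy) a haA
  intro x
  by_cases h2 : ringChar F = 2
  · obtain ⟨y, hy⟩ := FiniteField.isSquare_of_char_two h2 (x / a)
    have := hsq y
    rwa [pow_two, ← hy, div_mul_cancel₀ _ ha] at this
  · have h2' : (2 : F) ≠ 0 := Ring.two_ne_zero h2
    have := A.sub_mem (hsq ((x / a + 1) / 2)) (hsq ((x / a - 1) / 2))
    convert this using 1
    field_simp
    ring

theorem exists_sep [Fintype F] {wk : Bool} (hsep : checkSep T wk = true)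
    (hq : 3 ≤ Fintype.card F) (hwk : wk = true → 4 ≤ Fintype.card F) {i k : ℕ} (hi : i < T.l) (hk : k < T.l)
    (hne : i ≠ k) : ∃ c : ℕ → Fˣ, wt T F c (T.smp i) = 1 ∧ wt T F c (T.smp k) ≠ 1 := by
  classical
  have h := allBelow_eq_true.1 (allBelow_eq_true.1 hsep i hi) k hk
  simp only [Bool.or_eq_true, nat_beq, anyBelow_eq_true, Bool.and_eq_true, beq_iff_eq] at h
  obtain ⟨m, hm, m', hm', a, -, b, -, h0, h1⟩ := h.resolve_left hne
  obtain ⟨l, hl⟩ : ∃ l : Fˣ, l ^ (if wk then 2 else 1) ≠ 1 := by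
    rcases wk with _ | _
    · obtain ⟨y, hy⟩ := Finset.exists_mem_notMem_of_card_lt_card (s := ({0, 1} : Finset F)) (t := Finset.univ)
        (lt_of_le_of_lt Finset.card_le_two (by rw [Finset.card_univ]; omega))
      simp only [Finset.mem_insert, Finset.mem_singleton, not_or] at hy
      exact ⟨Units.mk0 y hy.2.1, fun e => hy.2.2 (by simpa using congrArg Units.val e)⟩
    · obtain ⟨y, hy⟩ := Finset.exists_mem_notMem_of_card_lt_card (s := ({0, 1, -1} : Finset F)) (t := Finset.univ)
        (lt_of_le_of_lt Finset.card_le_three (by rw [Finset.card_univ]; have := hwk rfl; omega))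
      simp only [Finset.mem_insert, Finset.mem_singleton, not_or] at hy
      refine ⟨Units.mk0 y hy.2.1, fun e => ?_⟩
      rcases sq_eq_one_iff.1 (show y ^ 2 = 1 by simpa using congrArg Units.val e) with e' | e'
      · exact hy.2.2.1 e'
      · exact hy.2.2.2 e'
  refine ⟨Pi.mulSingle m (l ^ (Int.ofNat a - 3)) * Pi.mulSingle m' (l ^ (Int.ofNat b - 3)), ?_, ?_⟩
  all_goals rw [wt_mul, wt, wt, Finset.prod_eq_single m (fun j _ hj => by simp [hj])
    (fun h => absurd (Finset.mem_range.2 hm) h), Finset.prod_eq_single m' (fun j _ hj => by simp [hj])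
    (fun h => absurd (Finset.mem_range.2 hm') h), Pi.mulSingle_eq_same, Pi.mulSingle_eq_same, ← zpow_mul,
    ← zpow_mul, ← _root_.zpow_add]
  · rw [h0, zpow_zero]
  · intro e
    set v := (Int.ofNat a - 3) * T.A m (T.smp k) + (Int.ofNat b - 3) * T.A m' (T.smp k)
    have e' : l ^ v.natAbs = 1 := by
      rcases Int.natAbs_eq v with hv | hv <;> rw [hv] at e
      · simpa using e
      · simpa using e
    rcases h1 with h1 | ⟨hw, h1⟩
    · rw [h1, pow_one] at e'
      exact hl (by rw [e', one_pow])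
    · rw [h1] at e'
      rw [hw, if_pos rfl] at hl
      exact hl e'

/-- A weakly closed subgroup of `U` contains the fundamental root groups outside `J` modulo the others. -/
theorem simple_mem (g : T.GoodK K) [Fintype F] {wk : Bool} (hsep : checkSep T wk = true)
    (hq : 3 ≤ Fintype.card F) (hwk : wk = true → 4 ≤ Fintype.card F) {J : Set ℕ}
    {X : Subgroup (GL T.D.Idx F)} (hXV : X ≤ genS g.toGood F (T.outJ J))
    (htor : ∀ c, ∀ x ∈ X, tor T F c * x * (tor T F c)⁻¹ ∈ X)
    {k : ℕ} (hk : k < T.l) (hnot : ¬ X ≤ genS g.toGood F (T.posExc k)) (a : F) :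
    xg g.toGood (T.smp k) a ∈ X ⊔ genS g.toGood F (upper T J 0) := by
  classical
  have hg := g.toGood
  set D := genS hg F (upper T J 0) with hD
  have smpOut : ∀ i < T.l, i ∉ J → T.smp i ∈ T.outJ J := fun i hi hiJ =>
    ⟨hg.smp_ge hi, hg.smp_lt hi, i, hi, hiJ, by rw [c_smp hg hi hi, if_pos rfl]; norm_num⟩
  let SS : Finset ℕ → Set ℕ := fun S => {r | ∃ i ∈ S, i < T.l ∧ i ∉ J ∧ r = T.smp i} ∪ upper T J 0
  have hSS : ∀ S, SS S ⊆ T.outJ J := by
    rintro S r (⟨i, -, hi, hiJ, rfl⟩ | hr)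
    · exact smpOut i hi hiJ
    · exact hr.1
  have hnormS : ∀ S, ∀ u ∈ genS hg F (Set.Ico T.N T.n),
      u ∈ Subgroup.normalizer (genS hg F (SS S) : Set (GL T.D.Idx F)) := fun S u hu =>
    pos_normalizes g (k := 0) (hSS S) (fun _ _ => Nat.zero_le _) Set.subset_union_right hu
  have hposU : ∀ i < T.l, ∀ b : F, xg hg (T.smp i) b ∈ genS hg F (Set.Ico T.N T.n) := fun i hi b =>
    xg_mem_genS hg (show T.smp i ∈ Set.Ico T.N T.n from ⟨hg.smp_ge hi, hg.smp_lt hi⟩) b
  -- an element with non-zero coefficient at `k`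
  obtain ⟨x, hx, a0, ha0, z, hz, hxe⟩ : ∃ x ∈ X, ∃ a0 : F, a0 ≠ 0 ∧
      ∃ z ∈ genS hg F (SS ((Finset.range T.l).erase k)), x = xg hg (T.smp k) a0 * z := by
    obtain ⟨x, hx, hxn⟩ := SetLike.not_le_iff_exists.1 hnot
    have hsub : T.outJ J ⊆ insert (T.smp k) (SS ((Finset.range T.l).erase k)) := by
      intro r hr
      by_cases hrk : r = T.smp k
      · exact Set.mem_insert_iff.2 (Or.inl hrk)
      refine Set.mem_insert_iff.2 (Or.inr ?_)
      by_cases hs : ∀ i < T.l, r ≠ T.smp i
      · exact Or.inr ⟨hr, Nat.zero_le _, hs⟩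
      push Not at hs
      obtain ⟨i, hi, rfl⟩ := hs
      refine Or.inl ⟨i, Finset.mem_erase.2 ⟨fun e => hrk (by rw [e]), Finset.mem_range.2 hi⟩, hi, fun hiJ => ?_, rfl⟩
      obtain ⟨m, hm, hmJ, hne⟩ := hr.2.2
      rw [c_smp hg hi hm, if_neg (fun e : m = i => hmJ (e ▸ hiJ))] at hne
      exact hne rfl
    obtain ⟨a0, z, hz, he⟩ := genS_split g (fun b => hnormS _ _ (hposU k hk b)) (genS_mono hg hsub (hXV hx))
    refine ⟨x, hx, a0, fun h0 => hxn ?_, z, hz, he⟩
    rw [he, h0, xg_zero, one_mul]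
    refine genS_mono hg ?_ hz
    rintro r (⟨i, hiS, hi, -, rfl⟩ | hr)
    · exact ⟨hg.smp_ge hi, hg.smp_lt hi, fun e => (Finset.mem_erase.1 hiS).1 (hg.smp_inj hi hk e)⟩
    · exact ⟨hr.1.1, hr.1.2.1, hr.2.2 k hk⟩
  have red : ∀ S : Finset ℕ, k ∉ S → ∀ x ∈ X, ∀ a0 : F, a0 ≠ 0 → ∀ z ∈ genS hg F (SS S),
      x = xg hg (T.smp k) a0 * z → ∃ a1 : F, a1 ≠ 0 ∧ xg hg (T.smp k) a1 ∈ X ⊔ D := by
    intro S
    induction S using Finset.induction_on with
    | empty =>
      intro _ x hx a0 ha0 z hz he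
      refine ⟨a0, ha0, ?_⟩
      rw [show xg hg (T.smp k) a0 = x * z⁻¹ by rw [he]; group]
      refine mul_mem (Subgroup.mem_sup_left hx) (Subgroup.mem_sup_right (inv_mem (genS_mono hg ?_ hz)))
      rintro r (⟨i, hi, -⟩ | hr)
      · exact absurd hi (Finset.notMem_empty i)
      · exact hr
    | insert i S hiS ih =>
      intro hkS x hx a0 ha0 z hz he
      rw [Finset.mem_insert, not_or] at hkS
      by_cases hiJ : i < T.l ∧ i ∉ J
      swap
      · refine ih hkS.2 x hx a0 ha0 z (genS_mono hg ?_ hz) he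
        rintro r (⟨i', hi', h1, h2, rfl⟩ | hr)
        · rcases Finset.mem_insert.1 hi' with rfl | hi'
          · exact absurd ⟨h1, h2⟩ hiJ
          · exact Or.inl ⟨i', hi', h1, h2, rfl⟩
        · exact Or.inr hr
      obtain ⟨hi, hiJ⟩ := hiJ
      have hsub : SS (insert i S) ⊆ insert (T.smp i) (SS S) := by
        rintro r (⟨i', hi', h1, h2, rfl⟩ | hr)
        · rcases Finset.mem_insert.1 hi' with rfl | hi'
          · exact Set.mem_insert _ _
          · exact Set.mem_insert_iff.2 (Or.inr (Or.inl ⟨i', hi', h1, h2, rfl⟩))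
        · exact Set.mem_insert_iff.2 (Or.inr (Or.inr hr))
      obtain ⟨b, z', hz', rfl⟩ := genS_split g (fun b => hnormS _ _ (hposU i hi b)) (genS_mono hg hsub hz)
      obtain ⟨c, hci, hck⟩ := exists_sep (F := F) hsep hq hwk hi hk (Ne.symm hkS.1)
      set w := wt T F c (T.smp k) with hw
      have hz'' : tor T F c * z' * (tor T F c)⁻¹ ∈ genS hg F (SS S) :=
        (Subgroup.mem_normalizer_iff.1 (tor_normalizes hg (fun r hr => (hSS S hr).2.1) c) z').1 hz'
      set d := tor T F c * z' * (tor T F c)⁻¹ * z'⁻¹ with hd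
      refine ih hkS.2 (tor T F c * x * (tor T F c)⁻¹ * x⁻¹) (mul_mem (htor c x hx) (inv_mem hx))
        (((w : F) * a0) + -a0) ?_ (xg hg (T.smp k) a0 * (xg hg (T.smp i) b * d * (xg hg (T.smp i) b)⁻¹) *
          (xg hg (T.smp k) a0)⁻¹) ?_ ?_
      · intro h0
        have : ((w : F) - 1) * a0 = 0 := by linear_combination h0
        exact hck (Units.ext (sub_eq_zero.1 ((mul_eq_zero.1 this).resolve_right ha0)))
      · exact (Subgroup.mem_normalizer_iff.1 (hnormS S _ (hposU k hk a0)) _).1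
          ((Subgroup.mem_normalizer_iff.1 (hnormS S _ (hposU i hi b)) d).1 (mul_mem hz'' (inv_mem hz')))
      · have e1 : tor T F c * xg hg (T.smp k) a0 * (tor T F c)⁻¹ = xg hg (T.smp k) ((w : F) * a0) :=
          tor_xg hg c (hg.smp_lt hk) a0
        have e2 : tor T F c * xg hg (T.smp i) b * (tor T F c)⁻¹ = xg hg (T.smp i) b := by
          rw [tor_xg hg c (hg.smp_lt hi), hci, Units.val_one, one_mul]
        rw [he, hd, show tor T F c * (xg hg (T.smp k) a0 * (xg hg (T.smp i) b * z')) * (tor T F c)⁻¹ =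
          (tor T F c * xg hg (T.smp k) a0 * (tor T F c)⁻¹) * (tor T F c * xg hg (T.smp i) b * (tor T F c)⁻¹) *
            (tor T F c * z' * (tor T F c)⁻¹) by group, e1, e2, ← xg_add, ← xg_inv]
        group
  obtain ⟨a1, ha1, hm1⟩ := red _ (fun h => (Finset.mem_erase.1 h).1 rfl) x hx a0 ha0 z hz hxe
  let A : AddSubgroup F :=
    { carrier := {b | xg hg (T.smp k) b ∈ X ⊔ D}
      zero_mem' := by simp [one_mem]
      add_mem' := fun {b b'} h h' => by
        show xg hg (T.smp k) (b + b') ∈ X ⊔ D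
        rw [← xg_add]; exact mul_mem h h'
      neg_mem' := fun {b} h => by
        show xg hg (T.smp k) (-b) ∈ X ⊔ D
        rw [← xg_inv]; exact inv_mem h }
  refine eq_top_of_squares (A := A) ha1 hm1 (fun l b hb => ?_) a
  show xg hg (T.smp k) _ ∈ X ⊔ D
  have hle : X ⊔ D ≤ (X ⊔ D).comap (MulAut.conj (tor T F (Pi.mulSingle k l))).toMonoidHom := by
    refine sup_le (fun y hy => ?_) (fun y hy => ?_)
    · exact Subgroup.mem_sup_left (htor _ y hy)
    · exact Subgroup.mem_sup_right ((Subgroup.mem_normalizer_iff.1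
        (tor_normalizes hg (fun r hr => hr.1.2.1) _) y).1 hy)
  have := hle hb
  simp only [Subgroup.mem_comap, MulEquiv.coe_toMonoidHom, MulAut.conj_apply] at this
  rwa [tor_xg hg _ (hg.smp_lt hk), wt_single hg hk, A_smp_self hg hk, zpow_ofNat,
    Units.val_pow_eq_pow_val] at this

theorem filter_sum {α : Type*} [AddCommMonoid α] (L : List (ℕ × ℤ × ℕ × ℕ)) (k : ℕ) (f : ℕ × ℤ × ℕ × ℕ → α)
    (h : ∀ c ∈ L, k < c.1 → f c = 0) :
    ((L.filter fun c => Nat.ble c.1 k).map f).sum = (L.map f).sum := by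
  induction L with
  | nil => rfl
  | cons c L ih =>
    have ih' := ih fun d hd => h d (List.mem_cons_of_mem _ hd)
    by_cases hc : c.1 ≤ k
    · simp only [List.filter_cons, nat_ble.2 hc, if_true, List.map_cons, List.sum_cons, ih']
    · simp only [List.filter_cons, nat_ble_false.2 (not_le.1 hc), Bool.false_eq_true, if_false, List.map_cons,
        List.sum_cons, ih', h c List.mem_cons_self (not_le.1 hc), zero_add]

theorem shape_solve [Fintype F] {wk : Bool} (hq : 3 ≤ Fintype.card F) (hwk : wk = true → 4 ≤ Fintype.card F)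
    {k : ℕ} {L : List (ℕ × ℤ × ℕ × ℕ)} (hL : goodShape wk k L = true) (A : AddSubgroup F) (φ : ℕ → F → F)
    (hφ : ∀ x, φ k x = x)
    (h : ∀ t u : F, (L.map fun c => φ c.1 ((c.2.1 : F) * (-t) ^ c.2.2.1 * u ^ c.2.2.2)).sum ∈ A) :
    ∀ x, x ∈ A := by
  classical
  have hC : ∀ C : ℤ, C.natAbs = 1 → (C : F) * C = 1 := fun C hC => by
    rcases Int.natAbs_eq C with e | e <;> rw [e, hC] <;> simp
  obtain ⟨l, hl0, hl1⟩ : ∃ l : F, l ≠ 0 ∧ l ≠ 1 := by
    obtain ⟨y, hy⟩ := Finset.exists_mem_notMem_of_card_lt_card (s := ({0, 1} : Finset F)) (t := Finset.univ)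
      (lt_of_le_of_lt Finset.card_le_two (by rw [Finset.card_univ]; omega))
    simp only [Finset.mem_insert, Finset.mem_singleton, not_or] at hy
    exact ⟨y, hy.2⟩
  have four : ∀ (C : ℤ), C.natAbs = 1 → wk = true → ∀ (f₁ f₂ : F → F),
      (∀ s v : F, s ≠ 0 → v ≠ 0 → f₁ s + (f₂ v + (C : F) * (v ^ 2 / s)) ∈ A) → ∀ x, x ∈ A := by
    intro C hC1 hw f₁ f₂ hf x
    obtain ⟨y, hy⟩ := Finset.exists_mem_notMem_of_card_lt_card (s := ({0, 1, -1} : Finset F)) (t := Finset.univ)
      (lt_of_le_of_lt Finset.card_le_three (by rw [Finset.card_univ]; have := hwk hw; omega))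
    simp only [Finset.mem_insert, Finset.mem_singleton, not_or] at hy
    obtain ⟨-, hy0, hy1, hy2⟩ := hy
    have hne : (C : F) * (1 - l⁻¹) * (1 - y ^ 2) ≠ 0 := by
      refine mul_ne_zero (mul_ne_zero (fun e => by simpa [e] using hC C hC1) ?_) ?_
      · rw [sub_ne_zero]; exact fun e => hl1 (inv_eq_one.1 e.symm)
      · rw [sub_ne_zero]
        exact fun e => by rcases sq_eq_one_iff.1 e.symm with e' | e' <;> contradiction
    by_cases hx : x = 0
    · rw [hx]; exact A.zero_mem
    set s := (C : F) * (1 - l⁻¹) * (1 - y ^ 2) / x with hs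
    have hs0 : s ≠ 0 := div_ne_zero hne hx
    have hmem := A.sub_mem (A.sub_mem (hf s 1 hs0 one_ne_zero) (hf (s * l) 1 (mul_ne_zero hs0 hl0) one_ne_zero))
      (A.sub_mem (hf s y hs0 hy0) (hf (s * l) y (mul_ne_zero hs0 hl0) hy0))
    convert hmem using 1
    have : x = (C : F) * (1 - l⁻¹) * (1 - y ^ 2) / s := by rw [hs, div_div_cancel₀ hne]
    rw [this]
    field_simp
    ring
  intro x
  unfold goodShape at hL
  split at hL
  · rename_i e C
    simp only [Bool.and_eq_true, nat_beq] at hL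
    obtain ⟨rfl, h1⟩ := hL
    have := h 1 (-(C : F) * x)
    simp only [List.map_cons, List.map_nil, List.sum_cons, List.sum_nil, add_zero, hφ, pow_one] at this
    rwa [show (C : F) * -1 * (-(C : F) * x) = x by linear_combination x * hC C h1] at this
  · rename_i e1 C1 e C
    simp only [Bool.and_eq_true, nat_beq] at hL
    obtain ⟨rfl, h1⟩ := hL
    set t := -(x * C) / (1 - l) with ht
    have := A.sub_mem (h t 1) (h (t / l) l)
    simp only [List.map_cons, List.map_nil, List.sum_cons, List.sum_nil, add_zero, hφ, pow_one] at this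
    rw [show (C1 : F) * -(t / l) * l = (C1 : F) * -t * 1 by field_simp, add_sub_add_left_eq_sub] at this
    have hl' : (1 : F) - l ≠ 0 := sub_ne_zero.2 (Ne.symm hl1)
    convert this using 1
    rw [ht]
    field_simp
    linear_combination -x * hC C h1
  · rename_i e1 C1 e C
    simp only [Bool.and_eq_true, nat_beq] at hL
    obtain ⟨rfl, h1⟩ := hL
    set u := (x * C) / (1 - l) with hu
    have := A.sub_mem (h 1 u) (h l (u / l))
    simp only [List.map_cons, List.map_nil, List.sum_cons, List.sum_nil, add_zero, hφ, pow_one] at this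
    rw [show (C1 : F) * -l * (u / l) = (C1 : F) * -1 * u by field_simp, add_sub_add_left_eq_sub] at this
    have hl' : (1 : F) - l ≠ 0 := sub_ne_zero.2 (Ne.symm hl1)
    convert this using 1
    rw [hu]
    field_simp
    linear_combination -x * hC C h1
  · rename_i e1 C1 e2 C2 e C
    simp only [Bool.and_eq_true, nat_beq] at hL
    obtain ⟨hw, rfl, h1⟩ := hL
    refine four C h1 hw (fun s => φ e1 ((C1 : F) * s)) (fun v => φ e2 ((C2 : F) * v)) (fun s v hs hv => ?_) x
    have := h (-(s ^ 2 / v)) (v / s)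
    simp only [List.map_cons, List.map_nil, List.sum_cons, List.sum_nil, add_zero, hφ, pow_one, _root_.neg_neg] at this
    convert this using 1
    congr 1
    · congr 1; field_simp
    congr 1
    · congr 1; field_simp
    · field_simp
  · rename_i e1 C1 e2 C2 e C
    simp only [Bool.and_eq_true, nat_beq] at hL
    obtain ⟨hw, rfl, h1⟩ := hL
    refine four C h1 hw (fun s => φ e1 ((C1 : F) * s)) (fun v => φ e2 ((C2 : F) * v)) (fun s v hs hv => ?_) x
    have := h (-(v / s)) (s ^ 2 / v)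
    simp only [List.map_cons, List.map_nil, List.sum_cons, List.sum_nil, add_zero, hφ, pow_one, _root_.neg_neg] at this
    convert this using 1
    congr 1
    · congr 1; field_simp
    congr 1
    · congr 1; field_simp
    · field_simp
  · exact absurd hL Bool.false_ne_true

/-- Weakly closed subgroups of `U` are unipotent radicals. -/
theorem weakly_closed (g : T.GoodK K) [Fintype F] {wk : Bool} (hsep : checkSep T wk = true)
    (hsh : checkShapes T wk = true) (hq : 3 ≤ Fintype.card F) (hwk : wk = true → 4 ≤ Fintype.card F)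
    (X : Subgroup (GL T.D.Idx F)) (hXU : X ≤ genS g.toGood F (Set.Ico T.N T.n))
    (hwc : ∀ y ∈ T.D.group F, X.map (MulAut.conj y).toMonoidHom ≤ genS g.toGood F (Set.Ico T.N T.n) →
      X.map (MulAut.conj y).toMonoidHom = X) :
    ∃ J : Set ℕ, (∀ j ∈ J, j < T.l) ∧ X = genS g.toGood F (T.outJ J) := by
  classical
  have hg := g.toGood
  set U := genS hg F (Set.Ico T.N T.n) with hU
  have hnormX : ∀ y ∈ T.D.group F, (∀ x ∈ X, y * x * y⁻¹ ∈ U) → y ∈ Subgroup.normalizer (X : Set (GL T.D.Idx F)) := by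
    intro y hy h
    have e := hwc y hy (by rintro _ ⟨x, hx, rfl⟩; exact h x hx)
    rw [Subgroup.mem_normalizer_iff]
    refine fun x => ⟨fun hx => e ▸ ⟨x, hx, rfl⟩, fun hx => ?_⟩
    obtain ⟨x', hx', he⟩ := (e.symm ▸ hx : y * x * y⁻¹ ∈ X.map (MulAut.conj y).toMonoidHom)
    simp only [MulEquiv.coe_toMonoidHom, MulAut.conj_apply, mul_left_inj, mul_right_inj] at he
    exact he ▸ hx'
  have hB : T.D.borelSubgroup F ≤ Subgroup.normalizer (X : Set (GL T.D.Idx F)) := fun b hb =>
    hnormX b (borel_le_group hg hb) fun x hx =>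
      (Subgroup.mem_normalizer_iff.1 (borel_normalizes hg hb) x).1 (hXU hx)
  have htor : ∀ c, ∀ x ∈ X, tor T F c * x * (tor T F c)⁻¹ ∈ X := fun c x hx =>
    (Subgroup.mem_normalizer_iff.1 (hB (torus_le_borel hg c)) x).1 hx
  set J : Set ℕ := {j | j < T.l ∧ nG hg F j ∈ Subgroup.normalizer (X : Set (GL T.D.Idx F))} with hJ
  have hXV : X ≤ genS hg F (T.outJ J) := le_radical_of_invariant g hXU fun j hj => hj.2
  refine ⟨J, fun j hj => hj.1, le_antisymm hXV ?_⟩
  -- move up through the roots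
  have P : ∀ m, ∀ r ∈ T.outJ J, ((∃ i < T.l, r = T.smp i) ∨ r < m) → ∀ a : F,
      xg hg r a ∈ X ⊔ genS hg F (upper T J m) := by
    intro m
    induction m with
    | zero =>
      rintro r hr (⟨i, hi, rfl⟩ | h) a
      swap
      · exact absurd h (Nat.not_lt_zero r)
      have hiJ : i ∉ J := fun hiJ => by
        obtain ⟨k, hk, hkJ, hne⟩ := hr.2.2
        rw [c_smp hg hi hk, if_neg (fun e : k = i => hkJ (e ▸ hiJ))] at hne
        exact hne rfl
      refine simple_mem g hsep hq hwk hXV htor hi (fun hle => hiJ ⟨hi, ?_⟩) a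
      refine hnormX _ (nG_mem_group hg i) fun x hx => ?_
      have h := (Subgroup.mem_normalizer_iff.1 (nG_normalizes hg hi (S := T.posExc i) (fun r hr => hr.2.1)
        fun r hr => ref_posExc hg hi hr) x).1 (hle hx)
      exact genS_mono hg (S' := Set.Ico T.N T.n) (fun r hr => ⟨hr.1, hr.2.1⟩) h
    | succ m ih =>
      by_cases hm : m ∈ T.outJ J ∧ ∀ i < T.l, m ≠ T.smp i
      swap
      · intro r hr h a
        have hsub : upper T J m ⊆ upper T J (m + 1) := fun s hs => ⟨hs.1, by
          have := hs.2.1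
          rcases Nat.lt_or_eq_of_le this with h | rfl
          · omega
          · exact absurd ⟨hs.1, hs.2.2⟩ hm, hs.2.2⟩
        refine sup_le_sup_left (genS_mono hg hsub) X (ih r hr ?_ a)
        rcases h with h | h
        · exact Or.inl h
        rcases Nat.lt_succ_iff_lt_or_eq.1 h with h | rfl
        · exact Or.inr h
        · exact Or.inl (by by_contra hc; push Not at hc; exact hm ⟨hr, hc⟩)
      obtain ⟨hmo, hms⟩ := hm
      set M := X ⊔ genS hg F (upper T J (m + 1)) with hM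
      set M0 := X ⊔ genS hg F (upper T J m) with hM0
      have hUM : ∀ u ∈ U, u ∈ Subgroup.normalizer (M : Set (GL T.D.Idx F)) := by
        intro u hu
        have h1 := pos_normalizes g (J := J) (k := m + 1) (fun s hs => hs.1)
          (fun s hs => by have := hs.2.1; omega) subset_rfl hu
        have h2 := hB (genS_pos_le_borel hg (fun r hr => hr) hu)
        exact Subgroup.normalizer_inf_normalizer_le_normalizer_sup _ _ ⟨h2, h1⟩
      have hins : upper T J m ⊆ insert m (upper T J (m + 1)) := fun s hs => by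
        rcases Nat.lt_or_eq_of_le hs.2.1 with h | rfl
        · exact Set.mem_insert_iff.2 (Or.inr ⟨hs.1, h, hs.2.2⟩)
        · exact Set.mem_insert _ _
      have hmU : ∀ a : F, xg hg m a ∈ U := fun a =>
        xg_mem_genS hg (show m ∈ Set.Ico T.N T.n from outJ_pos hmo) a
      -- modulo `M` everything lies in the root group of `m`
      let Q : GL T.D.Idx F → F → Prop := fun z a => (xg hg m a)⁻¹ * z ∈ M
      have hQ : ∀ z ∈ M0, ∃ a, Q z a := by
        intro z hz
        rw [hM0, ← SetLike.mem_coe, Subgroup.coe_mul_of_right_le_normalizer_left _ _ (fun w hw => hB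
          (genS_pos_le_borel hg (fun r hr => outJ_pos hr.1) hw))] at hz
        obtain ⟨x, hx, w, hw, rfl⟩ := hz
        obtain ⟨a, y, hy, rfl⟩ := genS_split g (S := upper T J (m + 1)) (fun b =>
          pos_normalizes g (k := m + 1) (fun s hs => hs.1) (fun s hs => by have := hs.2.1; omega) subset_rfl (hmU b))
          (genS_mono hg hins hw)
        refine ⟨a, ?_⟩
        show (xg hg m a)⁻¹ * (x * (xg hg m a * y)) ∈ M
        rw [show (xg hg m a)⁻¹ * (x * (xg hg m a * y)) = (xg hg m a)⁻¹ * x * xg hg m a * y by group]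
        refine mul_mem (Subgroup.mem_sup_left ?_) (Subgroup.mem_sup_right hy)
        have := (Subgroup.mem_normalizer_iff.1
          (inv_mem (hB (genS_pos_le_borel hg (fun r hr => hr) (hmU a)))) x).1 hx
        rwa [inv_inv] at this
      have hcomm : ∀ z ∈ M0, ∀ u ∈ U, u * z * u⁻¹ * z⁻¹ ∈ M := by
        intro z hz u hu
        obtain ⟨a, ha⟩ := hQ z hz
        obtain ⟨z', hz', e⟩ := conj_low g hmo hu a
        have e1 : u * z * u⁻¹ * z⁻¹ = xg hg m a * (z' * (u * ((xg hg m a)⁻¹ * z) * u⁻¹) *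
            ((xg hg m a)⁻¹ * z)⁻¹) * (xg hg m a)⁻¹ := by
          calc u * z * u⁻¹ * z⁻¹ = (u * xg hg m a * u⁻¹) * (u * ((xg hg m a)⁻¹ * z) * u⁻¹) * z⁻¹ := by group
            _ = _ := by rw [e]; group
        rw [e1]
        exact (Subgroup.mem_normalizer_iff.1 (hUM _ (hmU a)) _).1 (mul_mem (mul_mem (Subgroup.mem_sup_right hz')
          ((Subgroup.mem_normalizer_iff.1 (hUM u hu) _).1 ha)) (inv_mem ha))
      have key : ∀ a : F, xg hg m a ∈ M := by
        have h0 := allBelow_eq_true.1 hsh m hmo.2.1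
        simp only [Bool.or_eq_true, nat_blt, anyBelow_eq_true, nat_beq, Bool.and_eq_true, nat_ble,
          Bool.not_eq_true', nat_beq_false] at h0
        rcases h0 with (h0 | ⟨j, hj, h0⟩) | ⟨i, hi, b, hbn, hbN, hbi, hshape⟩
        · have := hmo.1; omega
        · exact absurd h0 (hms j hj)
        have hsi := hg.smp_lt hi
        have hsN := hg.smp_ge hi
        have hbneg : b ≠ T.neg (T.smp i) := by have := (neg_lt_N_iff hsi).2 hsN; omega
        obtain ⟨c0, hc0, hc0m⟩ : ∃ c ∈ T.cTerms (T.smp i) b, c.1 = m := by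
          have hs := hshape
          unfold goodShape at hs
          split at hs <;> rename_i heq <;> simp only [Bool.and_eq_true, nat_beq, Bool.false_eq_true] at hs
          all_goals
            first
              | exact ⟨_, (List.mem_filter.1 (heq ▸ List.mem_cons_self)).1, hs.1⟩
              | exact ⟨_, (List.mem_filter.1 (heq ▸ List.mem_cons_of_mem _ List.mem_cons_self)).1, hs.1⟩
              | exact ⟨_, (List.mem_filter.1 (heq ▸ List.mem_cons_of_mem _ (List.mem_cons_of_mem _ List.mem_cons_self))).1, hs.2.1⟩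
        have hsides : T.smp i ∈ T.outJ J ∨ b ∈ T.outJ J := by
          by_contra hcon
          push Not at hcon
          have hain : T.smp i ∈ T.inJ J := (outJ_or_inJ hsN hsi).resolve_left hcon.1
          have hbin : b ∈ T.inJ J := (outJ_or_inJ hbN hbn).resolve_left hcon.2
          obtain ⟨-, -, k, hk, hkJ, hne⟩ := hmo
          obtain ⟨q1, -, -, q4, -⟩ := cTerms_mem hg hsi hbn hc0
          have := phi_linear (K := K) q4 k
          have h1 := phi_sign g hk hsi
          have h2 := phi_sign g hk hbn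
          have h3 := phi_sign g hk q1
          rw [hain.2 k hk hkJ] at h1
          rw [hbin.2 k hk hkJ] at h2
          rw [show T.phi K k (T.smp i) = 0 by omega, show T.phi K k b = 0 by omega, mul_zero, mul_zero,
            add_zero] at this
          rw [hc0m] at this h3
          omega
        have hlt := (cTerms_mem hg hsi hbn hc0).2.2.2.2 hsN hbN
        rw [hc0m] at hlt
        let φ : ℕ → F → F := fun e s =>
          if e = m then s else if h : e < m ∧ e ∈ T.outJ J then (hQ _ (ih e h.2 (Or.inr h.1) s)).choose else 0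
        have hφ : ∀ c ∈ T.cTerms (T.smp i) b, ∀ s : F, Q (xg hg c.1 s) (φ c.1 s) := by
          intro c hc s
          have hco := term_outJ g hsN hsi hbN hbn hsides hc
          simp only [φ]
          split_ifs with h1 h2
          · show (xg hg m s)⁻¹ * xg hg c.1 s ∈ M
            rw [h1, inv_mul_cancel]; exact one_mem _
          · exact (hQ _ (ih c.1 h2.2 (Or.inr h2.1) s)).choose_spec
          · show (xg hg m 0)⁻¹ * xg hg c.1 s ∈ M
            rw [xg_zero, inv_one, one_mul]
            refine Subgroup.mem_sup_right (xg_mem_genS hg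
              (show c.1 ∈ upper T J (m + 1) from ⟨hco, ?_, term_nonsimple g hsN hsi hbN hbn hbi.symm hc⟩) _)
            have : ¬ c.1 < m := fun h => h2 ⟨h, hco⟩
            omega
        have hQmul : ∀ z z' a a', Q z a → Q z' a' → Q (z * z') (a + a') := by
          intro z z' a a' h h'
          show (xg hg m (a + a'))⁻¹ * (z * z') ∈ M
          have h2 := (Subgroup.mem_normalizer_iff.1 (inv_mem (hUM _ (hmU a'))) _).1 h
          rw [inv_inv] at h2
          rw [← xg_add, show (xg hg m a * xg hg m a')⁻¹ * (z * z') =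
            ((xg hg m a')⁻¹ * ((xg hg m a)⁻¹ * z) * xg hg m a') * ((xg hg m a')⁻¹ * z') by group]
          exact mul_mem h2 h'
        let A : AddSubgroup F :=
          { carrier := {b | xg hg m b ∈ M}
            zero_mem' := by simp [one_mem]
            add_mem' := fun {b b'} h h' => by
              show xg hg m (b + b') ∈ M
              rw [← xg_add]; exact mul_mem h h'
            neg_mem' := fun {b} h => by
              show xg hg m (-b) ∈ M
              rw [← xg_inv]; exact inv_mem h }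
        refine shape_solve hq hwk hshape A φ (fun x => if_pos rfl) fun t u => ?_
        rw [filter_sum]
        swap
        · intro c hc hlt'
          simp only [φ, if_neg (show c.1 ≠ m by omega), dif_neg (show ¬ (c.1 < m ∧ c.1 ∈ T.outJ J) by rintro ⟨h, -⟩; omega)]
        set W := ((cVal T F (T.smp i) b t u).map fun e => xg hg e.1 e.2).prod with hW
        have hWM : W ∈ M := by
          have hW' : W = (xg hg b u)⁻¹ * (xg hg (T.smp i) t)⁻¹ * xg hg b u * xg hg (T.smp i) t := by
            rw [mul_assoc _ (xg hg b u), xg_comm g.toGoodA hsi hbn hbi hbneg t u, ← hW]; group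
          have hU1 : xg hg (T.smp i) t ∈ U := xg_mem_genS hg (show T.smp i ∈ Set.Ico T.N T.n from ⟨hsN, hsi⟩) t
          have hU2 : xg hg b u ∈ U := xg_mem_genS hg (show b ∈ Set.Ico T.N T.n from ⟨hbN, hbn⟩) u
          rw [hW']
          rcases hsides with hs | hs
          · have hz : xg hg (T.smp i) t ∈ M0 := ih _ hs (Or.inl ⟨i, hi, rfl⟩) t
            have := hcomm _ (inv_mem hz) _ (inv_mem hU2)
            simpa [mul_assoc] using this
          · have hz : xg hg b u ∈ M0 := ih b hs (Or.inr hlt.2) u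
            have := hcomm _ hz _ (inv_mem hU1)
            have h2 := (Subgroup.mem_normalizer_iff.1 (inv_mem (hUM _ hU2)) _).1 this
            simpa [mul_assoc] using h2
        have hsum : Q W ((T.cTerms (T.smp i) b).map fun c =>
            φ c.1 ((c.2.1 : F) * (-t) ^ c.2.2.1 * u ^ c.2.2.2)).sum := by
          rw [hW, cVal, List.map_map]
          have : ∀ L : List (ℕ × ℤ × ℕ × ℕ), (∀ c ∈ L, c ∈ T.cTerms (T.smp i) b) →
              Q (L.map ((fun e => xg hg e.1 e.2) ∘ fun c => (c.1, (c.2.1 : F) * (-t) ^ c.2.2.1 * u ^ c.2.2.2))).prod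
                (L.map fun c => φ c.1 ((c.2.1 : F) * (-t) ^ c.2.2.1 * u ^ c.2.2.2)).sum := by
            intro L
            induction L with
            | nil => intro _; show (xg hg m 0)⁻¹ * 1 ∈ M; simp [one_mem]
            | cons c L ihL =>
              intro hL
              rw [List.map_cons, List.map_cons, List.prod_cons, List.sum_cons]
              exact hQmul _ _ _ _ (hφ c (hL c List.mem_cons_self) _) (ihL fun d hd => hL d (List.mem_cons_of_mem _ hd))
          exact this _ fun c hc => hc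
        show xg hg m _ ∈ M
        have h3 := mul_mem hWM (inv_mem hsum)
        simpa [mul_assoc] using h3
      intro r hr h a
      have hle : M0 ≤ M := by
        refine sup_le le_sup_left (genS_le hg fun s hs b => ?_)
        rcases Set.mem_insert_iff.1 (hins hs) with rfl | h
        · exact key b
        · exact Subgroup.mem_sup_right (xg_mem_genS hg h b)
      by_cases hrm : r = m
      · subst hrm; exact key a
      refine hle (ih r hr ?_ a)
      rcases h with h | h
      · exact Or.inl h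
      · exact Or.inr (by omega)
  refine genS_le hg fun r hr a => ?_
  have h := P T.n r hr (Or.inr hr.2.1) a
  have hempty : upper T J T.n = ∅ := Set.eq_empty_iff_forall_notMem.2 fun s hs => by
    have := hs.1.2.1; have := hs.2.1; omega
  rw [hempty] at h
  refine sup_le le_rfl (genS_le hg fun s hs => absurd hs (Set.notMem_empty s)) h

end Cfsg.Agent.ChevAut
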